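import Cfsg.Agent.H27.CentralChar
import Mathlib.NumberTheory.NumberField.InfinitePlace.Embeddings
import Mathlib.FieldTheory.IntermediateField.Adjoin.Algebra
import Mathlib.FieldTheory.IntermediateField.Adjoin.Basic

/-!
Burnside's lemma: an algebraic integer that is an average of roots of unity is zero or has absolute
value one; consequences for character values.
-/

set_option autoImplicit false

namespace Cfsg.Agent.H27

open Module

/-- If an average of `n` roots of unity is an algebraic integer, it is zero or has norm one. -/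
theorem average_roots {n m : ℕ} (hn : 0 < n) (hm : 0 < m) (μ : Fin n → ℂ)
    (hμ : ∀ i, μ i ^ m = 1) (α : ℂ) (hα : (n : ℂ) * α = ∑ i, μ i) (hint : IsIntegral ℤ α) :
    α = 0 ∨ ‖α‖ = 1 := by
  classical
  let K : IntermediateField ℚ ℂ := IntermediateField.adjoin ℚ (Set.range μ)
  have hmem : ∀ i, μ i ∈ K := fun i => IntermediateField.subset_adjoin ℚ _ ⟨i, rfl⟩
  have hn0 : (n : ℂ) ≠ 0 := by exact_mod_cast hn.ne'
  have hαK : α ∈ K := by
    have : α = ((n : ℚ)⁻¹ : ℚ) • ∑ i, μ i := by
      rw [← hα, Algebra.smul_def]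
      simp only [map_inv₀, map_natCast]
      field_simp
    rw [this]
    exact IntermediateField.smul_mem _ (sum_mem fun i _ => hmem i)
  haveI : FiniteDimensional ℚ K := by
    refine IntermediateField.finiteDimensional_adjoin ?_
    rintro x ⟨i, rfl⟩
    exact (isIntegral_of_pow_eq_one hm.ne' (hμ i)).tower_top
  haveI : NumberField K := ⟨⟩
  let x : K := ⟨α, hαK⟩
  have hxi : IsIntegral ℤ x := by
    have : IsIntegral ℤ (algebraMap K ℂ x) := hint
    exact (isIntegral_algebraMap_iff (algebraMap K ℂ).injective).mp this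
  have hx : ∀ φ : K →+* ℂ, ‖φ x‖ ≤ 1 := by
    intro φ
    let ν : Fin n → K := fun i => ⟨μ i, hmem i⟩
    have h1 : (n : K) * x = ∑ i, ν i := by
      apply Subtype.ext
      push_cast
      simpa [x, ν] using hα
    have h2 : (n : ℂ) * φ x = ∑ i, φ (ν i) := by
      have := congrArg φ h1
      simpa using this
    have h3 : ∀ i, ‖φ (ν i)‖ = 1 := by
      intro i
      have : φ (ν i) ^ m = 1 := by
        rw [← map_pow]
        have : (ν i) ^ m = 1 := Subtype.ext (by simpa [ν] using hμ i)
        rw [this, map_one]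
      exact Complex.norm_eq_one_of_pow_eq_one this hm.ne'
    have h4 : ‖(n : ℂ) * φ x‖ ≤ n := by
      rw [h2]
      refine (norm_sum_le _ _).trans ?_
      simp [h3]
    rw [norm_mul, Complex.norm_natCast] at h4
    have hn' : (0 : ℝ) < n := by exact_mod_cast hn
    nlinarith [norm_nonneg (φ x)]
  by_cases h0 : α = 0
  · exact Or.inl h0
  · right
    have hx0 : x ≠ 0 := fun h => h0 (congrArg Subtype.val h)
    obtain ⟨k, hk, h⟩ := NumberField.Embeddings.pow_eq_one_of_norm_le_one K ℂ hx0 hxi hx
    have h5 : α ^ k = 1 := by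
      have := congrArg Subtype.val h
      simpa [x] using this
    exact Complex.norm_eq_one_of_pow_eq_one h5 hk.ne'

section

variable {G : Type*} [Group G] [Fintype G]

/-- Burnside's lemma: if `χ(g)/χ(1)` is an algebraic integer then `χ(g) = 0` or `|χ(g)| = χ(1)`. -/
theorem char_zero_or_norm {χ : G → ℂ} (hχ : IsCharacter G χ) (h1 : χ 1 ≠ 0) (g : G)
    (hint : IsIntegral ℤ (χ g / χ 1)) : χ g = 0 ∨ ‖χ g‖ = charDegree χ := by
  have hdeg := charDegree_cast hχ
  have hχ' := hχ
  obtain ⟨n, ρ, rfl⟩ := hχ'
  have hn : charDegree ρ.character = n := by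
    have : (charDegree ρ.character : ℂ) = n := by rw [hdeg]; simp
    exact_mod_cast this
  have hn1 : ρ.character 1 = n := by simp
  have hn0 : (n : ℂ) ≠ 0 := by rwa [hn1] at h1
  have hnpos : 0 < n := Nat.pos_of_ne_zero (by exact_mod_cast hn0)
  obtain ⟨μ, hμ, h⟩ := exists_char_powerSum ρ g (orderOf g) (orderOf_pos g).ne'
    (pow_orderOf_eq_one g)
  have hfr : finrank ℂ (Fin n → ℂ) = n := by simp
  have hsum : (n : ℂ) * (ρ.character g / ρ.character 1) = ∑ i, μ (Fin.cast hfr.symm i) := by
    have h2 := h 1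
    simp only [pow_one] at h2
    rw [hn1, mul_div_cancel₀ _ hn0, h2]
    exact (Fintype.sum_equiv (finCongr hfr) _ _ fun i => rfl)
  rcases average_roots hnpos (orderOf_pos g) (fun i => μ (Fin.cast hfr.symm i))
    (fun i => hμ _) _ hsum hint with h3 | h3
  · left
    rcases div_eq_zero_iff.mp h3 with h4 | h4
    · exact h4
    · exact absurd h4 h1
  · right
    rw [norm_div, hn1, Complex.norm_natCast] at h3
    rw [hn]
    have : (n : ℝ) ≠ 0 := by exact_mod_cast hnpos.ne'
    field_simp at h3
    exact h3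

/-- If the degree is coprime to the class size then the value is zero or of maximal norm. -/
theorem irr_coprime_class {χ : G → ℂ} (hχ : IsIrrCharacter G χ) (g : G)
    (hcop : Nat.Coprime (charDegree χ) (Subgroup.centralizer ({g} : Set G)).index) :
    χ g = 0 ∨ ‖χ g‖ = charDegree χ := by
  have hchar := isIrr_isCharacter hχ
  have h1 := isIrr_one_ne_zero hχ
  refine char_zero_or_norm hchar h1 g ?_
  have hbez := Nat.isCoprime_iff_coprime.mpr hcop
  obtain ⟨u, v, huv⟩ := hbez
  have h2 : χ g / χ 1 = (u : ℂ) * χ g + (v : ℂ) * centralChar χ g := by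
    have h3 : (u : ℂ) * (charDegree χ : ℂ)
        + (v : ℂ) * ((Subgroup.centralizer ({g} : Set G)).index : ℂ) = 1 := by
      exact_mod_cast huv
    rw [charDegree_cast hchar] at h3
    unfold centralChar
    field_simp
    linear_combination (-(χ g)) * h3
  rw [h2]
  refine IsIntegral.add ?_ ?_
  · exact (isIntegral_algebraMap (R := ℤ) (A := ℂ) (x := u)).mul (isCharacter_isIntegral hchar g)
  · exact (isIntegral_algebraMap (R := ℤ) (A := ℂ) (x := v)).mul (centralChar_isIntegral hχ g)

end

end Cfsg.Agent.H27
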