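import Cfsg.Agent.H27.GlSol3
import Cfsg.Agent.H27.Galois
import Cfsg.Agent.S0867

set_option autoImplicit false

/-! # Canonical extensions, coprime cyclic case -/

universe u

namespace Cfsg.Agent.H27

open Subgroup Cfsg Cfsg.Agent.H3 Cfsg.Agent.H11
open scoped ComplexConjugate Pointwise

section Det

variable {G : Type u} [Group G] [Finite G]

theorem detChar_ringHom {χ : G → ℂ} (hχ : IsCharacter G χ) (σ : ℂ →+* ℂ) (g : G) :
    detChar (fun g => σ (χ g)) g = σ (detChar χ g) := by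
  obtain ⟨n, ρ, rfl⟩ := hχ
  let M : Module.End ℂ (Fin n → ℂ) →* Matrix (Fin n) (Fin n) ℂ :=
    (LinearMap.toMatrixAlgEquiv' (R := ℂ) (n := Fin n) : _ →* _)
  let M' : Matrix (Fin n) (Fin n) ℂ →* Module.End ℂ (Fin n → ℂ) :=
    (LinearMap.toMatrixAlgEquiv' (R := ℂ) (n := Fin n)).symm
  let ρ' : Representation ℂ G (Fin n → ℂ) :=
    M'.comp (((σ.mapMatrix : Matrix (Fin n) (Fin n) ℂ →+* _) : _ →* _).comp (M.comp ρ))
  have h1 : (fun g => σ (ρ.character g)) = ρ'.character := by
    funext g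
    change σ (LinearMap.trace ℂ _ (ρ g)) =
      LinearMap.trace ℂ _ (Matrix.toLin' ((LinearMap.toMatrix' (ρ g)).map σ))
    rw [Matrix.trace_toLin'_eq, LinearMap.trace_eq_matrix_trace ℂ (Pi.basisFun ℂ (Fin n))]
    simp only [Matrix.trace, map_sum]
    rfl
  rw [h1, detChar_eq, detChar_eq]
  change LinearMap.det (Matrix.toLin' ((LinearMap.toMatrix' (ρ g)).map σ)) = _
  rw [LinearMap.det_toLin', ← RingHom.mapMatrix_apply, ← RingHom.map_det, LinearMap.det_toMatrix']

theorem detOrder_ringEquiv {χ : G → ℂ} (hχ : IsCharacter G χ) (σ : ℂ ≃+* ℂ) :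
    detOrder (fun g => σ (χ g)) = detOrder χ := by
  unfold detOrder
  have h1 : detChar (fun g => σ (χ g)) = fun g => σ (detChar χ g) :=
    funext fun g => detChar_ringHom hχ (σ : ℂ →+* ℂ) g
  rw [h1]
  let E : (G → ℂ) →* (G → ℂ) :=
    { toFun := fun f g => σ (f g)
      map_one' := by funext g; simp
      map_mul' := by intro a b; funext g; simp }
  have hE : Function.Injective E := by
    intro a b h
    funext g
    exact σ.injective (congrFun h g)
  exact orderOf_injective E hE (detChar χ)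

theorem detOrder_pow_coprime {χ : G → ℂ} (hχ : IsCharacter G χ) {m : ℕ}
    (hm : m.Coprime (Nat.card G)) : detOrder (fun g => χ (g ^ m)) = detOrder χ := by
  have hn : Nat.card G ≠ 0 := Nat.card_pos.ne'
  obtain ⟨σ, hσ⟩ := exists_ringEquiv_pow hn hm
  rw [← detOrder_ringEquiv hχ σ]
  congr 1
  funext g
  exact (char_galois_apply hχ (σ : ℂ →+* ℂ) hn hσ (pow_card_eq_one' (x := g))).symm

theorem detOrder_dvd {χ : G → ℂ} (hχ : IsCharacter G χ) : detOrder χ ∣ Nat.card G := by
  obtain ⟨μ, hμ⟩ := exists_hf_det hχ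
  rw [detOrder, hμ, orderOf_hf]
  exact orderOf_hom_dvd_card μ

end Det

variable {Γ : Type u} [Group Γ]

/-- canonical extension -/
structure CanExt (K : Subgroup Γ) (χ : IrrCharacter K) (X : Γ → ℂ) : Prop where
  irr : IsIrrCharacter Γ X
  res : ∀ k : K, X k = (χ : K → ℂ) k
  det : (detOrder X).Coprime K.index

theorem canExt_aux [Finite Γ] {K : Subgroup Γ} [hK : K.Normal]
    (hcop : (Nat.card K).Coprime K.index)
    (χ : IrrCharacter K) (hinv : Inv (Set.univ) K χ) :
    ∃ X : Γ → ℂ, CanExt K χ X ∧ ∀ Y, CanExt K χ Y → Y = X := by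
  have hd1 := charDegree_spec χ.2
  have hdvd : charDegree (χ : K → ℂ) ∣ Nat.card K := irr_degree_dvd_card χ.2 hd1.1
  obtain ⟨X, ⟨h1, h2, h3⟩, h4⟩ := Cfsg.Agent.S0867.result K (χ : K → ℂ) χ.2
    (fun g n => hinv g (Set.mem_univ g) n _ rfl) (charDegree (χ : K → ℂ)) hd1.1 (by
      apply Nat.Coprime.mul_right
      · exact (Nat.Coprime.coprime_dvd_left (detOrder_dvd (irr_isChar χ.2)) hcop).symm
      · exact (Nat.Coprime.coprime_dvd_left hdvd hcop).symm)
  refine ⟨X, ⟨h1, h2, ?_⟩, fun Y hY => h4 Y hY.irr hY.res hY.det.symm⟩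
  rw [h3]
  exact Nat.Coprime.coprime_dvd_left (detOrder_dvd (irr_isChar χ.2)) hcop

theorem CanExt.inv_univ [Finite Γ] {K : Subgroup Γ} {χ : IrrCharacter K} {X : Γ → ℂ}
    (h : CanExt K χ X) : Inv (Set.univ) K χ := by
  intro x _ k k' hk
  rw [← h.res, ← h.res, hk]
  exact irr_classFun h.irr k x

theorem CanExt.unique [Finite Γ] {K : Subgroup Γ} [hK : K.Normal]
    (hcop : (Nat.card K).Coprime K.index) {χ : IrrCharacter K} {X Y : Γ → ℂ}
    (hX : CanExt K χ X) (hY : CanExt K χ Y) : X = Y := by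
  obtain ⟨Z, _, h⟩ := canExt_aux hcop χ hX.inv_univ
  rw [h X hX, h Y hY]

/-- Galois invariance of the canonical extension. -/
theorem CanExt.pow [Finite Γ] {K : Subgroup Γ} [hK : K.Normal]
    (hcop : (Nat.card K).Coprime K.index) {χ : IrrCharacter K} {X : Γ → ℂ}
    (hX : CanExt K χ X) {m : ℕ} (hm : m.Coprime (Nat.card Γ)) (hm1 : m ≡ 1 [MOD Nat.card K])
    (g : Γ) : X (g ^ m) = X g := by
  have hY : CanExt K χ (fun g => X (g ^ m)) := by
    refine ⟨isIrr_pow_coprime hX.irr hm, fun k => ?_, ?_⟩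
    · have h1 : (k : Γ) ^ m = k := by
        have h2 : (k : K) ^ m = k := by
          conv_rhs => rw [← pow_one k]
          rw [pow_eq_pow_iff_modEq]
          exact hm1.of_dvd (orderOf_dvd_natCard k)
        exact congrArg Subtype.val h2
      show X ((k : Γ) ^ m) = _
      rw [h1]; exact hX.res k
    · rw [detOrder_pow_coprime (irr_isChar hX.irr) hm]; exact hX.det
  exact congrFun (hY.unique hcop hX) g

/-- The hypotheses of the coprime cyclic case. -/
structure CopH (K C : Subgroup Γ) (s : Γ) : Prop where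
  Kn : K.Normal
  hcop : (Nat.card K).Coprime (orderOf s)
  hgen : K ⊔ zpowers s = ⊤
  hC : ∀ k, k ∈ C ↔ k ∈ K ∧ s * k = k * s

namespace CopH

variable {K C : Subgroup Γ} {s : Γ}

theorem C_le (h : CopH K C s) : C ≤ K := fun k hk => ((h.hC k).mp hk).1

theorem card_index [Finite Γ] (h : CopH K C s) : K.index = orderOf s := by
  haveI := h.Kn
  have h1 : K.IsComplement' (zpowers s) := by
    apply isComplement'_of_disjoint_and_mul_eq_univ
    · rw [disjoint_iff]
      apply inf_eq_bot_of_coprime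
      rw [Nat.card_zpowers]; exact h.hcop
    · rw [← Subgroup.normal_mul K (zpowers s), h.hgen]; rfl
  rw [h1.symm.index_eq_card, Nat.card_zpowers]

theorem hcop' [Finite Γ] (h : CopH K C s) : (Nat.card K).Coprime K.index := by
  rw [h.card_index]; exact h.hcop

theorem zpowers_pow [Finite Γ] {s : Γ} {j : ℕ} (hj : j.Coprime (orderOf s)) :
    zpowers (s ^ j) = zpowers s := by
  apply le_antisymm
  · rw [zpowers_le]; exact pow_mem (mem_zpowers s) j
  · rw [zpowers_le]
    obtain ⟨m, hm⟩ := exists_pow_eq_self_of_coprime (x := s) hj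
    have h2 := pow_mem (mem_zpowers (s ^ j)) m
    rwa [hm] at h2

theorem of_zpowers_eq (h : CopH K C s) {t : Γ} (ht : zpowers t = zpowers s) :
    CopH K C t := by
  refine ⟨h.Kn, ?_, by rw [ht]; exact h.hgen, fun k => ?_⟩
  · rw [← Nat.card_zpowers, ht, Nat.card_zpowers]; exact h.hcop
  · rw [h.hC]
    apply and_congr_right
    intro _
    have h1 : ∀ {a b : Γ}, a ∈ zpowers b → b * k = k * b → a * k = k * a := by
      intro a b hab hc
      obtain ⟨m, rfl⟩ := mem_zpowers_iff.mp hab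
      exact (show Commute b k from hc).zpow_left m
    constructor
    · exact h1 (by rw [← ht]; exact mem_zpowers t)
    · exact h1 (by rw [ht]; exact mem_zpowers s)

theorem pow [Finite Γ] (h : CopH K C s) {j : ℕ} (hj : j.Coprime (orderOf s)) :
    CopH K C (s ^ j) := h.of_zpowers_eq (zpowers_pow hj)

/-- a power isolating the `s`-part -/
theorem exists_exp (h : CopH K C s) [Finite Γ] : ∃ m : ℕ, s ^ m = s ∧ ∀ c ∈ K, c ^ m = 1 := by
  obtain ⟨m, h1, h2⟩ := Nat.chineseRemainder h.hcop 0 1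
  refine ⟨m, ?_, fun c hc => ?_⟩
  · conv_rhs => rw [← pow_one s]
    rw [pow_eq_pow_iff_modEq]; exact h2
  · have h3 : Nat.card K ∣ m := (Nat.modEq_zero_iff_dvd).mp h1
    have h4 : (⟨c, hc⟩ : K) ^ m = 1 := by
      rw [← orderOf_dvd_iff_pow_eq_one]
      exact (_root_.orderOf_dvd_natCard _).trans h3
    exact congrArg Subtype.val h4

theorem ctrl [Finite Γ] (h : CopH K C s) {c c' u : Γ} (hc : c ∈ C) (hc' : c' ∈ C) (hu : u ∈ K)
    (he : u * (c * s) * u⁻¹ = c' * s) : u ∈ C := by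
  obtain ⟨m, h1, h2⟩ := h.exists_exp
  have key : ∀ c ∈ C, (c * s) ^ m = s := by
    intro c hc
    have h3 := (h.hC c).mp hc
    rw [(show Commute c s from h3.2.symm).mul_pow, h1, h2 c h3.1, one_mul]
  have h4 : u * (c * s) ^ m * u⁻¹ = (c' * s) ^ m := by rw [← he, conj_pow]
  rw [key c hc, key c' hc'] at h4
  rw [h.hC]
  exact ⟨hu, (mul_inv_eq_iff_eq_mul.mp h4).symm⟩

end CopH

/-- The isometry, abstract form. -/
theorem iso_of_ctrl [Fintype Γ] {K C : Subgroup Γ} {x : Γ} (Kn : K.Normal) (C_le : C ≤ K)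
    (ctrl : ∀ {c c' u : Γ}, c ∈ C → c' ∈ C → u ∈ K → u * (c * x) * u⁻¹ = c' * x → u ∈ C)
    (F : Γ → ℂ) (hF : ∀ u g, F (u * g * u⁻¹) = F g) :
    av' K x F = av' C x F := by
  classical
  have := Fintype.ofFinite K
  have := Fintype.ofFinite C
  let φ : K × C → K := fun q => ⟨q.1 * q.2 * (x * (q.1 : Γ)⁻¹ * x⁻¹),
    K.mul_mem (K.mul_mem q.1.2 (C_le q.2.2)) (Kn.conj_mem _ (K.inv_mem q.1.2) x)⟩
  have hφ : ∀ q : K × C, (φ q : Γ) * x = q.1 * (q.2 * x) * (q.1 : Γ)⁻¹ := by
    intro q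
    show (q.1 : Γ) * q.2 * (x * (q.1 : Γ)⁻¹ * x⁻¹) * x = _
    group
  have hfib : ∀ k : K, (Finset.univ.filter (fun q : K × C => φ q = k)).card ≤
      Fintype.card C := by
    intro k
    by_cases hne : (Finset.univ.filter (fun q : K × C => φ q = k)).Nonempty
    · obtain ⟨q0, hq0⟩ := hne
      have hq0' := (Finset.mem_filter.mp hq0).2
      rw [← Finset.card_univ]
      refine Finset.card_le_card_of_injOn (fun q => if hq : (q0.1 : Γ)⁻¹ * q.1 ∈ C then
        (⟨(q0.1 : Γ)⁻¹ * q.1, hq⟩ : C) else 1) (fun _ _ => Finset.mem_univ _) ?_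
      have hmem : ∀ q ∈ Finset.univ.filter (fun q : K × C => φ q = k),
          (q0.1 : Γ)⁻¹ * q.1 ∈ C := by
        intro q hq
        have hq' := (Finset.mem_filter.mp hq).2
        have e1 : (q.1 : Γ) * (q.2 * x) * (q.1 : Γ)⁻¹ = q0.1 * (q0.2 * x) * (q0.1 : Γ)⁻¹ := by
          rw [← hφ, ← hφ, hq', hq0']
        apply ctrl q.2.2 q0.2.2 (K.mul_mem (K.inv_mem q0.1.2) q.1.2)
        calc (q0.1 : Γ)⁻¹ * q.1 * (q.2 * x) * ((q0.1 : Γ)⁻¹ * q.1)⁻¹
            = (q0.1 : Γ)⁻¹ * (q.1 * (q.2 * x) * (q.1 : Γ)⁻¹) * q0.1 := by group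
          _ = _ := by rw [e1]; group
      intro q hq q' hq' heq
      have h1 := hmem q hq
      have h2 := hmem q' hq'
      simp only [dif_pos h1, dif_pos h2] at heq
      have h3 : q.1 = q'.1 := by
        have := congrArg Subtype.val heq
        exact Subtype.ext (mul_left_cancel this)
      have e1 : (q.1 : Γ) * (q.2 * x) * (q.1 : Γ)⁻¹ = q'.1 * (q'.2 * x) * (q'.1 : Γ)⁻¹ := by
        rw [← hφ, ← hφ, (Finset.mem_filter.mp hq).2, (Finset.mem_filter.mp hq').2]
      rw [h3] at e1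
      have h4 : q.2 = q'.2 := Subtype.ext (mul_right_cancel (mul_left_cancel (mul_right_cancel e1)))
      exact Prod.ext h3 h4
    · rw [Finset.not_nonempty_iff_eq_empty.mp hne]
      simp
  have htot : ∑ k : K, (Finset.univ.filter (fun q : K × C => φ q = k)).card =
      Fintype.card K * Fintype.card C := by
    rw [← Fintype.card_prod, ← Finset.card_univ (α := K × C)]
    exact (Finset.card_eq_sum_card_fiberwise (fun q _ => Finset.mem_univ (φ q))).symm
  have hall : ∀ k : K, (Finset.univ.filter (fun q : K × C => φ q = k)).card = Fintype.card C := by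
    intro k
    by_contra hne
    have hlt := lt_of_le_of_ne (hfib k) hne
    have h1 : ∑ k : K, (Finset.univ.filter (fun q : K × C => φ q = k)).card <
        ∑ _k : K, Fintype.card C :=
      Finset.sum_lt_sum (fun i _ => hfib i) ⟨k, Finset.mem_univ k, hlt⟩
    rw [htot, Finset.sum_const, Finset.card_univ, smul_eq_mul] at h1
    exact lt_irrefl _ h1
  have hsum1 : ∑ q : K × C, F ((φ q : Γ) * x) = (Fintype.card C : ℂ) * ∑ k : K, F (k * x) := by
    rw [← Finset.sum_fiberwise (s := (Finset.univ : Finset (K × C))) (g := φ), Finset.mul_sum]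
    apply Finset.sum_congr rfl
    intro k _
    rw [Finset.sum_congr rfl (g := fun _ => F (k * x)) (by
      intro q hq; rw [(Finset.mem_filter.mp hq).2]), Finset.sum_const, hall, nsmul_eq_mul]
  have hsum2 : ∑ q : K × C, F ((φ q : Γ) * x) = (Fintype.card K : ℂ) * ∑ c : C, F (c * x) := by
    rw [Fintype.sum_prod_type]
    have : ∀ u : K, ∑ c : C, F ((φ (u, c) : Γ) * x) = ∑ c : C, F (c * x) := by
      intro u
      apply Finset.sum_congr rfl
      intro c _
      rw [hφ, hF]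
    simp only [this]
    rw [Finset.sum_const, Finset.card_univ, nsmul_eq_mul]
  rw [av'_eq_sum, av'_eq_sum, Nat.card_eq_fintype_card, Nat.card_eq_fintype_card]
  have hK0 : (Fintype.card K : ℂ) ≠ 0 := by exact_mod_cast Fintype.card_ne_zero
  have hC0 : (Fintype.card C : ℂ) ≠ 0 := by exact_mod_cast Fintype.card_ne_zero
  rw [hsum1] at hsum2
  field_simp
  linear_combination hsum2

theorem CopH.iso [Fintype Γ] {K C : Subgroup Γ} {s : Γ} (h : CopH K C s) (F : Γ → ℂ)
    (hF : ∀ u g, F (u * g * u⁻¹) = F g) : av' K s F = av' C s F :=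
  iso_of_ctrl h.Kn h.C_le (fun hc hc' hu he => h.ctrl hc hc' hu he) F hF

end Cfsg.Agent.H27
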