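import Cfsg.Agent.H27.TISolv2

set_option autoImplicit false

/-! # Minimal coprime actions: degrees of faithful characters, the nonabelian case -/

universe u

namespace Cfsg.Agent.H27

open Subgroup Cfsg Cfsg.Agent.H3
open scoped ComplexConjugate commutatorElement
open Cfsg.Agent.H26 (cg mem_cg cg_eq_of_mem_nz mem_nz_of_cg_eq normConj irrMap irrMap_apply
  irrMap_apply')

variable {G : Type u} [Group G] [Finite G] {P R : Subgroup G} {χ : G → ℂ}

theorem irr_one_of_commutator {X : Type*} [Group X] [Finite X] {θ : X → ℂ}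
    (hθ : IsIrrCharacter X θ) (h : ∀ x y : X, θ ⁅x, y⁆ = θ 1) : θ 1 = 1 := by
  have hle : commutator X ≤ charKer (irr_isChar hθ) := by
    rw [commutator_def, commutator_le]
    intro x _ y _
    exact h x y
  obtain ⟨ψ, hψ, hψ2⟩ := exists_quotient_irr (N := commutator X) hθ (fun n hn => hle hn)
  have hab : IsMulCommutative (X ⧸ commutator X) := by
    constructor
    constructor
    intro a b
    obtain ⟨x, rfl⟩ := QuotientGroup.mk_surjective a
    obtain ⟨y, rfl⟩ := QuotientGroup.mk_surjective b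
    rw [← QuotientGroup.mk_mul, ← QuotientGroup.mk_mul]
    apply QuotientGroup.eq.mpr
    have e : (x * y)⁻¹ * (y * x) = ⁅y⁻¹, x⁻¹⁆ := by rw [commutatorElement_def]; group
    rw [e, commutator_def]
    exact commutator_mem_commutator (mem_top _) (mem_top _)
  rw [hψ2 1]
  exact irr_degree_one_of_comm hψ

/-- `θ(1)² = |R : Z|` for nonlinear `θ`. -/
theorem degree_sq_eq_index {r : ℕ} [Fact r.Prime] (hR : IsPGroup r R)
    (hn : P ≤ normalizer (R : Set G))
    (hcop : (Nat.card P).Coprime (Nat.card R)) (hne : ¬ P ≤ centralizer (R : Set G))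
    (hmin : ∀ A < R, P ≤ normalizer (A : Set G) → P ≤ centralizer (A : Set G))
    (hZR : R ⊓ centralizer (R : Set G) < R) (θ : IrrCharacter R) (hθ1 : (θ : R → ℂ) 1 ≠ 1) :
    charDegree (θ : R → ℂ) ^ 2 = ((R ⊓ centralizer (R : Set G)).subgroupOf R).index := by
  classical
  have := Fintype.ofFinite G
  have := Fintype.ofFinite R
  set Z : Subgroup G := R ⊓ centralizer (R : Set G) with hZ
  have hPZn : P ≤ normalizer (Z : Set G) := le_nz_inf hn (le_nz_centralizer hn)
  have hPZ : P ≤ centralizer (Z : Set G) := hmin Z hZR hPZn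
  have hcomm : ⁅R, R⁆ < R := by
    apply H23.commutator_lt_of_isPGroup hR hR le_normalizer
    rintro rfl
    exact hne (fun u _ => by
      rw [mem_centralizer_iff]
      intro x hx
      rw [SetLike.mem_coe, mem_bot] at hx
      rw [hx]; group)
  have hcommZ : ⁅R, R⁆ ≤ Z :=
    le_inf hcomm.le (min_central hn hcop hne hmin hcomm (le_nz_commutator hn hn)
      (le_nz_commutator le_normalizer le_normalizer))
  have hcz : ∀ x y : R, ((⁅x, y⁆ : R) : G) ∈ Z := by
    intro x y
    apply hcommZ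
    have : ((⁅x, y⁆ : R) : G) = ⁅(x : G), (y : G)⁆ := rfl
    rw [this]
    exact commutator_mem_commutator x.2 y.2
  have hcen : ∀ z : R, (z : G) ∈ Z → z ∈ center R := by
    intro z hz
    rw [mem_center_iff]
    intro g
    apply Subtype.ext
    exact mem_centralizer_iff.mp hz.2 g g.2
  have hθ := θ.2
  have hθc := irr_isChar hθ
  set N : Subgroup R := charKer hθc with hN
  have hNn : N.Normal := charKer_normal hθc
  -- the subgroup `A`
  let A : Subgroup G :=
    { carrier := {x | ∃ hx : x ∈ R, ∀ y : R, ⁅(⟨x, hx⟩ : R), y⁆ ∈ N}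
      one_mem' := ⟨R.one_mem, fun y => by
        have : (⟨1, R.one_mem⟩ : R) = 1 := rfl
        rw [this, commutatorElement_one_left]; exact N.one_mem⟩
      mul_mem' := by
        rintro a b ⟨ha, ha'⟩ ⟨hb, hb'⟩
        refine ⟨R.mul_mem ha hb, fun y => ?_⟩
        have e : ⁅(⟨a * b, R.mul_mem ha hb⟩ : R), y⁆ =
            (⟨a, ha⟩ : R) * ⁅(⟨b, hb⟩ : R), y⁆ * (⟨a, ha⟩ : R)⁻¹ * ⁅(⟨a, ha⟩ : R), y⁆ := by
          have : (⟨a * b, R.mul_mem ha hb⟩ : R) = ⟨a, ha⟩ * ⟨b, hb⟩ := rfl
          rw [this]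
          simp only [commutatorElement_def]
          group
        rw [e]
        exact N.mul_mem (hNn.conj_mem _ (hb' y) _) (ha' y)
      inv_mem' := by
        rintro a ⟨ha, ha'⟩
        refine ⟨R.inv_mem ha, fun y => ?_⟩
        have e : ⁅(⟨a⁻¹, R.inv_mem ha⟩ : R), y⁆ =
            (⟨a, ha⟩ : R)⁻¹ * (⁅(⟨a, ha⟩ : R), y⁆)⁻¹ * (⟨a, ha⟩ : R)⁻¹⁻¹ := by
          have : (⟨a⁻¹, R.inv_mem ha⟩ : R) = (⟨a, ha⟩ : R)⁻¹ := rfl
          rw [this]
          simp only [commutatorElement_def]
          group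
        rw [e]
        exact hNn.conj_mem _ (N.inv_mem (ha' y)) _ }
  have hAR : A ≤ R := fun x hx => hx.1
  have hZA : Z ≤ A := by
    intro z hz
    refine ⟨hz.1, fun y => ?_⟩
    have h1 := mem_center_iff.mp (hcen ⟨z, hz.1⟩ hz) y
    have : ⁅(⟨z, hz.1⟩ : R), y⁆ = 1 := by
      rw [commutatorElement_def, ← h1]; group
    rw [this]; exact N.one_mem
  have hRA : R ≤ normalizer (A : Set G) := by
    apply le_normalizer_iff_commutator_le_left.mpr
    exact (commutator_mono hAR le_rfl).trans (hcommZ.trans hZA)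
  have hPA : P ≤ normalizer (A : Set G) := by
    have key : ∀ u ∈ P, ∀ x ∈ A, u * x * u⁻¹ ∈ A := by
      rintro u hu x ⟨hx, hx'⟩
      have hux : u * x * u⁻¹ ∈ R := (mem_normalizer_iff.mp (hn hu) x).mp hx
      refine ⟨hux, fun y => ?_⟩
      have huy : u⁻¹ * y * u ∈ R := by
        have := (mem_normalizer_iff.mp (hn (P.inv_mem hu)) (y : G)).mp y.2
        rwa [inv_inv] at this
      have h1 := hx' ⟨_, huy⟩
      have h2 : ⁅(⟨u * x * u⁻¹, hux⟩ : R), y⁆ = ⁅(⟨x, hx⟩ : R), ⟨_, huy⟩⁆ := by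
        apply Subtype.ext
        have h3 := hcz ⟨x, hx⟩ ⟨_, huy⟩
        have h4 := mem_centralizer_iff.mp ((le_centralizer_iff.mp hPZ) h3) u hu
        change (u * x * u⁻¹) * y * (u * x * u⁻¹)⁻¹ * (y : G)⁻¹ =
          x * (u⁻¹ * y * u) * x⁻¹ * (u⁻¹ * y * u)⁻¹
        change u * (x * (u⁻¹ * y * u) * x⁻¹ * (u⁻¹ * y * u)⁻¹) =
          (x * (u⁻¹ * y * u) * x⁻¹ * (u⁻¹ * y * u)⁻¹) * u at h4
        calc (u * x * u⁻¹) * y * (u * x * u⁻¹)⁻¹ * (y : G)⁻¹
            = (u * (x * (u⁻¹ * y * u) * x⁻¹ * (u⁻¹ * y * u)⁻¹)) * u⁻¹ := by group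
          _ = x * (u⁻¹ * y * u) * x⁻¹ * (u⁻¹ * y * u)⁻¹ := by rw [h4]; group
      rw [h2]; exact h1
    intro u hu
    rw [mem_normalizer_iff]
    intro x
    constructor
    · exact key u hu x
    · intro h
      have := key u⁻¹ (P.inv_mem hu) _ h
      have e : u⁻¹ * (u * x * u⁻¹) * u⁻¹⁻¹ = x := by group
      rwa [e] at this
  have hAlt : A < R := by
    refine lt_of_le_of_ne hAR fun h => ?_
    apply hθ1
    apply irr_one_of_commutator hθ
    intro x y
    have hx : (x : G) ∈ A := by rw [h]; exact x.2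
    obtain ⟨_, h'⟩ := hx
    exact h' y
  have hAZ : A ≤ Z := le_inf hAR (min_central hn hcop hne hmin hAlt hPA hRA)
  -- vanishing off `Z`
  have hvan : ∀ x : R, (x : G) ∉ Z → (θ : R → ℂ) x = 0 := by
    intro x hx
    have h1 : ∃ y : R, ⁅x, y⁆ ∉ N := by
      by_contra hcon
      push Not at hcon
      exact hx (hAZ ⟨x.2, hcon⟩)
    obtain ⟨y, hy⟩ := h1
    have hy' : ⁅y, x⁆ ∉ N := by
      intro h
      apply hy
      have := N.inv_mem h
      rwa [commutatorElement_inv] at this
    have h2 : (θ : R → ℂ) (y * x * y⁻¹) = (θ : R → ℂ) x := irr_classFun hθ x y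
    have h3 : y * x * y⁻¹ = ⁅y, x⁆ * x := by rw [commutatorElement_def]; group
    have h4 := irr_central_mul hθ (hcen _ (hcz y x)) x
    rw [← h3, h2] at h4
    have h5 : (θ : R → ℂ) x * ((θ : R → ℂ) ⁅y, x⁆ - (θ : R → ℂ) 1) = 0 := by
      linear_combination -h4
    rcases mul_eq_zero.mp h5 with h6 | h6
    · exact h6
    · exact absurd (sub_eq_zero.mp h6) hy'
  have hnorm : classInner (θ : R → ℂ) (θ : R → ℂ) = 1 := by
    rw [classInner_irr', if_pos rfl]
  have hval : ∀ z : R, (z : G) ∈ Z →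
      (θ : R → ℂ) z * conj ((θ : R → ℂ) z) = (θ : R → ℂ) 1 ^ 2 := by
    intro z hz
    have h4 := irr_central_mul hθ (hcen z hz) z⁻¹
    rw [mul_inv_cancel] at h4
    rw [irr_conj_eq hθ, ← h4]; ring
  have hcardR : (Nat.card R : ℂ) ≠ 0 := by exact_mod_cast Nat.card_pos.ne'
  have hsum : ∑ x : R, (θ : R → ℂ) x * conj ((θ : R → ℂ) x) = (Nat.card R : ℂ) := by
    have h1 : (Nat.card R : ℂ)⁻¹ * ∑ x : R, (θ : R → ℂ) x * conj ((θ : R → ℂ) x) = 1 := hnorm
    field_simp at h1
    exact h1
  have hsum2 : ∑ x : R, (θ : R → ℂ) x * conj ((θ : R → ℂ) x) =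
      (Nat.card (Z.subgroupOf R) : ℂ) * (θ : R → ℂ) 1 ^ 2 := by
    rw [← Finset.sum_filter_add_sum_filter_not Finset.univ (fun x : R => x ∈ Z.subgroupOf R)]
    have h1 : ∑ x ∈ Finset.univ.filter (fun x : R => ¬ x ∈ Z.subgroupOf R),
        (θ : R → ℂ) x * conj ((θ : R → ℂ) x) = 0 := by
      apply Finset.sum_eq_zero
      intro x hx
      rw [hvan x (fun h => (Finset.mem_filter.mp hx).2 (mem_subgroupOf.mpr h)), zero_mul]
    rw [h1, add_zero, Finset.sum_congr rfl (fun x hx => hval x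
      (mem_subgroupOf.mp (Finset.mem_filter.mp hx).2)), Finset.sum_const, nsmul_eq_mul]
    congr 2
    rw [Nat.card_eq_fintype_card, Fintype.card_subtype]
  have hfin : (Nat.card (Z.subgroupOf R) : ℂ) * (charDegree (θ : R → ℂ) : ℂ) ^ 2 =
      (Nat.card R : ℂ) := by
    rw [charDegree_cast hθc, ← hsum2, hsum]
  have hfin' : Nat.card (Z.subgroupOf R) * charDegree (θ : R → ℂ) ^ 2 = Nat.card R := by
    exact_mod_cast hfin
  rw [← (Z.subgroupOf R).card_mul_index] at hfin'
  exact Nat.eq_of_mul_eq_mul_left Nat.card_pos hfin'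

/-- A faithful character has degree `d` with `d² > |P|`. -/
theorem card_lt_sq_of_min {r : ℕ} [Fact r.Prime] (hR : IsPGroup r R)
    (hn : P ≤ normalizer (R : Set G))
    (hcop : (Nat.card P).Coprime (Nat.card R)) (hne : ¬ P ≤ centralizer (R : Set G))
    (hmin : ∀ A < R, P ≤ normalizer (A : Set G) → P ≤ centralizer (A : Set G))
    (hC : ∀ u ∈ P, u ≠ 1 → ∀ x ∈ R, x * u = u * x → x ∈ centralizer (P : Set G))
    (hχ : IsCharacter G χ) (hf : ∀ g, χ g = χ 1 → g = 1) :
    Nat.card P < charDegree χ ^ 2 := by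
  classical
  have := Fintype.ofFinite G
  have := Fintype.ofFinite R
  by_cases hab : IsMulCommutative R
  · have h1 := card_le_of_abelian hn hcop hne hmin hC hab hχ hf
    have h2 : 1 < Nat.card P := by
      rw [Nat.card_eq_fintype_card] 
      by_contra hcon
      apply hne
      have h3 : Nat.card P = 1 := by
        have : 0 < Nat.card P := Nat.card_pos
        rw [Nat.card_eq_fintype_card] at this ⊢
        omega
      have h4 : P = ⊥ := Subgroup.card_eq_one.mp h3
      rw [h4]; exact bot_le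
    calc Nat.card P < Nat.card P * Nat.card P := by nlinarith
      _ ≤ charDegree χ ^ 2 := by rw [sq]; exact Nat.mul_le_mul h1 h1
  · have hZR : R ⊓ centralizer (R : Set G) < R := by
      refine lt_of_le_of_ne inf_le_left fun h => ?_
      apply hab
      have h1 : R ≤ centralizer (R : Set G) := inf_eq_left.mp h
      constructor
      constructor
      intro a b
      apply Subtype.ext
      exact mem_centralizer_iff.mp (h1 b.2) a a.2
    have h1 := card_add_one_le_index hR hn hcop hne hmin hC hZR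
    -- a nonlinear constituent
    have hθ : ∃ θ : IrrCharacter R, classInner (fun x : R => χ x) (θ : R → ℂ) ≠ 0 ∧
        (θ : R → ℂ) 1 ≠ 1 := by
      by_contra hcon
      push Not at hcon
      apply hab
      have h2 : ∀ g : R, g ∈ commutator R → g = 1 := by
        intro g hg
        have := char_commutator_of_all_linear (isChar_restrict R hχ) hcon hg
        exact Subtype.ext (hf g this)
      constructor
      constructor
      intro a b
      have h3 := h2 ⁅a, b⁆ (by
        rw [commutator_def]; exact commutator_mem_commutator (mem_top _) (mem_top _))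
      rw [commutatorElement_eq_one_iff_mul_comm] at h3
      exact h3
    obtain ⟨θ, hθ0, hθ1⟩ := hθ
    have h2 := degree_sq_eq_index hR hn hcop hne hmin hZR θ hθ1
    have h3 : charDegree (θ : R → ℂ) ≤ charDegree χ :=
      char_degree_le_of_inner_ne_zero (isChar_restrict R hχ) θ.2 hθ0 (charDegree_cast hχ).symm
        (charDegree_cast (irr_isChar θ.2)).symm
    calc Nat.card P < charDegree (θ : R → ℂ) ^ 2 := by omega
      _ ≤ charDegree χ ^ 2 := Nat.pow_le_pow_left h3 2

end Cfsg.Agent.H27
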