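import Cfsg.Agent.H3.Clifford
import Cfsg.Agent.H3.BrauerC
import Cfsg.Agent.H27.Kernel
import Cfsg.Agent.H27.Util

set_option autoImplicit false
set_option linter.all false

/-! # Norms of restrictions to normal subgroups (helper27) -/

namespace Cfsg.Agent.H27

open Subgroup Cfsg.Agent.H3
open scoped ComplexConjugate

universe u
variable {G : Type u} [Group G]

theorem classInner_self_real {X : Type u} [Group X] [Fintype X] (f : X → ℂ) :
    classInner f f = (((Nat.card X : ℝ)⁻¹ * ∑ x : X, ‖f x‖ ^ 2 : ℝ) : ℂ) := by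
  unfold classInner
  push_cast
  congr 1
  exact Finset.sum_congr rfl fun x _ => by rw [Complex.mul_conj']

theorem sum_norm_sq_irr {X : Type u} [Group X] [Fintype X] {χ : X → ℂ} (hχ : IsIrrCharacter X χ) :
    ∑ x : X, ‖χ x‖ ^ 2 = (Nat.card X : ℝ) := by
  have h1 := classInner_self_of_irr hχ
  rw [classInner_self_real] at h1
  have h2 : (Nat.card X : ℝ)⁻¹ * ∑ x : X, ‖χ x‖ ^ 2 = 1 := by exact_mod_cast h1
  have h3 : (Nat.card X : ℝ) ≠ 0 := by exact_mod_cast Nat.card_pos.ne'
  field_simp at h2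
  exact h2

/-- `⟨χ_H, χ_H⟩ = e ^ 2 |G : I(θ)|` -/
theorem clifford_norm [Fintype G] {H : Subgroup G} [Fintype H] (hH : H.Normal) {χ : G → ℂ}
    (hχ : IsIrrCharacter G χ) {θ : H → ℂ} (hθ : IsIrrCharacter H θ)
    (he : classInner (fun h : H => χ h) θ ≠ 0) :
    classInner (fun h : H => χ h) (fun h : H => χ h) =
      classInner (fun h : H => χ h) θ ^ 2 * (inertia hH θ).index := by
  have h1 := clifford_sum hH hχ hθ he
  obtain ⟨e, he'⟩ := classInner_char_nat (isChar_restrict H (irr_isChar hχ)) (irr_isChar hθ)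
  have h2 := congrArg (fun f => classInner f (fun h : H => χ h)) h1
  simp only [classInner_smul_left, classInner_sum_left] at h2
  have h3 : ∀ x : G, classInner (cj hH x θ) (fun h : H => χ h) = classInner (fun h : H => χ h) θ := by
    intro x
    rw [← classInner_conj_symm, classInner_restrict_cj hH (irr_classFun hχ), he']
    exact Complex.conj_natCast _
  simp only [h3, Finset.sum_const, Finset.card_univ, nsmul_eq_mul] at h2
  have h4 : (Nat.card G : ℂ) = ((inertia hH θ).index : ℂ) * Nat.card (inertia hH θ) := by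
    exact_mod_cast (Subgroup.index_mul_card (inertia hH θ)).symm
  have h5 : (Nat.card (inertia hH θ) : ℂ) ≠ 0 := by exact_mod_cast Nat.card_pos.ne'
  rw [← Nat.card_eq_fintype_card, h4] at h2
  apply mul_left_cancel₀ h5
  linear_combination h2

/-- the norm of the restriction is at most the index -/
theorem norm_restrict_le [Fintype G] {H : Subgroup G} [Fintype H] {χ : G → ℂ}
    (hχ : IsIrrCharacter G χ) :
    ∑ h : H, ‖χ h‖ ^ 2 ≤ (Nat.card G : ℝ) := by
  classical
  rw [← sum_norm_sq_irr hχ]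
  have h1 : ∑ h : H, ‖χ h‖ ^ 2 = ∑ x ∈ (Finset.univ : Finset H).map ⟨Subtype.val, Subtype.val_injective⟩, ‖χ x‖ ^ 2 := by
    rw [Finset.sum_map]; rfl
  rw [h1]
  exact Finset.sum_le_univ_sum_of_nonneg fun x => by positivity

theorem clifford_ineq [Fintype G] {H : Subgroup G} [Fintype H] (hH : H.Normal) {χ : G → ℂ}
    (hχ : IsIrrCharacter G χ) {θ : H → ℂ} (hθ : IsIrrCharacter H θ) {e : ℕ}
    (he : classInner (fun h : H => χ h) θ = e) (he0 : e ≠ 0) :
    e ^ 2 * (inertia hH θ).index ≤ H.index := by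
  have he' : classInner (fun h : H => χ h) θ ≠ 0 := by rw [he]; exact_mod_cast he0
  have h1 := clifford_norm hH hχ hθ he'
  rw [he, classInner_self_real] at h1
  have h2 : (Nat.card H : ℝ)⁻¹ * ∑ h : H, ‖χ h‖ ^ 2 = (e : ℝ) ^ 2 * (inertia hH θ).index := by
    exact_mod_cast h1
  have h3 := norm_restrict_le (H := H) hχ
  have h4 : (0 : ℝ) < Nat.card H := by exact_mod_cast Nat.card_pos
  have h5 : (Nat.card G : ℝ) = Nat.card H * H.index := by
    exact_mod_cast (Subgroup.card_mul_index H).symm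
  have h6 : ∑ h : H, ‖χ h‖ ^ 2 = Nat.card H * ((e : ℝ) ^ 2 * (inertia hH θ).index) := by
    rw [← h2]; field_simp
  rw [h6, h5] at h3
  have h7 := le_of_mul_le_mul_left h3 h4
  exact_mod_cast h7

theorem degree_sq_lt [Finite G] {χ : G → ℂ} (hχ : IsIrrCharacter G χ) (hne : χ ≠ fun _ => 1) :
    charDegree χ ^ 2 + 1 ≤ Nat.card G := by
  classical
  haveI := Fintype.ofFinite (IrrCharacter G)
  have h1 := sum_degree_mul (G := G) 1
  have h2 : ∀ ψ : IrrCharacter G, (ψ : G → ℂ) 1 = (charDegree (ψ : G → ℂ) : ℂ) := fun ψ =>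
    (charDegree_cast (irr_isChar ψ.2)).symm
  simp only [h2] at h1
  rw [if_pos trivial] at h1
  have h3 : ∑ ψ : IrrCharacter G, charDegree (ψ : G → ℂ) * charDegree (ψ : G → ℂ) = Nat.card G := by
    exact_mod_cast h1
  rw [← h3]
  have h4 : (⟨χ, hχ⟩ : IrrCharacter G) ≠ oneIrr G := by
    intro h
    exact hne (congrArg Subtype.val h)
  have h5 := Finset.sum_le_sum_of_subset (f := fun ψ : IrrCharacter G =>
    charDegree (ψ : G → ℂ) * charDegree (ψ : G → ℂ)) (Finset.subset_univ {⟨χ, hχ⟩, oneIrr G})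
  rw [Finset.sum_pair h4] at h5
  simp only [charDegree_oneIrr] at h5
  rw [pow_two]
  simpa using h5

end Cfsg.Agent.H27
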