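import Cfsg.Agent.H3.Frob
import Cfsg.Agent.H3.Gallagher2
import Cfsg.Agent.H3.Nil
import Cfsg.Agent.H20.ZFpf
import Cfsg.Agent.H27.ClifN
import Cfsg.Agent.H27.Dual
import Cfsg.Agent.H1.Chief

set_option autoImplicit false
set_option linter.style.haveILetI false

/-! # Isaacs, chapter 12: minimal nonabelian quotients of solvable groups -/

universe u

namespace Cfsg.Agent.H27

open Cfsg Cfsg.Agent.H3 Subgroup
open scoped Pointwise commutatorElement

/-- `G / K` is a Frobenius group with abelian kernel `N / K` and cyclic complement (or `N = G`). -/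
structure FrobQ {G : Type u} [Group G] (K N : Subgroup G) : Prop where
  nK : K.Normal
  nN : N.Normal
  le : K ≤ N
  ne : ¬ N ≤ K
  comm : ∀ a ∈ N, ∀ b ∈ N, a * b * a⁻¹ * b⁻¹ ∈ K
  cyc : IsCyclic (G ⧸ N)
  fpf : ∀ x, x ∉ N → ∀ n ∈ N, x * n * x⁻¹ * n⁻¹ ∈ K → n ∈ K

/-- The structure of minimal nonabelian quotients. -/
theorem min_quot {Q : Type u} [Group Q] [Finite Q] (hs : Group.IsSolvable Q)
    (hna : ∃ a b : Q, a * b ≠ b * a)
    (hmin : ∀ L : Subgroup Q, L.Normal → L ≠ ⊥ → commutator Q ≤ L) :
    (∃ p k, p.Prime ∧ Nat.card Q = p ^ k) ∨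
      ∃ M : Subgroup Q, M ≠ ⊤ ∧ FrobQ ⊥ M ∧ ∃ p k, p.Prime ∧ Nat.card M = p ^ k := by
  classical
  set M := commutator Q with hM
  haveI hMn : M.Normal := inferInstance
  have hM1 : M ≠ ⊥ := by
    intro h
    obtain ⟨a, b, hab⟩ := hna
    apply hab
    have h1 : ⁅a, b⁆ ∈ M := commutator_mem_commutator (mem_top a) (mem_top b)
    rw [h, mem_bot, commutatorElement_def] at h1
    exact commutatorElement_eq_one_iff_mul_comm.mp h1
  have hMab : ∀ a ∈ M, ∀ b ∈ M, a * b = b * a := by
    have h1 : ⁅M, M⁆ = ⊥ := by
      by_contra hne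
      have h2 := hmin ⁅M, M⁆ inferInstance hne
      have h3 := Group.IsSolvable.commutator_lt_of_ne_bot (G := Q) hM1
      exact absurd h2 (not_le_of_gt h3)
    intro a ha b hb
    have h2 : ⁅a, b⁆ ∈ ⁅M, M⁆ := commutator_mem_commutator ha hb
    rw [h1, mem_bot] at h2
    exact commutatorElement_eq_one_iff_mul_comm.mp h2
  obtain ⟨p, hp, hpM⟩ := Nat.exists_prime_and_dvd
    (show Nat.card M ≠ 1 from fun h => hM1 (Subgroup.card_eq_one.mp h))
  haveI : Fact p.Prime := ⟨hp⟩
  -- `M` is a `p`-group
  have hMp : IsPGroup p M := by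
    obtain ⟨P⟩ := (inferInstance : Nonempty (Sylow p M))
    haveI : IsMulCommutative M := ⟨⟨fun a b => Subtype.ext (hMab a a.2 b b.2)⟩⟩
    haveI : (P : Subgroup M).Normal := ⟨fun n hn g => by
      have : g * n * g⁻¹ = n := by
        rw [(‹IsMulCommutative M›).is_comm.comm g n]; group
      rw [this]; exact hn⟩
    haveI hPc : (P : Subgroup M).Characteristic := P.characteristic_of_normal inferInstance
    have h1 : ((P : Subgroup M).map M.subtype).Normal := inferInstance
    have h2 : (P : Subgroup M).map M.subtype ≠ ⊥ := by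
      intro h
      rw [Subgroup.map_eq_bot_iff_of_injective _ M.subtype_injective] at h
      have h3 := P.dvd_card_of_dvd_card hpM
      rw [h, Subgroup.card_bot] at h3
      exact hp.one_lt.ne' (Nat.dvd_one.mp h3)
    have h3 := hmin _ h1 h2
    have h4 : (P : Subgroup M) = ⊤ := by
      rw [eq_top_iff]
      intro x _
      obtain ⟨y, hy, hyx⟩ := h3 x.2
      have : y = x := Subtype.ext hyx
      rw [← this]; exact hy
    have h5 := P.isPGroup'
    rw [h4] at h5
    exact h5.of_equiv Subgroup.topEquiv
  by_cases hZ : center Q = ⊥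
  · -- trivial centre
    right
    obtain ⟨k, hk⟩ := IsPGroup.iff_card.mp hMp
    -- a prime `q ≠ p`
    have hnp : ¬ IsPGroup p Q := by
      intro h
      haveI : Nontrivial Q := by
        obtain ⟨a, b, hab⟩ := hna
        exact ⟨a * b, b * a, hab⟩
      haveI := h.center_nontrivial
      exact (Subgroup.nontrivial_iff_ne_bot _).mp this hZ
    have hq : ∃ q, q.Prime ∧ q ≠ p ∧ q ∣ Nat.card Q := by
      by_contra hcon
      push Not at hcon
      apply hnp
      have h1 := Nat.eq_prime_pow_of_unique_prime_dvd (n := Nat.card Q) (p := p) Nat.card_pos.ne'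
        (fun {d} hd hdv => by
          by_contra hne
          exact hcon d hd hne hdv)
      exact IsPGroup.of_card h1
    obtain ⟨q, hq, hqp, hqQ⟩ := hq
    haveI : Fact q.Prime := ⟨hq⟩
    obtain ⟨S⟩ := (inferInstance : Nonempty (Sylow q Q))
    have hS1 : (S : Subgroup Q) ≠ ⊥ := by
      intro h
      have h3 := S.dvd_card_of_dvd_card hqQ
      rw [h, Subgroup.card_bot] at h3
      exact hq.one_lt.ne' (Nat.dvd_one.mp h3)
    set H := normalizer ((S : Subgroup Q) : Set Q) with hH
    have hcopMS : M ⊓ (S : Subgroup Q) = ⊥ := by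
      apply Subgroup.inf_eq_bot_of_coprime
      obtain ⟨j, hj⟩ := IsPGroup.iff_card.mp S.isPGroup'
      rw [hk, hj]
      exact Nat.Coprime.pow _ _ ((Nat.coprime_primes hp hq).mpr hqp.symm)
    have hSnn : ¬ (S : Subgroup Q).Normal := by
      intro h
      have h1 := hmin _ h hS1
      rw [inf_eq_left.mpr h1] at hcopMS
      exact hM1 hcopMS
    have hsup : M ⊔ H = ⊤ := by
      haveI hMS : (M ⊔ (S : Subgroup Q)).Normal := by
        apply Subgroup.Normal.of_commutator_le
        exact le_sup_left
      have h1 := Sylow.normalizer_sup_eq_top' S (le_sup_right : (S : Subgroup Q) ≤ M ⊔ S)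
      rw [eq_top_iff, ← h1]
      refine sup_le le_sup_right (sup_le le_sup_left ?_)
      exact (Subgroup.le_normalizer).trans le_sup_right
    -- subgroups of `M` normalised by `H` are normal
    have hnorm : ∀ L : Subgroup Q, L ≤ M → (∀ h ∈ H, ∀ l ∈ L, h * l * h⁻¹ ∈ L) → L = ⊥ ∨ L = M := by
      intro L hL hHL
      by_cases h0 : L = ⊥
      · exact Or.inl h0
      · right
        apply le_antisymm hL
        apply hmin L _ h0
        constructor
        intro n hn g
        have hg : g ∈ M ⊔ H := by rw [hsup]; trivial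
        obtain ⟨m, hm, h, hh, rfl⟩ := Subgroup.mem_sup_of_normal_left.mp hg
        have h1 := hHL h hh n hn
        have h2 : m * h * n * (m * h)⁻¹ = h * n * h⁻¹ := by
          have := hMab m hm _ (hL h1)
          calc m * h * n * (m * h)⁻¹ = (m * (h * n * h⁻¹)) * m⁻¹ := by group
            _ = ((h * n * h⁻¹) * m) * m⁻¹ := by rw [this]
            _ = _ := by group
        rw [h2]; exact h1
    have hMH : M ⊓ H = ⊥ := by
      rcases hnorm (M ⊓ H) inf_le_left (fun h hh l hl =>
        ⟨hMn.conj_mem l hl.1 h, H.mul_mem (H.mul_mem hh hl.2) (H.inv_mem hh)⟩) with h | h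
      · exact h
      · exfalso
        have h1 : M ≤ H := inf_eq_left.mp h
        have h2 : H = ⊤ := by rw [eq_top_iff, ← hsup]; exact sup_le h1 le_rfl
        exact hSnn (Subgroup.normalizer_eq_top_iff.mp h2)
    have hHab : ∀ a ∈ H, ∀ b ∈ H, a * b = b * a := by
      intro a ha b hb
      have h1 : ⁅a, b⁆ ∈ M ⊓ H := ⟨commutator_mem_commutator (mem_top a) (mem_top b), by
        rw [commutatorElement_def]
        exact H.mul_mem (H.mul_mem (H.mul_mem ha hb) (H.inv_mem ha)) (H.inv_mem hb)⟩
      rw [hMH, mem_bot] at h1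
      exact commutatorElement_eq_one_iff_mul_comm.mp h1
    have hfpf : ∀ h ∈ H, h ≠ 1 → ∀ m ∈ M, h * m = m * h → m = 1 := by
      intro h hh h1 m hm hc
      have h2 := hnorm (M ⊓ centralizer ({h} : Set Q)) inf_le_left (fun x hx l hl => by
        refine ⟨hMn.conj_mem l hl.1 x, ?_⟩
        have h3 := mem_centralizer_singleton_iff.mp hl.2
        apply mem_centralizer_singleton_iff.mpr
        have h4 := hHab x hx h hh
        have h5 : x⁻¹ * h = h * x⁻¹ := by
          have := hHab x⁻¹ (H.inv_mem hx) h hh
          exact this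
        calc x * l * x⁻¹ * h = x * l * (x⁻¹ * h) := by group
          _ = x * (l * h) * x⁻¹ := by rw [h5]; group
          _ = x * (h * l) * x⁻¹ := by rw [h3]
          _ = (x * h) * l * x⁻¹ := by group
          _ = _ := by rw [h4]; group)
      rcases h2 with h2 | h2
      · have h3 : m ∈ M ⊓ centralizer ({h} : Set Q) :=
          ⟨hm, mem_centralizer_singleton_iff.mpr hc.symm⟩
        rw [h2, mem_bot] at h3
        exact h3
      · exfalso
        apply h1
        have h3 : h ∈ center Q := by
          rw [Subgroup.mem_center_iff]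
          intro g
          have hg : g ∈ M ⊔ H := by rw [hsup]; trivial
          obtain ⟨m', hm', x, hx, rfl⟩ := Subgroup.mem_sup_of_normal_left.mp hg
          have h4 : m' ∈ M ⊓ centralizer ({h} : Set Q) := by rw [h2]; exact hm'
          have h5 := mem_centralizer_singleton_iff.mp h4.2
          calc m' * x * h = m' * (x * h) := by group
            _ = m' * (h * x) := by rw [hHab x hx h hh]
            _ = (m' * h) * x := by group
            _ = _ := by rw [h5]; group
        rw [hZ, mem_bot] at h3
        exact h3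
    have hfpf' : ∀ x : Q, x ∉ M → ∀ k ∈ M, x * k = k * x → k = 1 := fun x hx =>
      (fpf_of_complement hMn H hsup hfpf x hx).2
    have hcent : ∀ k ∈ M, k ≠ 1 → centralizer ({k} : Set Q) ≤ M := by
      intro k hk h1 x hx
      by_contra hxM
      exact h1 (hfpf' x hxM k hk (mem_centralizer_singleton_iff.mp hx))
    have hidx := index_dvd_card_sub_one M hMn hcent
    have hcard : Nat.card H = M.index := by
      have hc : IsComplement' M H := by
        apply isComplement'_of_disjoint_and_mul_eq_univ
        · rw [disjoint_iff]; exact hMH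
        · rw [← Subgroup.normal_mul, hsup]; rfl
      exact hc.symm.index_eq_card.symm
    have hcopHM : (Nat.card H).Coprime (Nat.card M) := by
      rw [hcard]
      apply Nat.Coprime.of_dvd_left hidx
      have h1 : 1 ≤ Nat.card M := Nat.card_pos
      rw [Nat.coprime_comm, Nat.coprime_self_sub_right h1]
      exact Nat.coprime_one_right _
    have hcycH : IsCyclic H := Cfsg.Agent.H20.isCyclic_of_fpf_comm hM1
      (by intro x _; rw [Subgroup.normalizer_eq_top_iff.mpr hMn]; trivial) hfpf hcopHM hHab
    have hMtop : M ≠ ⊤ := by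
      intro h
      rw [h, top_inf_eq] at hMH
      have h1 : (S : Subgroup Q) ≤ H := Subgroup.le_normalizer
      rw [hMH] at h1
      exact hS1 (le_bot_iff.mp h1)
    refine ⟨M, hMtop, ⟨inferInstance, hMn, bot_le, fun h => hM1 (le_bot_iff.mp h), ?_, ?_, ?_⟩,
      p, k, hp, hk⟩
    · intro a ha b hb
      rw [mem_bot, ← commutatorElement_def]
      exact commutatorElement_eq_one_iff_mul_comm.mpr (hMab a ha b hb)
    · haveI := hcycH
      have h1 : Function.Surjective ((QuotientGroup.mk' M).comp H.subtype) := by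
        intro y
        obtain ⟨g, rfl⟩ := QuotientGroup.mk'_surjective M y
        have hg : g ∈ M ⊔ H := by rw [hsup]; trivial
        obtain ⟨m', hm', x, hx, rfl⟩ := Subgroup.mem_sup_of_normal_left.mp hg
        refine ⟨⟨x, hx⟩, ?_⟩
        show QuotientGroup.mk' M x = QuotientGroup.mk' M (m' * x)
        rw [map_mul]
        have : QuotientGroup.mk' M m' = 1 := (QuotientGroup.eq_one_iff m').mpr hm'
        rw [this, one_mul]
      exact isCyclic_of_surjective _ h1
    · intro x hx n hn hc
      rw [mem_bot, ← commutatorElement_def] at hc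
      rw [mem_bot]
      exact hfpf' x hx n hn (commutatorElement_eq_one_iff_mul_comm.mp hc)
  · -- nontrivial centre: nilpotent
    left
    have h1 : M ≤ center Q := hmin _ inferInstance hZ
    have hnil : Group.IsNilpotent Q := by
      have h2 : Group.IsNilpotent (⊤ : Subgroup Q) := by
        apply Cfsg.Agent.H1.isNilpotent_of_commutator_le_central (A := ⊤) (Z := center Q) h1
        rw [eq_bot_iff, commutator_le]
        intro z hz x _
        rw [mem_bot]
        exact commutatorElement_eq_one_iff_mul_comm.mpr ((Subgroup.mem_center_iff.mp hz x).symm)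
      exact Group.nilpotent_of_surjective (Subgroup.topEquiv (G := Q)).toMonoidHom
        (Subgroup.topEquiv (G := Q)).surjective
    refine ⟨p, _, hp, Nat.eq_prime_pow_of_unique_prime_dvd (n := Nat.card Q) (p := p)
      Nat.card_pos.ne' (fun {q} hq hqQ => ?_)⟩
    · 
      by_contra hne
      haveI : Fact q.Prime := ⟨hq⟩
      obtain ⟨S⟩ := (inferInstance : Nonempty (Sylow q Q))
      have hS1 : (S : Subgroup Q) ≠ ⊥ := by
        intro h
        have h3 := S.dvd_card_of_dvd_card hqQ
        rw [h, Subgroup.card_bot] at h3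
        exact hq.one_lt.ne' (Nat.dvd_one.mp h3)
      have h2 := hmin (S : Subgroup Q) inferInstance hS1
      obtain ⟨k, hk⟩ := IsPGroup.iff_card.mp hMp
      have hcopMS : M ⊓ (S : Subgroup Q) = ⊥ := by
        apply Subgroup.inf_eq_bot_of_coprime
        obtain ⟨j, hj⟩ := IsPGroup.iff_card.mp S.isPGroup'
        rw [hk, hj]
        exact Nat.Coprime.pow _ _ ((Nat.coprime_primes hp hq).mpr (Ne.symm hne))
      rw [inf_eq_left.mpr h2] at hcopMS
      exact hM1 hcopMS

end Cfsg.Agent.H27
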