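import Cfsg.Agent.H27.Ch12A
import Cfsg.Agent.H2.Cyc

set_option autoImplicit false
set_option linter.style.haveILetI false

/-! # Isaacs, chapter 12: theorem 12.4 -/

universe u

namespace Cfsg.Agent.H27

open Cfsg Cfsg.Agent.H3 Subgroup
open scoped Pointwise commutatorElement

section

variable {G : Type u} [Group G]

theorem exists_quot [Finite G] (hs : Group.IsSolvable G) (hna : ∃ a b : G, a * b ≠ b * a) :
    (∃ K : Subgroup G, K.Normal ∧ ¬ commutator G ≤ K ∧ ∃ p k, p.Prime ∧ K.index = p ^ k) ∨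
      ∃ K N : Subgroup G, FrobQ K N ∧ N ≠ ⊤ ∧ ∃ p k, p.Prime ∧ K.relIndex N = p ^ k := by
  classical
  -- a maximal normal subgroup with nonabelian quotient
  have hne : {K : Subgroup G | K.Normal ∧ ¬ commutator G ≤ K}.Nonempty := by
    refine ⟨⊥, inferInstance, fun h => ?_⟩
    obtain ⟨a, b, hab⟩ := hna
    apply hab
    have h1 : ⁅a, b⁆ ∈ commutator G := commutator_mem_commutator (mem_top a) (mem_top b)
    have h2 := h h1
    rw [mem_bot] at h2
    exact commutatorElement_eq_one_iff_mul_comm.mp h2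
  obtain ⟨K, hKmax⟩ := (Set.toFinite {K : Subgroup G | K.Normal ∧ ¬ commutator G ≤ K}).exists_maximal hne
  have hK := hKmax.1.1
  have hKna := hKmax.1.2
  have hmax : ∀ L : Subgroup G, L.Normal → K ≤ L → ¬ commutator G ≤ L → L ≤ K := fun L h1 h2 h3 =>
    hKmax.2 ⟨h1, h3⟩ h2
  set Q := G ⧸ K with hQ
  have hQs : Group.IsSolvable Q := inferInstance
  have hQna : ∃ a b : Q, a * b ≠ b * a := by
    by_contra hcon
    push Not at hcon
    apply hKna
    rw [_root_.commutator_def, Subgroup.commutator_le]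
    intro a _ b _
    rw [← QuotientGroup.eq_one_iff, commutatorElement_def]
    have := hcon (a : Q) (b : Q)
    show ((a : Q) * b * (a : Q)⁻¹ * (b : Q)⁻¹) = 1
    rw [this]; group
  have hQmin : ∀ L : Subgroup Q, L.Normal → L ≠ ⊥ → commutator Q ≤ L := by
    intro L hL hL1
    have h1 : K ≤ L.comap (QuotientGroup.mk' K) := by
      intro k hk
      rw [Subgroup.mem_comap]
      have : QuotientGroup.mk' K k = 1 := (QuotientGroup.eq_one_iff k).mpr hk
      rw [this]; exact L.one_mem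
    have h2 : commutator G ≤ L.comap (QuotientGroup.mk' K) := by
      by_contra hcon
      have h3 := hmax _ inferInstance h1 hcon
      apply hL1
      rw [eq_bot_iff]
      intro y hy
      obtain ⟨g, rfl⟩ := QuotientGroup.mk'_surjective K y
      rw [mem_bot]
      exact (QuotientGroup.eq_one_iff g).mpr (h3 hy)
    rw [_root_.commutator_def, Subgroup.commutator_le]
    intro a _ b _
    obtain ⟨a, rfl⟩ := QuotientGroup.mk'_surjective K a
    obtain ⟨b, rfl⟩ := QuotientGroup.mk'_surjective K b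
    rw [← map_commutatorElement]
    exact h2 (commutator_mem_commutator (mem_top a) (mem_top b))
  rcases min_quot hQs hQna hQmin with ⟨p, k, hp, hk⟩ | ⟨M, hMtop, hF, p, k, hp, hk⟩
  · exact Or.inl ⟨K, hK, hKna, p, k, hp, hk⟩
  · right
    haveI := hF.nN
    set f : G →* Q ⧸ M := (QuotientGroup.mk' M).comp (QuotientGroup.mk' K) with hf
    have hmem : ∀ g : G, g ∈ f.ker ↔ QuotientGroup.mk' K g ∈ M := by
      intro g
      rw [MonoidHom.mem_ker, hf, MonoidHom.comp_apply]
      exact QuotientGroup.eq_one_iff _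
    have hKle : K ≤ f.ker := by
      intro k hk
      rw [hmem]
      have : QuotientGroup.mk' K k = 1 := (QuotientGroup.eq_one_iff k).mpr hk
      rw [this]; exact M.one_mem
    have hmap : f.ker.map (QuotientGroup.mk' K) = M := by
      ext y
      constructor
      · rintro ⟨g, hg, rfl⟩
        exact (hmem g).mp hg
      · intro hy
        obtain ⟨g, rfl⟩ := QuotientGroup.mk'_surjective K y
        exact ⟨g, (hmem g).mpr hy, rfl⟩
    refine ⟨K, f.ker, ⟨hK, inferInstance, hKle, ?_, ?_, ?_, ?_⟩, ?_, p, k, hp, ?_⟩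
    · intro hle
      apply hF.ne
      rw [← hmap]
      rintro _ ⟨g, hg, rfl⟩
      rw [mem_bot]
      exact (QuotientGroup.eq_one_iff g).mpr (hle hg)
    · intro a ha b hb
      have h1 := hF.comm _ ((hmem a).mp ha) _ ((hmem b).mp hb)
      rw [mem_bot, ← map_mul, ← map_inv, ← map_mul, ← map_inv, ← map_mul] at h1
      exact (QuotientGroup.eq_one_iff _).mp h1
    · haveI := hF.cyc
      exact isCyclic_of_injective (QuotientGroup.kerLift f) (QuotientGroup.kerLift_injective f)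
    · intro x hx n hn hc
      have h1 := hF.fpf (QuotientGroup.mk' K x) (fun h => hx ((hmem x).mpr h)) _ ((hmem n).mp hn) (by
        rw [mem_bot, ← map_mul, ← map_inv, ← map_mul, ← map_inv, ← map_mul]
        exact (QuotientGroup.eq_one_iff _).mpr hc)
      rw [mem_bot] at h1
      exact (QuotientGroup.eq_one_iff n).mp h1
    · intro htop
      apply hMtop
      rw [← hmap, htop]
      exact Subgroup.map_top_of_surjective _ (QuotientGroup.mk'_surjective K)
    · have h1 := Subgroup.relIndex_ker f.ker (QuotientGroup.mk' K)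
      rw [QuotientGroup.ker_mk'] at h1
      rw [h1, hmap, hk]

variable {K N : Subgroup G}

/-- twist of a function by a linear character -/
def twist (μ : N →* ℂˣ) (ψ : N → ℂ) : N → ℂ := fun n => (μ n : ℂ) * ψ n

theorem twist_mul (μ ν : N →* ℂˣ) (ψ : N → ℂ) : twist (μ * ν) ψ = twist μ (twist ν ψ) := by
  funext n
  simp only [twist, MonoidHom.mul_apply, Units.val_mul]
  ring

theorem twist_one (ψ : N → ℂ) : twist (1 : N →* ℂˣ) ψ = ψ := by
  funext n
  simp [twist]

theorem isIrr_twist {ψ : N → ℂ} [Finite G] (hψ : IsIrrCharacter N ψ) (μ : N →* ℂˣ) :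
    IsIrrCharacter N (twist μ ψ) := by
  exact isIrr_mul_hom hψ μ

theorem twist_inv_twist (μ : N →* ℂˣ) (ψ : N → ℂ) : twist μ⁻¹ (twist μ ψ) = ψ := by
  funext n
  simp [twist]

theorem twist_mul_inv_twist (μ ν : N →* ℂˣ) (ψ : N → ℂ) :
    twist (ν * μ⁻¹) (twist μ ψ) = twist ν ψ := by
  rw [twist_mul, twist_inv_twist]

/-- conjugate of a linear character -/
def lc (hN : N.Normal) (x : G) (μ : N →* ℂˣ) : N →* ℂˣ := μ.comp (cjEquiv hN x).toMonoidHom

theorem cj_twist (hN : N.Normal) (x : G) (μ : N →* ℂˣ) (ψ : N → ℂ) :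
    cj hN x (twist μ ψ) = twist (lc hN x μ) (cj hN x ψ) := rfl

theorem lc_mul (hN : N.Normal) (x : G) (μ ν : N →* ℂˣ) :
    lc hN x (μ * ν) = lc hN x μ * lc hN x ν := rfl

theorem lc_inv (hN : N.Normal) (x : G) (μ : N →* ℂˣ) : lc hN x μ⁻¹ = (lc hN x μ)⁻¹ := rfl

theorem lam_eq_one [Finite G] (h : FrobQ K N) {x : G} (hx : x ∉ N) {μ : N →* ℂˣ}
    (hμ : ∀ k : N, (k : G) ∈ K → μ k = 1) (hinv : lc h.nN x μ = μ) : μ = 1 := by
  haveI := h.nK
  haveI := h.nN
  ext n
  rw [MonoidHom.one_apply, Units.val_one]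
  have hNb : (N.map (QuotientGroup.mk' K)).Normal :=
    Subgroup.Normal.map inferInstance _ (QuotientGroup.mk'_surjective K)
  obtain ⟨y, hy, hc⟩ := exists_commutator_eq hNb (x := QuotientGroup.mk' K x) (by
    rintro _ ⟨m, hm, rfl⟩ hcomm
    have h1 : x * m * x⁻¹ * m⁻¹ ∈ K := by
      rw [← QuotientGroup.eq_one_iff]
      show QuotientGroup.mk' K (x * m * x⁻¹ * m⁻¹) = 1
      rw [map_mul, map_mul, map_mul, map_inv, map_inv, hcomm]; group
    exact (QuotientGroup.eq_one_iff m).mpr (h.fpf x hx m hm h1)) (c := QuotientGroup.mk' K (n : G))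
    ⟨n, n.2, rfl⟩
  obtain ⟨y, hy, rfl⟩ := hy
  have h1 : (n : G)⁻¹ * (y⁻¹ * x * y * x⁻¹) ∈ K := by
    rw [← QuotientGroup.eq_one_iff]
    show QuotientGroup.mk' K ((n : G)⁻¹ * (y⁻¹ * x * y * x⁻¹)) = 1
    rw [map_mul, map_inv, hc, map_mul, map_mul, map_mul, map_inv, map_inv]; group
  have h2 : μ (n⁻¹ * ((⟨y, hy⟩ : N)⁻¹ * ⟨x * y * x⁻¹, h.nN.conj_mem y hy x⟩)) = 1 := by
    apply hμ
    have : ((n⁻¹ * ((⟨y, hy⟩ : N)⁻¹ * ⟨x * y * x⁻¹, h.nN.conj_mem y hy x⟩) : N) : G) =
      (n : G)⁻¹ * (y⁻¹ * x * y * x⁻¹) := by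
      push_cast; group
    rw [this]; exact h1
  have h3 : μ ⟨x * y * x⁻¹, h.nN.conj_mem y hy x⟩ = μ ⟨y, hy⟩ := congrArg (fun f => f ⟨y, hy⟩) hinv
  rw [map_mul, map_mul, map_inv, map_inv, h3, inv_mul_cancel, mul_one, inv_eq_one] at h2
  rw [h2, Units.val_one]

theorem twist_eq_of_fixed [Finite G] (h : FrobQ K N) {x : G} (hx : x ∉ N) {ψ : N → ℂ}
    (hψ : cj h.nN x ψ = ψ) {μ : N →* ℂˣ} (hμ : ∀ k : N, (k : G) ∈ K → μ k = 1)
    (hinv : cj h.nN x (twist μ ψ) = twist μ ψ) : twist μ ψ = ψ := by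
  haveI : Finite (N →* ℂˣ) := finite_dual
  haveI := h.nK
  let U := {u : N →* ℂˣ // (∀ k : N, (k : G) ∈ K → u k = 1) ∧ twist u ψ = ψ}
  have hlcK : ∀ u : N →* ℂˣ, (∀ k : N, (k : G) ∈ K → u k = 1) →
      ∀ k : N, (k : G) ∈ K → lc h.nN x u k = 1 := by
    intro u hu k hk
    exact hu _ (h.nK.conj_mem k hk x)
  have hstab : ∀ u : N →* ℂˣ, twist u ψ = ψ → twist (lc h.nN x u) ψ = ψ := by
    intro u hu
    have h1 := cj_twist h.nN x u ψ
    rw [hu, hψ] at h1
    exact h1.symm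
  have hinvU : ∀ u : N →* ℂˣ, twist u ψ = ψ → twist u⁻¹ ψ = ψ := by
    intro u hu
    conv_lhs => rw [← hu]
    exact twist_inv_twist u ψ
  let f : U → U := fun u => ⟨lc h.nN x u.1 * u.1⁻¹, fun k hk => by
    rw [MonoidHom.mul_apply, MonoidHom.inv_apply, hlcK u.1 u.2.1 k hk, u.2.1 k hk]; simp, by
    rw [twist_mul, hinvU u.1 u.2.2, hstab u.1 u.2.2]⟩
  have hinj : ∀ u v : N →* ℂˣ, (∀ k : N, (k : G) ∈ K → u k = 1) →
      (∀ k : N, (k : G) ∈ K → v k = 1) → lc h.nN x u * u⁻¹ = lc h.nN x v * v⁻¹ → u = v := by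
    intro u v hu hv huv
    have h1 : lc h.nN x (u * v⁻¹) = u * v⁻¹ := by
      ext n
      have h2 : lc h.nN x u n * (u n)⁻¹ = lc h.nN x v n * (v n)⁻¹ :=
        congrArg (fun f : N →* ℂˣ => f n) huv
      rw [mul_inv_eq_iff_eq_mul] at h2
      show ((lc h.nN x u n * (lc h.nN x v n)⁻¹ : ℂˣ) : ℂ) = ((u n * (v n)⁻¹ : ℂˣ) : ℂ)
      congr 1
      rw [h2, mul_comm (lc h.nN x v n) _, mul_comm _ (u n), mul_assoc, mul_assoc, mul_inv_cancel,
        mul_one]
    have h2 := lam_eq_one h hx (fun k hk => by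
      rw [MonoidHom.mul_apply, MonoidHom.inv_apply, hu k hk, hv k hk]; simp) h1
    ext n
    have h3 : u n * (v n)⁻¹ = 1 := congrArg (fun f : N →* ℂˣ => f n) h2
    rw [mul_inv_eq_one] at h3
    rw [h3]
  have hf : Function.Injective f := by
    intro u v huv
    exact Subtype.ext (hinj u.1 v.1 u.2.1 v.2.1 (congrArg Subtype.val huv))
  have hsurj := Finite.injective_iff_surjective.mp hf
  have hv : twist (lc h.nN x μ * μ⁻¹) ψ = ψ := by
    have h1 := cj_twist h.nN x μ ψ
    rw [hinv, hψ] at h1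
    have h2 : twist (lc h.nN x μ * μ⁻¹) ψ = twist μ⁻¹ (twist (lc h.nN x μ) ψ) := by
      funext n
      simp only [twist, MonoidHom.mul_apply, Units.val_mul]
      ring
    rw [h2, ← h1]
    exact twist_inv_twist μ ψ
  obtain ⟨u, hu⟩ := hsurj ⟨lc h.nN x μ * μ⁻¹, fun k hk => by
    rw [MonoidHom.mul_apply, MonoidHom.inv_apply, hlcK μ hμ k hk, hμ k hk]; simp, hv⟩
  have h3 := hinj _ _ u.2.1 hμ (congrArg Subtype.val hu)
  rw [← h3]
  exact u.2.2

/-- Isaacs 12.4 (cyclic complement). -/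
theorem frobQ_main [Finite G] (h : FrobQ K N) {ψ : N → ℂ} (hψ : IsIrrCharacter N ψ) :
    (∃ μ : N →* ℂˣ, (∀ k : N, (k : G) ∈ K → μ k = 1) ∧
      ∀ x, cj h.nN x (twist μ ψ) = twist μ ψ → x ∈ N) ∨
      ∀ n : N, (n : G) ∉ K → ψ n = 0 := by
  classical
  haveI := h.nK
  haveI := h.nN
  haveI := h.cyc
  by_contra hcon
  push Not at hcon
  obtain ⟨hstab, n₀, hn₀, hψ₀⟩ := hcon
  haveI : Finite (N →* ℂˣ) := finite_dual
  let Lam := {u : N →* ℂˣ // ∀ k : N, (k : G) ∈ K → u k = 1}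
  let L := Set.range (fun u : Lam => twist u.1 ψ)
  haveI : Finite L := Set.finite_range _
  haveI := Fintype.ofFinite L
  -- `L` has at least two elements
  have h2L : 2 ≤ Fintype.card L := by
    haveI : (K.subgroupOf N).Normal := inferInstance
    have hc : ∀ a b : N ⧸ K.subgroupOf N, a * b = b * a := by
      intro a b
      obtain ⟨a, rfl⟩ := QuotientGroup.mk_surjective a
      obtain ⟨b, rfl⟩ := QuotientGroup.mk_surjective b
      rw [← QuotientGroup.mk_mul, ← QuotientGroup.mk_mul, QuotientGroup.eq, mem_subgroupOf]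
      have h1 := h.comm _ (N.inv_mem b.2) _ (N.inv_mem a.2)
      have h2 : (((a * b)⁻¹ * (b * a) : N) : G) = (b : G)⁻¹ * (a : G)⁻¹ * (b : G)⁻¹⁻¹ * (a : G)⁻¹⁻¹ := by
        push_cast; group
      rw [h2]; exact h1
    have hne : (QuotientGroup.mk n₀ : N ⧸ K.subgroupOf N) ≠ 1 := by
      intro h0
      rw [QuotientGroup.eq_one_iff, mem_subgroupOf] at h0
      exact hn₀ h0
    obtain ⟨ν, hν⟩ : ∃ ν : (N ⧸ K.subgroupOf N) →* ℂˣ, ν (QuotientGroup.mk n₀) ≠ 1 := by
      by_contra hcon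
      push Not at hcon
      haveI : Finite ((N ⧸ K.subgroupOf N) →* ℂˣ) := finite_dual
      haveI := Fintype.ofFinite ((N ⧸ K.subgroupOf N) →* ℂˣ)
      have h1 := sum_dual hc (QuotientGroup.mk n₀) hne
      simp only [hcon, Units.val_one, Finset.sum_const, Finset.card_univ, nsmul_eq_mul,
        mul_one] at h1
      exact Fintype.card_ne_zero (by exact_mod_cast h1)
    let μ₀ : N →* ℂˣ := ν.comp (QuotientGroup.mk' (K.subgroupOf N))
    have hμK : ∀ k : N, (k : G) ∈ K → μ₀ k = 1 := by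
      intro k hk
      show ν (QuotientGroup.mk k) = 1
      rw [(QuotientGroup.eq_one_iff k).mpr (mem_subgroupOf.mpr hk), map_one]
    have hne2 : (⟨twist (1 : N →* ℂˣ) ψ, ⟨⟨1, fun k _ => rfl⟩, rfl⟩⟩ : L) ≠
        ⟨twist μ₀ ψ, ⟨⟨μ₀, hμK⟩, rfl⟩⟩ := by
      intro heq
      have h1 := congrFun (congrArg Subtype.val heq) n₀
      simp only [twist_one] at h1
      have h2 : (μ₀ n₀ : ℂ) * ψ n₀ = 1 * ψ n₀ := by rw [one_mul]; exact h1.symm
      have h3 := mul_right_cancel₀ hψ₀ h2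
      exact hν (Units.ext h3)
    exact Fintype.one_lt_card_iff.mpr ⟨_, _, hne2⟩
  -- every element of `L` is fixed by an element of prime order modulo `N`
  have hfix : ∀ l : L, ∃ q : ℕ, q.Prime ∧ ∃ x : G, x ∉ N ∧ x ^ q ∈ N ∧ cj h.nN x l.1 = l.1 := by
    rintro ⟨_, ⟨u, rfl⟩⟩
    obtain ⟨x, hxfix, hxN⟩ := hstab u.1 u.2
    have h1 : orderOf (x : G ⧸ N) ≠ 1 := by
      intro h0
      rw [orderOf_eq_one_iff, QuotientGroup.eq_one_iff] at h0
      exact hxN h0
    obtain ⟨q, hq, hqd⟩ := Nat.exists_prime_and_dvd h1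
    obtain ⟨m, hm⟩ := hqd
    have hpow : ∀ k : ℕ, cj h.nN (x ^ k) (twist u.1 ψ) = twist u.1 ψ := fun k =>
      (inertia h.nN (twist u.1 ψ)).pow_mem hxfix k
    refine ⟨q, hq, x ^ m, ?_, ?_, hpow m⟩
    · intro hmem
      rw [← QuotientGroup.eq_one_iff, QuotientGroup.mk_pow] at hmem
      have h2 := orderOf_dvd_of_pow_eq_one hmem
      have h3 : 0 < m := by
        rcases Nat.eq_zero_or_pos m with h0 | h0
        · rw [h0, mul_zero] at hm
          exact absurd hm (orderOf_pos _).ne'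
        · exact h0
      have h4 := Nat.le_of_dvd h3 h2
      rw [hm] at h4
      have := hq.two_le
      nlinarith
    · rw [← pow_mul, mul_comm m q, ← hm, ← QuotientGroup.eq_one_iff, QuotientGroup.mk_pow,
        pow_orderOf_eq_one]
  choose q hq x hxN hxq hxfix using hfix
  -- elements of `L` differ by twists
  have htw : ∀ l l' : L, ∃ μ : N →* ℂˣ, (∀ k : N, (k : G) ∈ K → μ k = 1) ∧ l'.1 = twist μ l.1 := by
    rintro ⟨_, ⟨u, rfl⟩⟩ ⟨_, ⟨v, rfl⟩⟩
    refine ⟨v.1 * u.1⁻¹, fun k hk => by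
      rw [MonoidHom.mul_apply, MonoidHom.inv_apply, u.2 k hk, v.2 k hk]; simp, ?_⟩
    exact (twist_mul_inv_twist _ _ _).symm
  have huniq : ∀ l l' : L, ∀ y : G, y ∉ N → cj h.nN y l.1 = l.1 → cj h.nN y l'.1 = l'.1 →
      l = l' := by
    intro l l' y hy h1 h2
    obtain ⟨μ, hμ, hl'⟩ := htw l l'
    apply Subtype.ext
    rw [hl'] at h2 ⊢
    exact (twist_eq_of_fixed h hy h1 hμ h2).symm
  -- the primes are distinct
  have hqinj : Function.Injective q := by
    intro l l' hqq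
    -- the images of `x l` and `x l'` generate the same subgroup
    have hord : ∀ l : L, orderOf (x l : G ⧸ N) = q l := by
      intro l
      haveI : Fact (q l).Prime := ⟨hq l⟩
      apply orderOf_eq_prime
      · rw [← QuotientGroup.mk_pow, QuotientGroup.eq_one_iff]; exact hxq l
      · intro h0
        rw [QuotientGroup.eq_one_iff] at h0
        exact hxN l h0
    have h1 : Subgroup.zpowers (x l : G ⧸ N) = Subgroup.zpowers (x l' : G ⧸ N) := by
      apply Cfsg.Agent.H2.eq_of_card_eq_of_isCyclic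
      rw [Nat.card_zpowers, Nat.card_zpowers, hord, hord, hqq]
    have h2 : (x l : G ⧸ N) ∈ Subgroup.zpowers (x l' : G ⧸ N) := by
      rw [← h1]; exact Subgroup.mem_zpowers _
    obtain ⟨k, hk⟩ := Subgroup.mem_zpowers_iff.mp h2
    rw [← QuotientGroup.mk_zpow, QuotientGroup.eq] at hk
    apply huniq l l' (x l) (hxN l) (hxfix l)
    have hclass : IsClassFunction N l'.1 := by
      obtain ⟨_, ⟨u, rfl⟩⟩ := l'
      exact irr_classFun (isIrr_twist hψ u.1)
    have h3 : x l ∈ inertia h.nN l'.1 := by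
      have h4 : x l' ^ k ∈ inertia h.nN l'.1 := (inertia h.nN l'.1).zpow_mem (hxfix l') k
      have h5 := le_inertia h.nN hclass hk
      have h6 : x l = x l' ^ k * ((x l' ^ k)⁻¹ * x l) := by group
      rw [h6]
      exact mul_mem h4 h5
    exact h3
  -- each prime divides `|L| - 1`
  have hdvd : ∀ l : L, q l ∣ Fintype.card L - 1 := by
    intro l
    haveI : Fact (q l).Prime := ⟨hq l⟩
    let f : Function.End L := fun l' => ⟨cj h.nN (x l) l'.1, by
      obtain ⟨μ, hμ, hl'⟩ := htw l l'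
      obtain ⟨u, hu⟩ := l.2
      refine ⟨⟨lc h.nN (x l) μ * u.1, fun k hk => ?_⟩, ?_⟩
      · rw [MonoidHom.mul_apply, u.2 k hk, mul_one]
        exact hμ _ (h.nK.conj_mem k hk _)
      · have hu' : twist u.1 ψ = l.1 := hu
        show twist (lc h.nN (x l) μ * u.1) ψ = _
        rw [hl', cj_twist, hxfix, twist_mul, hu']⟩
    have hfpow : ∀ k : ℕ, ∀ l' : L, ((f ^ k) l').1 = cj h.nN (x l ^ k) l'.1 := by
      intro k
      induction k with
      | zero => intro l'; rw [pow_zero, pow_zero, cj_one]; rfl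
      | succ k ih =>
        intro l'
        rw [pow_succ, pow_succ']
        show ((f ^ k) (f l')).1 = _
        rw [ih, cj_mul]
    have hf1 : f ^ (q l) ^ 1 = 1 := by
      funext l'
      apply Subtype.ext
      rw [pow_one, hfpow]
      have hclass : IsClassFunction N l'.1 := by
        obtain ⟨_, ⟨u, rfl⟩⟩ := l'
        exact irr_classFun (isIrr_twist hψ u.1)
      exact cj_of_mem h.nN hclass (hxq l)
    have h1 := Equiv.Perm.card_fixedPoints_modEq (f := f) hf1
    have h2 : Fintype.card (Function.fixedPoints f) = 1 := by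
      rw [Fintype.card_eq_one_iff]
      refine ⟨⟨l, Subtype.ext (hxfix l)⟩, ?_⟩
      rintro ⟨l', hl'⟩
      apply Subtype.ext
      exact (huniq l l' (x l) (hxN l) (hxfix l) (congrArg Subtype.val hl')).symm
    rw [h2] at h1
    exact (Nat.modEq_iff_dvd' (by omega)).mp h1.symm
  have hcard : Fintype.card L ≤ (Fintype.card L - 1).primeFactors.card := by
    rw [← Finset.card_univ]
    apply Finset.card_le_card_of_injOn q
    · intro l _
      rw [Finset.mem_coe, Nat.mem_primeFactors]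
      have h2L' : 2 ≤ Fintype.card L := h2L
      exact ⟨hq l, hdvd l, Nat.sub_ne_zero_of_lt h2L'⟩
    · exact hqinj.injOn
  have h3 : (Fintype.card L - 1).primeFactors.card ≤ Fintype.card L - 1 := by
    calc (Fintype.card L - 1).primeFactors.card ≤ (Finset.Icc 1 (Fintype.card L - 1)).card := by
          apply Finset.card_le_card
          intro r hr
          rw [Finset.mem_Icc]
          exact ⟨(Nat.prime_of_mem_primeFactors hr).one_lt.le, Nat.le_of_mem_primeFactors hr⟩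
      _ = _ := by simp
  omega

end

end Cfsg.Agent.H27
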