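import Cfsg.Agent.H27.Util
import Cfsg.Agent.H27.Galois
import Cfsg.Prelude.Def_Transfer

/-!
Characters vanishing on all but two conjugacy classes (Gagola).
-/

set_option autoImplicit false
set_option linter.unusedSectionVars false
open Cfsg Cfsg.Agent.H3
open scoped ComplexConjugate

namespace Cfsg.Agent.H27

variable {G : Type*} [Group G]

/-- The conclusions of the basic analysis. -/
structure GagolaData (χ : IrrCharacter G) (x₀ : G) (N : Subgroup G) : Prop where
  ne_one : x₀ ≠ 1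
  normal : N.Normal
  mem : x₀ ∈ N
  isconj : ∀ g ∈ N, g ≠ 1 → IsConj x₀ g
  mem_iff : ∀ g, g ∈ N ↔ (χ : G → ℂ) g ≠ 0
  ker : ∀ ψ : IrrCharacter G, ψ ≠ χ → ∀ n ∈ N, (ψ : G → ℂ) n = (ψ : G → ℂ) 1
  val : ((Nat.card N : ℂ) - 1) * (χ : G → ℂ) x₀ = - (χ : G → ℂ) 1

/-- the intersection of all kernels of the irreducible characters containing `K` in their kernel
is `K` -/
theorem mem_of_forall_ker [Finite G] {K : Subgroup G} [K.Normal] {g : G}
    (h : ∀ ψ : IrrCharacter G, (∀ k ∈ K, (ψ : G → ℂ) k = (ψ : G → ℂ) 1) →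
      (ψ : G → ℂ) g = (ψ : G → ℂ) 1) : g ∈ K := by
  rw [← QuotientGroup.eq_one_iff, ← isConj_one_left, isConj_iff_irr]
  intro ψ
  have h1 := h (irrQuotEquiv K ψ).1 (irrQuotEquiv K ψ).2
  exact h1

theorem conj_one_val {χ : G → ℂ} (hχ : IsCharacter G χ) : conj (χ 1) = χ 1 := by
  obtain ⟨n, hn⟩ := isCharacter_one_eq hχ
  rw [hn, Complex.conj_natCast]

theorem gagola_data [Finite G] (hG : 2 < Nat.card G) (χ : IrrCharacter G)
    (hχ : Nat.card {C : ConjClasses G // ∃ g ∈ C.carrier, (χ : G → ℂ) g ≠ 0} = 2) :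
    ∃ (x₀ : G) (N : Subgroup G), GagolaData χ x₀ N := by
  classical
  have := Fintype.ofFinite G
  have := Fintype.ofFinite (IrrCharacter G)
  have hchar := isIrr_isCharacter χ.2
  have hne1 := isIrr_one_ne_zero χ.2
  -- the second class
  have h1 : ∃ x₀ : G, x₀ ≠ 1 ∧ (χ : G → ℂ) x₀ ≠ 0 ∧ ∀ g, (χ : G → ℂ) g ≠ 0 → g = 1 ∨ IsConj x₀ g := by
    have hmem : ∀ g : G, (χ : G → ℂ) g ≠ 0 → ∃ h ∈ (ConjClasses.mk g).carrier, (χ : G → ℂ) h ≠ 0 :=
      fun g hg => ⟨g, ConjClasses.mem_carrier_mk, hg⟩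
    let c1 : {C : ConjClasses G // ∃ g ∈ C.carrier, (χ : G → ℂ) g ≠ 0} :=
      ⟨ConjClasses.mk 1, hmem 1 hne1⟩
    obtain ⟨c2, hc2, huniq⟩ := (Nat.card_eq_two_iff' c1).mp hχ
    obtain ⟨x₀, hx₀, hx₀χ⟩ := c2.2
    have hc2x : c2 = ⟨ConjClasses.mk x₀, hmem x₀ hx₀χ⟩ := by
      apply Subtype.ext
      exact (ConjClasses.mem_carrier_iff_mk_eq.mp hx₀).symm
    refine ⟨x₀, ?_, hx₀χ, ?_⟩
    · rintro rfl
      exact hc2 hc2x
    · intro g hg
      by_cases hg1 : g = 1
      · exact Or.inl hg1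
      right
      have h2 := huniq ⟨ConjClasses.mk g, hmem g hg⟩ (by
        intro h
        have h3 := congrArg Subtype.val h
        change ConjClasses.mk g = ConjClasses.mk 1 at h3
        rw [ConjClasses.mk_eq_mk_iff_isConj, isConj_one_left] at h3
        exact hg1 h3)
      rw [hc2x] at h2
      have h3 := congrArg Subtype.val h2
      change ConjClasses.mk g = ConjClasses.mk x₀ at h3
      rw [ConjClasses.mk_eq_mk_iff_isConj] at h3
      exact h3.symm
  obtain ⟨x₀, hx1, hx0, hall⟩ := h1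
  -- sums
  have hsum : ∀ F : G → ℂ, IsClassFunction G F → ∑ g : G, (χ : G → ℂ) g * F g
      = (χ : G → ℂ) 1 * F 1 + ((cl x₀).card : ℂ) * ((χ : G → ℂ) x₀ * F x₀) := by
    intro F hF
    have h2 : ∑ g : G, (χ : G → ℂ) g * F g = ∑ g ∈ insert 1 (cl x₀), (χ : G → ℂ) g * F g := by
      symm
      refine Finset.sum_subset (Finset.subset_univ _) fun g _ hg => ?_
      have : (χ : G → ℂ) g = 0 := by
        by_contra h3
        apply hg
        rcases hall g h3 with h4 | h4
        · rw [h4]; exact Finset.mem_insert_self _ _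
        · exact Finset.mem_insert_of_mem (mem_cl.mpr h4)
      rw [this, zero_mul]
    rw [h2, Finset.sum_insert]
    · congr 1
      rw [Finset.sum_congr rfl (g := fun _ => (χ : G → ℂ) x₀ * F x₀), Finset.sum_const, nsmul_eq_mul]
      intro g hg
      rw [← classFun_isConj hF (mem_cl.mp hg), ← isCharacter_isConj hchar (mem_cl.mp hg)]
    · rw [mem_cl]
      intro h
      rw [isConj_one_left] at h
      exact hx1 h
  -- `χ` is not principal
  have hχ1 : χ ≠ oneIrr G := by
    rintro rfl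
    have h2 : ∀ g : G, g ≠ 1 → IsConj x₀ g := fun g hg =>
      (hall g (by rw [oneIrr_apply]; exact one_ne_zero)).resolve_left hg
    have h3 : (cl x₀).card + 1 = Nat.card G := by
      have h4 : insert 1 (cl x₀) = (Finset.univ : Finset G) := by
        ext g
        simp only [Finset.mem_insert, Finset.mem_univ, iff_true, mem_cl]
        by_cases hg : g = 1
        · exact Or.inl hg
        · exact Or.inr (h2 g hg)
      rw [Nat.card_eq_fintype_card, ← Finset.card_univ, ← h4, Finset.card_insert_of_notMem]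
      rw [mem_cl]
      intro h
      rw [isConj_one_left] at h
      exact hx1 h
    have h4 := card_cl_mul_card_centralizer x₀
    rw [← h3] at h4
    have h5 : (cl x₀).card ∣ 1 := by
      have h6 : (cl x₀).card ∣ (cl x₀).card + 1 := ⟨_, h4.symm⟩
      exact (Nat.dvd_add_right (dvd_refl _)).mp h6
    have h6 := Nat.dvd_one.mp h5
    omega
  -- orthogonality with 1
  have hval1 : ((cl x₀).card : ℂ) * (χ : G → ℂ) x₀ = - (χ : G → ℂ) 1 := by
    have h2 := classInner_irr' χ (oneIrr G)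
    rw [if_neg hχ1] at h2
    unfold classInner at h2
    have hGc : (Nat.card G : ℂ)⁻¹ ≠ 0 := inv_ne_zero (by exact_mod_cast Nat.card_pos.ne')
    have h3 := (mul_eq_zero.mp h2).resolve_left hGc
    rw [hsum (fun g => conj ((oneIrr G : G → ℂ) g)) (classFun_conj (irr_classFun (oneIrr G).2))] at h3
    simp only [oneIrr_apply, map_one, mul_one] at h3
    linear_combination h3
  have hker : ∀ ψ : IrrCharacter G, ψ ≠ χ → (ψ : G → ℂ) x₀ = (ψ : G → ℂ) 1 := by
    intro ψ hψ
    have h2 := classInner_irr' χ ψ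
    rw [if_neg (fun h => hψ h.symm)] at h2
    unfold classInner at h2
    have hGc : (Nat.card G : ℂ)⁻¹ ≠ 0 := inv_ne_zero (by exact_mod_cast Nat.card_pos.ne')
    have h3 := (mul_eq_zero.mp h2).resolve_left hGc
    rw [hsum (fun g => conj ((ψ : G → ℂ) g)) (classFun_conj (irr_classFun ψ.2))] at h3
    have h4 : (χ : G → ℂ) 1 * (conj ((ψ : G → ℂ) 1) - conj ((ψ : G → ℂ) x₀)) = 0 := by
      linear_combination h3 - conj ((ψ : G → ℂ) x₀) * hval1
    have h5 := (mul_eq_zero.mp h4).resolve_left hne1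
    have h6 := sub_eq_zero.mp h5
    have h7 := congrArg conj h6
    rw [Complex.conj_conj, Complex.conj_conj] at h7
    exact h7.symm
  -- the subgroup
  let N : Subgroup G := ⨅ ψ : {ψ : IrrCharacter G // ψ ≠ χ}, charKer (irr_isChar ψ.1.2)
  have hNmem : ∀ g, g ∈ N ↔ ∀ ψ : IrrCharacter G, ψ ≠ χ → (ψ : G → ℂ) g = (ψ : G → ℂ) 1 := by
    intro g
    simp only [N, Subgroup.mem_iInf, Subtype.forall]
    exact Iff.rfl
  have hx0N : x₀ ∈ N := (hNmem x₀).mpr hker
  have hconj : ∀ g ∈ N, g ≠ 1 → IsConj x₀ g := by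
    intro g hg hg1
    rw [isConj_iff_irr]
    intro ψ
    by_cases hψ : ψ = χ
    · subst hψ
      -- regular character
      have h2 := sum_degree_mul (G := G) g
      have h3 := sum_degree_mul (G := G) x₀
      rw [if_neg hg1] at h2
      rw [if_neg hx1] at h3
      rw [← Finset.add_sum_erase _ _ (Finset.mem_univ ψ)] at h2 h3
      have h4 : ∑ ξ ∈ Finset.univ.erase ψ, (ξ : G → ℂ) 1 * (ξ : G → ℂ) g
          = ∑ ξ ∈ Finset.univ.erase ψ, (ξ : G → ℂ) 1 * (ξ : G → ℂ) x₀ := by
        refine Finset.sum_congr rfl fun ξ hξ => ?_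
        have hξ' := Finset.ne_of_mem_erase hξ
        rw [(hNmem g).mp hg ξ hξ', hker ξ hξ']
      rw [h4] at h2
      have h5 : (ψ : G → ℂ) 1 * ((ψ : G → ℂ) x₀ - (ψ : G → ℂ) g) = 0 := by
        linear_combination h3 - h2
      exact sub_eq_zero.mp ((mul_eq_zero.mp h5).resolve_left hne1)
    · rw [hker ψ hψ, (hNmem g).mp hg ψ hψ]
  have hnormal : N.Normal := by
    refine ⟨fun n hn g => ?_⟩
    rw [hNmem] at hn ⊢
    intro ψ hψ
    rw [isCharacter_conj (isIrr_isCharacter ψ.2)]
    exact hn ψ hψ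
  have hmemiff : ∀ g, g ∈ N ↔ (χ : G → ℂ) g ≠ 0 := by
    intro g
    constructor
    · intro hg
      by_cases hg1 : g = 1
      · rw [hg1]; exact hne1
      · rw [← isCharacter_isConj hchar (hconj g hg hg1)]; exact hx0
    · intro hg
      rcases hall g hg with h2 | h2
      · rw [h2]; exact N.one_mem
      · obtain ⟨c, rfl⟩ := isConj_iff.mp h2
        exact hnormal.conj_mem x₀ hx0N c
  have hcard : Nat.card N = (cl x₀).card + 1 := by
    have h4 : (insert 1 (cl x₀) : Finset G) = Finset.univ.filter (fun g => g ∈ N) := by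
      ext g
      simp only [Finset.mem_insert, Finset.mem_filter, Finset.mem_univ, true_and, mem_cl]
      constructor
      · rintro (h | h)
        · rw [h]; exact N.one_mem
        · obtain ⟨c, rfl⟩ := isConj_iff.mp h
          exact hnormal.conj_mem x₀ hx0N c
      · intro h
        by_cases hg : g = 1
        · exact Or.inl hg
        · exact Or.inr (hconj g h hg)
    rw [Nat.card_eq_fintype_card, Fintype.card_subtype, ← h4, Finset.card_insert_of_notMem]
    rw [mem_cl]
    intro h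
    rw [isConj_one_left] at h
    exact hx1 h
  refine ⟨x₀, N, hx1, hnormal, hx0N, hconj, hmemiff, ?_, ?_⟩
  · intro ψ hψ n hn
    exact (hNmem n).mp hn ψ hψ
  · rw [hcard]
    push_cast
    rw [add_sub_cancel_right]
    exact hval1

section data

variable [Finite G] {χ : IrrCharacter G} {x₀ : G} {N : Subgroup G}

theorem GagolaData.val_of_mem (h : GagolaData χ x₀ N) {n : G} (hn : n ∈ N) (hn1 : n ≠ 1) :
    (χ : G → ℂ) n = (χ : G → ℂ) x₀ :=
  (isCharacter_isConj (isIrr_isCharacter χ.2) (h.isconj n hn hn1)).symm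

theorem GagolaData.card_gt (h : GagolaData χ x₀ N) : 1 < Nat.card N := by
  have : Nontrivial N := ⟨⟨⟨x₀, h.mem⟩, 1, fun e => h.ne_one (congrArg Subtype.val e)⟩⟩
  exact Finite.one_lt_card

theorem GagolaData.faithful (h : GagolaData χ x₀ N) {g : G}
    (hg : (χ : G → ℂ) g = (χ : G → ℂ) 1) : g = 1 := by
  by_contra hg1
  have h0 := isIrr_one_ne_zero χ.2
  have hgN : g ∈ N := (h.mem_iff g).mpr (by rw [hg]; exact h0)
  rw [h.val_of_mem hgN hg1] at hg
  have h1 := h.val
  rw [hg] at h1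
  have h2 : (Nat.card N : ℂ) * (χ : G → ℂ) 1 = 0 := by linear_combination h1
  rcases mul_eq_zero.mp h2 with h3 | h3
  · have : Nat.card N = 0 := by exact_mod_cast h3
    have := h.card_gt
    omega
  · exact h0 h3

theorem GagolaData.le_normal (h : GagolaData χ x₀ N) {K : Subgroup G} (hK : K.Normal)
    (hK1 : K ≠ ⊥) : N ≤ K := by
  intro n hn
  refine mem_of_forall_ker fun ψ hψ => h.ker ψ ?_ n hn
  rintro rfl
  apply hK1
  rw [Subgroup.eq_bot_iff_forall]
  intro k hk
  exact h.faithful (hψ k hk)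

theorem GagolaData.transitive (h : GagolaData χ x₀ N) {x y : G} (hx : x ∈ N) (hy : y ∈ N)
    (hx1 : x ≠ 1) (hy1 : y ≠ 1) : ∃ g : G, g * x * g⁻¹ = y :=
  isConj_iff.mp ((h.isconj x hx hx1).symm.trans (h.isconj y hy hy1))

theorem GagolaData.elem (h : GagolaData χ x₀ N) :
    ∃ p : ℕ, p.Prime ∧ IsPGroup p N ∧ IsElementaryAbelian p N := by
  obtain ⟨p, hp, hpN⟩ := Nat.exists_prime_and_dvd (n := Nat.card N) (by
    have := h.card_gt
    omega)
  have : Fact p.Prime := ⟨hp⟩
  obtain ⟨x, hx⟩ := exists_prime_orderOf_dvd_card' p hpN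
  have hx' : orderOf (x : G) = p := by rw [← hx, Subgroup.orderOf_coe]
  have hx1 : (x : G) ≠ 1 := by
    intro e
    rw [e, orderOf_one] at hx'
    exact hp.one_lt.ne hx'
  have hpow : ∀ a ∈ N, a ^ p = 1 := by
    intro a ha
    by_cases ha1 : a = 1
    · rw [ha1, one_pow]
    · obtain ⟨g, hg⟩ := h.transitive x.2 ha hx1 ha1
      rw [← hg, conj_pow, ← hx', pow_orderOf_eq_one]
      group
  have hNp : IsPGroup p N := fun a => ⟨1, Subtype.ext (by
    rw [pow_one]; exact hpow a a.2)⟩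
  have hnt : Nontrivial N := Finite.one_lt_card_iff_nontrivial.mp h.card_gt
  have hcen := hNp.center_nontrivial
  have hnorm : N.Normal := h.normal
  refine ⟨p, hp, hNp, ?_, hpow⟩
  -- the center, as a subgroup of `G`, is normal
  have hZ : ((Subgroup.center N).map N.subtype).Normal := inferInstance
  have hZ1 : (Subgroup.center N).map N.subtype ≠ ⊥ := by
    intro e
    rw [Subgroup.map_eq_bot_iff_of_injective _ N.subtype_injective] at e
    rw [e] at hcen
    exact not_nontrivial (⊥ : Subgroup N) hcen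
  have hle := h.le_normal hZ hZ1
  refine ⟨⟨fun a b => ?_⟩⟩
  obtain ⟨b', hb', e⟩ := hle b.2
  have : b' = b := Subtype.ext e
  rw [this] at hb'
  exact Subgroup.mem_center_iff.mp hb' a

theorem GagolaData.eq_of (h : GagolaData χ x₀ N) {ψ : IrrCharacter G}
    (hψ : ∀ g, (ψ : G → ℂ) g = (ψ : G → ℂ) 1 → g = 1) : ψ = χ := by
  by_contra hne
  exact h.ne_one (hψ x₀ (h.ker ψ hne x₀ h.mem))

end data

end Cfsg.Agent.H27
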