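import Cfsg.Agent.H27.Ch12B
import Cfsg.Agent.H3.DegRatio
import Cfsg.Agent.H27.Util
import Cfsg.Agent.H27.Kernel
import Cfsg.Agent.H27.Gagola

set_option autoImplicit false
set_option linter.style.haveILetI false

/-! # Isaacs, chapter 12: consequences for degrees -/

universe u

namespace Cfsg.Agent.H27

open Cfsg Cfsg.Agent.H3 Subgroup
open scoped Pointwise commutatorElement

section

variable {G : Type u} [Group G]

/-- degrees along a normal subgroup -/
theorem exists_under [Finite G] {N : Subgroup G} (hN : N.Normal) {χ : G → ℂ}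
    (hχ : IsIrrCharacter G χ) : ∃ θ : N → ℂ, IsIrrCharacter N θ ∧
      (∀ [Fintype N], classInner (fun n : N => χ n) θ ≠ 0) ∧ charDegree θ ∣ charDegree χ ∧
      charDegree χ / charDegree θ ∣ N.index := by
  classical
  haveI := Fintype.ofFinite G
  haveI := Fintype.ofFinite N
  have h0 : (fun n : N => χ n) ≠ 0 := by
    intro h
    have h1 := congrFun h 1
    exact irr_one_ne_zero hχ (by simpa using h1)
  obtain ⟨⟨θ, hθ⟩, hne⟩ := exists_constituent (isChar_restrict N (irr_isChar hχ)) h0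
  obtain ⟨h1, h2⟩ := ratio_dvd_index hN hχ hθ hne (charDegree χ) (charDegree θ)
    (charDegree_cast (irr_isChar hχ)).symm (charDegree_cast (irr_isChar hθ)).symm
  refine ⟨θ, hθ, ?_, h1, h2⟩
  intro inst
  have : inst = Fintype.ofFinite N := Subsingleton.elim _ _
  convert hne

theorem exists_over [Finite G] {N : Subgroup G} (hN : N.Normal) {θ : N → ℂ}
    (hθ : IsIrrCharacter N θ) : ∃ χ : G → ℂ, IsIrrCharacter G χ ∧
      (∀ [Fintype N], classInner (fun n : N => χ n) θ ≠ 0) ∧ charDegree θ ∣ charDegree χ ∧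
      charDegree χ / charDegree θ ∣ N.index := by
  classical
  haveI := Fintype.ofFinite G
  haveI := Fintype.ofFinite N
  have h0 : indFun N θ ≠ 0 := by
    intro h
    have h1 := indFun_one_apply N θ
    rw [h] at h1
    have h2 := irr_one_ne_zero hθ
    have h3 : (N.index : ℂ) ≠ 0 := by exact_mod_cast Subgroup.index_ne_zero_of_finite
    exact mul_ne_zero h3 h2 h1.symm
  obtain ⟨⟨χ, hχ⟩, hne⟩ := exists_constituent (isChar_ind N (irr_isChar hθ)) h0
  simp only at hne
  rw [frobenius_reciprocity N θ (irr_classFun hχ)] at hne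
  have hne' := classInner_ne_zero_symm hne
  obtain ⟨h1, h2⟩ := ratio_dvd_index hN hχ hθ hne' (charDegree χ) (charDegree θ)
    (charDegree_cast (irr_isChar hχ)).symm (charDegree_cast (irr_isChar hθ)).symm
  refine ⟨χ, hχ, ?_, h1, h2⟩
  intro inst
  convert hne'

/-- `χ_N` is irreducible when `χ(1)` is prime to the index. -/
theorem restrict_irr_of_coprime [Finite G] {N : Subgroup G} (hN : N.Normal) {χ : G → ℂ}
    (hχ : IsIrrCharacter G χ) (hcop : (charDegree χ).Coprime N.index) :
    IsIrrCharacter N (fun n : N => χ n) := by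
  classical
  haveI := Fintype.ofFinite G
  haveI := Fintype.ofFinite N
  obtain ⟨θ, hθ, hne, h1, h2⟩ := exists_under hN hχ
  have hne := hne
  obtain ⟨c, hc⟩ := h1
  have hθ0 : 0 < charDegree θ := charDegree_pos hθ
  have h3 : charDegree χ / charDegree θ = c := by rw [hc, Nat.mul_div_cancel_left _ hθ0]
  rw [h3] at h2
  have h4 : c = 1 := Nat.eq_one_of_dvd_coprimes hcop (Dvd.intro_left _ hc.symm) h2
  rw [h4, mul_one] at hc
  have h5 := clifford_degree hN hχ hθ hne
  have h6 := clifford_norm hN hχ hθ hne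
  obtain ⟨e, he⟩ := classInner_char_nat (isChar_restrict N (irr_isChar hχ)) (irr_isChar hθ)
  rw [he] at h5 h6
  have h7 : χ 1 = θ 1 := by
    rw [← charDegree_cast (irr_isChar hχ), ← charDegree_cast (irr_isChar hθ), hc]
  rw [h7] at h5
  have h8 : ((e * (inertia hN θ).index : ℕ) : ℂ) = 1 := by
    have h9 := irr_one_ne_zero hθ
    push_cast
    have : (1 : ℂ) * θ 1 = (e * (inertia hN θ).index : ℂ) * θ 1 := by rw [one_mul]; exact h5
    exact (mul_right_cancel₀ h9 this).symm
  have h9 : e * (inertia hN θ).index = 1 := by exact_mod_cast h8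
  have h10 : e = 1 := Nat.dvd_one.mp ⟨_, h9.symm⟩
  have h11 : (inertia hN θ).index = 1 := Nat.dvd_one.mp ⟨e, by rw [mul_comm]; exact h9.symm⟩
  apply isIrr_of_char_norm (isChar_restrict N (irr_isChar hχ))
  rw [h6, h10, h11]; simp

variable {K N : Subgroup G}

theorem FrobQ.relIndex_dvd [Finite G] (h : FrobQ K N) {ψ : N → ℂ} (hψ : IsIrrCharacter N ψ)
    (hv : ∀ n : N, (n : G) ∉ K → ψ n = 0) : K.relIndex N ∣ charDegree ψ ^ 2 := by
  classical
  haveI := h.nK
  haveI := Fintype.ofFinite N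
  haveI hKn : (K.subgroupOf N).Normal := inferInstance
  haveI := Fintype.ofFinite (K.subgroupOf N)
  obtain ⟨θ, hθ, hne, -, -⟩ := exists_under hKn hψ
  have hne := hne
  have h5 := clifford_degree hKn hψ hθ hne
  have h6 := clifford_norm hKn hψ hθ hne
  obtain ⟨e, he⟩ := classInner_char_nat (isChar_restrict (K.subgroupOf N) (irr_isChar hψ)) (irr_isChar hθ)
  rw [he] at h5 h6
  have h7 : classInner (fun k : K.subgroupOf N => ψ k) (fun k : K.subgroupOf N => ψ k) =
      (K.relIndex N : ℂ) := by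
    rw [classInner_self_real]
    have h8 : ∑ x : K.subgroupOf N, ‖ψ x‖ ^ 2 = (Nat.card N : ℝ) := by
      rw [← sum_norm_sq_irr hψ]
      have h9 : ∑ x : K.subgroupOf N, ‖ψ x‖ ^ 2 =
          ∑ x ∈ (Finset.univ : Finset (K.subgroupOf N)).map ⟨Subtype.val, Subtype.val_injective⟩,
            ‖ψ x‖ ^ 2 := by
        rw [Finset.sum_map]; rfl
      rw [h9]
      apply Finset.sum_subset (Finset.subset_univ _)
      intro x _ hx
      have : (x : G) ∉ K := by
        intro hxK
        apply hx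
        rw [Finset.mem_map]
        exact ⟨⟨x, mem_subgroupOf.mpr hxK⟩, Finset.mem_univ _, rfl⟩
      rw [hv x this]; simp
    rw [h8]
    have h9 : (Nat.card N : ℝ) = (K.relIndex N : ℝ) * Nat.card (K.subgroupOf N) := by
      exact_mod_cast (Subgroup.index_mul_card (K.subgroupOf N)).symm
    rw [h9]
    have h10 : (Nat.card (K.subgroupOf N) : ℝ) ≠ 0 := by exact_mod_cast Nat.card_pos.ne'
    have h11 : (Nat.card (K.subgroupOf N) : ℝ)⁻¹ * ((K.relIndex N : ℝ) * Nat.card (K.subgroupOf N)) =
        (K.relIndex N : ℝ) := by field_simp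
    rw [h11]; simp
  rw [h7] at h6
  rw [← charDegree_cast (irr_isChar hψ), ← charDegree_cast (irr_isChar hθ)] at h5
  have h6' : K.relIndex N = e ^ 2 * (inertia hKn θ).index := by exact_mod_cast h6
  have h5' : charDegree ψ = e * (inertia hKn θ).index * charDegree θ := by exact_mod_cast h5
  rw [h5', h6']
  exact ⟨(inertia hKn θ).index * charDegree θ ^ 2, by ring⟩

theorem charDegree_twist [Finite G] (μ : N →* ℂˣ) {ψ : N → ℂ} (hψ : IsIrrCharacter N ψ) :
    charDegree (twist μ ψ) = charDegree ψ := by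
  have h1 := charDegree_cast (irr_isChar (isIrr_twist hψ μ))
  have h2 := charDegree_cast (irr_isChar hψ)
  have h3 : twist μ ψ 1 = ψ 1 := by simp [twist]
  rw [h3, ← h2] at h1
  exact_mod_cast h1

/-- Isaacs 12.4, degree form. -/
theorem FrobQ.alt [Finite G] (h : FrobQ K N) {ψ : N → ℂ} (hψ : IsIrrCharacter N ψ) :
    (∃ χ : IrrCharacter G, charDegree (χ : G → ℂ) = N.index * charDegree ψ) ∨
      (∀ n : N, (n : G) ∉ K → ψ n = 0) ∧ K.relIndex N ∣ charDegree ψ ^ 2 := by
  classical
  haveI := Fintype.ofFinite G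
  rcases frobQ_main h hψ with ⟨μ, hμ, hst⟩ | hv
  · left
    have h1 := isIrr_ind_of_inertia_eq h.nN (isIrr_twist hψ μ) (fun x hx => hst x hx)
    refine ⟨⟨_, h1⟩, ?_⟩
    have h2 := charDegree_cast (irr_isChar h1)
    rw [indFun_one_apply, ← charDegree_cast (irr_isChar (isIrr_twist hψ μ)),
      charDegree_twist μ hψ] at h2
    exact_mod_cast h2
  · exact Or.inr ⟨hv, h.relIndex_dvd hψ hv⟩

theorem FrobQ.exists_index [Finite G] (h : FrobQ K N) :
    ∃ χ : IrrCharacter G, charDegree (χ : G → ℂ) = N.index := by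
  rcases h.alt (isIrr_one (G := N)) with ⟨χ, hχ⟩ | ⟨hv, -⟩
  · have h1 : charDegree (fun _ : N => (1 : ℂ)) = 1 := by
      have := charDegree_cast (irr_isChar (isIrr_one (G := N)))
      exact_mod_cast this
    rw [h1, mul_one] at hχ
    exact ⟨χ, hχ⟩
  · exfalso
    apply h.ne
    intro n hn
    by_contra hnK
    exact one_ne_zero (hv ⟨n, hn⟩ hnK)

/-- A nonabelian group has a nonlinear irreducible character. -/
theorem exists_nonlinear [Finite G] {K : Subgroup G} (hK : K.Normal) (hna : ¬ commutator G ≤ K) :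
    ∃ χ : IrrCharacter G, (∀ n ∈ K, (χ : G → ℂ) n = (χ : G → ℂ) 1) ∧ charDegree (χ : G → ℂ) ≠ 1 ∧
      charDegree (χ : G → ℂ) ∣ K.index := by
  classical
  haveI := Fintype.ofFinite G
  haveI := Fintype.ofFinite (IrrCharacter G)
  by_contra hcon
  push Not at hcon
  apply hna
  rw [_root_.commutator_def, Subgroup.commutator_le]
  intro a _ b _
  haveI := hK
  apply mem_of_forall_ker
  intro χ hχ
  have h1 : charDegree (χ : G → ℂ) = 1 := by
    by_contra h1
    apply hcon χ hχ h1
    obtain ⟨ψ, hψ, hψχ⟩ := exists_quotient_irr χ.2 hχ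
    have h2 := charDegree_dvd_card hψ
    have h3 : charDegree (χ : G → ℂ) = charDegree ψ := by
      have h4 := charDegree_cast (irr_isChar χ.2)
      have h5 := charDegree_cast (irr_isChar hψ)
      rw [hψχ 1] at h4
      have : ((QuotientGroup.mk (1 : G)) : G ⧸ K) = 1 := rfl
      rw [this, ← h5] at h4
      exact_mod_cast h4
    rw [h3, Subgroup.index_eq_card]
    exact h2
  have h2 : (χ : G → ℂ) 1 = 1 := by
    rw [← charDegree_cast (irr_isChar χ.2), h1, Nat.cast_one]
  obtain ⟨ν, hν⟩ := exists_hom_of_one (irr_isChar χ.2) h2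
  rw [hν, hν, commutatorElement_def]
  simp only [map_mul, map_inv]
  have : ν a * ν b * (ν a)⁻¹ * (ν b)⁻¹ = 1 := by
    rw [mul_comm (ν a) (ν b)]; group
  rw [this, map_one]

end

end Cfsg.Agent.H27
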