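import Cfsg.Agent.H27.Ch12C
import Cfsg.Agent.H27.Clif
import Cfsg.Agent.H3.Taketa
import Cfsg.Agent.H3.Thompson
import Cfsg.Agent.S4456

set_option autoImplicit false
set_option linter.style.haveILetI false

/-! # Isaacs, chapter 12: two character degrees -/

universe u

namespace Cfsg.Agent.H27

open Cfsg Cfsg.Agent.H3 Subgroup
open scoped Pointwise commutatorElement

section

variable {G : Type u} [Group G] {K N : Subgroup G}

/-- the complement order divides `|N : K| - 1` -/
theorem FrobQ.index_dvd [Finite G] (h : FrobQ K N) : N.index ∣ K.relIndex N - 1 := by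
  haveI := h.nK
  haveI := h.nN
  have hn : (N.map (QuotientGroup.mk' K)).Normal :=
    Subgroup.Normal.map inferInstance _ (QuotientGroup.mk'_surjective K)
  have h1 := index_dvd_card_sub_one (N.map (QuotientGroup.mk' K)) hn (by
    rintro _ ⟨n, hn, rfl⟩ hne x hx
    obtain ⟨x, rfl⟩ := QuotientGroup.mk'_surjective K x
    rw [mem_centralizer_singleton_iff] at hx
    by_contra hxN
    have hx' : x ∉ N := fun h => hxN ⟨x, h, rfl⟩
    apply hne
    apply (QuotientGroup.eq_one_iff n).mpr
    apply h.fpf x hx' n hn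
    rw [← QuotientGroup.eq_one_iff]
    show QuotientGroup.mk' K (x * n * x⁻¹ * n⁻¹) = 1
    rw [map_mul, map_mul, map_mul, map_inv, map_inv, hx]; group)
  have h2 : (N.map (QuotientGroup.mk' K)).index = N.index := by
    exact Subgroup.index_map_eq N (QuotientGroup.mk'_surjective K) (by rw [QuotientGroup.ker_mk']; exact h.le)
  have h3 : Nat.card (N.map (QuotientGroup.mk' K)) = K.relIndex N := by
    have := Subgroup.relIndex_ker N (QuotientGroup.mk' K)
    rw [QuotientGroup.ker_mk'] at this
    exact this.symm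
  rwa [h2, h3] at h1

/-- if all nonlinear degrees are `≥ |G : H|` then `G' ≤ H` -/
theorem commutator_le_of_index_le [Finite G] {m : ℕ}
    (hcd : ∀ χ : IrrCharacter G, charDegree (χ : G → ℂ) = 1 ∨ m ≤ charDegree (χ : G → ℂ))
    {H : Subgroup G} (hH : H.index ≤ m) : commutator G ≤ H := by
  classical
  haveI := Fintype.ofFinite G
  haveI := Fintype.ofFinite H
  haveI := Fintype.ofFinite (IrrCharacter G)
  set π : G → ℂ := indFun H (fun _ => 1) with hπ
  have hπc : IsCharacter G π := isChar_ind H isChar_one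
  have hπ1 : π 1 = (H.index : ℂ) := by rw [hπ, indFun_one_apply]; simp
  have hn : ∀ χ : IrrCharacter G, ∃ n : ℕ, classInner π (χ : G → ℂ) = n := fun χ =>
    classInner_char_nat hπc (irr_isChar χ.2)
  choose n hn using hn
  have hn1 : n (oneIrr G) = 1 := by
    have h1 := hn (oneIrr G)
    have h2 : classInner π ((oneIrr G : IrrCharacter G) : G → ℂ) = 1 := by
      rw [hπ, frobenius_reciprocity H _ (irr_classFun (oneIrr G).2)]
      exact classInner_self_of_irr (oneIrr H).2
    rw [h2] at h1
    exact_mod_cast h1.symm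
  have hdeg : H.index = ∑ χ : IrrCharacter G, n χ * charDegree (χ : G → ℂ) := by
    have h1 := classFun_expand_apply (char_classFun hπc) (1 : G)
    rw [hπ1] at h1
    have h2 : ∀ χ : IrrCharacter G, classInner π (χ : G → ℂ) * (χ : G → ℂ) 1 =
        ((n χ * charDegree (χ : G → ℂ) : ℕ) : ℂ) := by
      intro χ
      rw [hn, ← charDegree_cast (irr_isChar χ.2)]; push_cast; rfl
    rw [Finset.sum_congr rfl fun χ _ => h2 χ] at h1
    exact_mod_cast h1
  have hlin : ∀ χ : IrrCharacter G, n χ ≠ 0 → charDegree (χ : G → ℂ) = 1 := by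
    intro χ hχ
    by_cases hne : χ = oneIrr G
    · rw [hne]; exact charDegree_oneIrr
    rcases hcd χ with h | h
    · exact h
    · exfalso
      rw [← Finset.add_sum_erase _ _ (Finset.mem_univ (oneIrr G)), hn1, charDegree_oneIrr] at hdeg
      have h2 : n χ * charDegree (χ : G → ℂ) ≤
          ∑ χ ∈ Finset.univ.erase (oneIrr G), n χ * charDegree (χ : G → ℂ) :=
        Finset.single_le_sum (f := fun χ : IrrCharacter G => n χ * charDegree (χ : G → ℂ))
          (fun _ _ => Nat.zero_le _) (Finset.mem_erase.mpr ⟨hne, Finset.mem_univ _⟩)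
      have h3 : charDegree (χ : G → ℂ) ≤ n χ * charDegree (χ : G → ℂ) :=
        Nat.le_mul_of_pos_left _ (Nat.pos_of_ne_zero hχ)
      omega
  intro g hg
  apply mem_of_perm_ker
  apply char_eq_one_of_constituents hπc
  intro ψ hψ hne
  have h1 : charDegree ψ = 1 := hlin ⟨ψ, hψ⟩ (by
    intro h0
    apply hne
    rw [hn ⟨ψ, hψ⟩, h0, Nat.cast_zero])
  have h2 : ψ 1 = 1 := by rw [← charDegree_cast (irr_isChar hψ), h1, Nat.cast_one]
  obtain ⟨ν, hν⟩ := exists_hom_of_one (irr_isChar hψ) h2
  have h3 : commutator G ≤ ν.ker := Abelianization.commutator_subset_ker ν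
  rw [h2, hν, MonoidHom.mem_ker.mp (h3 hg), Units.val_one]

theorem comm_of_linear {A : Type u} [Group A] [Finite A]
    (h : ∀ χ : IrrCharacter A, charDegree (χ : A → ℂ) = 1) : ∀ a b : A, a * b = b * a := by
  by_contra hcon
  push Not at hcon
  obtain ⟨a, b, hab⟩ := hcon
  obtain ⟨χ, -, h1, -⟩ := exists_nonlinear (G := A) (K := ⊥) inferInstance (by
    intro hle
    apply hab
    have h1 : ⁅a, b⁆ ∈ commutator A := commutator_mem_commutator (mem_top a) (mem_top b)
    have h2 := hle h1
    rw [mem_bot] at h2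
    exact commutatorElement_eq_one_iff_mul_comm.mp h2)
  exact h1 (h χ)

theorem exists_dual_ne {A : Type u} [Group A] [Finite A] (hA : ∀ a b : A, a * b = b * a) {a : A}
    (ha : a ≠ 1) : ∃ ν : A →* ℂˣ, ν a ≠ 1 := by
  by_contra hcon
  push Not at hcon
  haveI : Finite (A →* ℂˣ) := finite_dual
  haveI := Fintype.ofFinite (A →* ℂˣ)
  have h1 := sum_dual hA a ha
  simp only [hcon, Units.val_one, Finset.sum_const, Finset.card_univ, nsmul_eq_mul, mul_one] at h1
  exact Fintype.card_ne_zero (by exact_mod_cast h1)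

theorem solvable_of_two [Finite G] {m : ℕ}
    (hcd : ∀ χ : IrrCharacter G, charDegree (χ : G → ℂ) = 1 ∨ charDegree (χ : G → ℂ) = m)
    (hm0 : m ≠ 0) : Group.IsSolvable G := by
  classical
  have hex : ∀ p : ℕ, p.Prime → p ∣ m → ∃ N : Subgroup G, N.Normal ∧ (Nat.card N).Coprime p ∧
      ∃ n : ℕ, derivedSeries G n ≤ N := by
    intro p hp hpm
    obtain ⟨N, hN, hcop, k, hk⟩ := Cfsg.Agent.S4456.result (G := G) p hp (fun χ hχ => by
      rcases hcd χ with h | h
      · exact absurd h hχ
      · rw [h]; exact hpm)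
    refine ⟨N, hN, hcop, ?_⟩
    haveI : Fact p.Prime := ⟨hp⟩
    have hpg : IsPGroup p (G ⧸ N) := IsPGroup.of_card (by rw [← Subgroup.index_eq_card]; exact hk)
    haveI := hpg.isNilpotent
    obtain ⟨n, hn⟩ := (Group.isSolvable_def (G ⧸ N)).mp inferInstance
    refine ⟨n, ?_⟩
    have h1 := map_derivedSeries_eq (f := QuotientGroup.mk' N) (QuotientGroup.mk'_surjective N) n
    rw [hn] at h1
    have h2 := (Subgroup.map_eq_bot_iff _).mp h1
    rwa [QuotientGroup.ker_mk'] at h2
  choose Np hNpn hNpc hNps using hex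
  choose dp hdp using hNps
  set N : Subgroup G := ⨅ p : {p : ℕ // p.Prime ∧ p ∣ m}, Np p.1 p.2.1 p.2.2 with hNdef
  haveI : Finite {p : ℕ // p.Prime ∧ p ∣ m} :=
    Set.Finite.to_subtype ((Set.finite_Iic m).subset fun p hp => Nat.le_of_dvd (Nat.pos_of_ne_zero hm0) hp.2)
  haveI := Fintype.ofFinite {p : ℕ // p.Prime ∧ p ∣ m}
  haveI hNn : N.Normal := Subgroup.normal_iInf_normal fun p => hNpn p.1 p.2.1 p.2.2
  set n : ℕ := Finset.univ.sup fun p : {p : ℕ // p.Prime ∧ p ∣ m} => dp p.1 p.2.1 p.2.2 with hndef
  have hle : derivedSeries G n ≤ N := by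
    apply le_iInf
    intro p
    refine le_trans (derivedSeries_antitone G ?_) (hdp p.1 p.2.1 p.2.2)
    exact Finset.le_sup (f := fun p : {p : ℕ // p.Prime ∧ p ∣ m} => dp p.1 p.2.1 p.2.2) (Finset.mem_univ p)
  have hNab : ∀ a b : N, a * b = b * a := by
    apply comm_of_linear
    intro θ
    haveI := Fintype.ofFinite N
    obtain ⟨χ, hχ, -, hd, -⟩ := exists_over hNn θ.2
    have hcop : (Nat.card N).Coprime m := by
      apply Nat.coprime_of_dvd
      intro p hp hpN hpm
      have h1 : N ≤ Np p hp hpm := iInf_le (fun p : {p : ℕ // p.Prime ∧ p ∣ m} => Np p.1 p.2.1 p.2.2) ⟨p, hp, hpm⟩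
      have h2 := hpN.trans (Subgroup.card_dvd_of_le h1)
      have h3 := hNpc p hp hpm
      have h4 := Nat.dvd_gcd h2 dvd_rfl
      rw [h3] at h4
      exact hp.one_lt.ne' (Nat.dvd_one.mp h4)
    have h1 := charDegree_dvd_card θ.2
    have h2 : charDegree (θ : N → ℂ) ∣ m := by
      rcases hcd ⟨χ, hχ⟩ with h | h
      · have h3 : charDegree χ = 1 := h
        rw [h3] at hd
        rw [Nat.dvd_one.mp hd]; exact one_dvd m
      · have h3 : charDegree χ = m := h
        rwa [h3] at hd
    exact Nat.eq_one_of_dvd_coprimes hcop h1 h2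
  rw [Group.isSolvable_def]
  refine ⟨n + 1, ?_⟩
  rw [derivedSeries_succ, eq_bot_iff]
  refine le_trans (Subgroup.commutator_mono hle hle) ?_
  rw [Subgroup.commutator_le]
  intro a ha b hb
  rw [mem_bot]
  exact commutatorElement_eq_one_iff_mul_comm.mpr (congrArg Subtype.val (hNab ⟨a, ha⟩ ⟨b, hb⟩))

/-- characters over a linear character of a normal abelian Hall subgroup -/
theorem clif_lin [Finite G] {A : Subgroup G} (hA : A.Normal)
    (hcop : Nat.Coprime A.index (Nat.card A)) (lam : A →* ℂˣ) (T : Subgroup G)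
    (hT : T = inertia hA (fun a => (lam a : ℂ))) (β : IrrCharacter T)
    (hβ : ∀ t : T, (t : G) ∈ A → (β : T → ℂ) t = (β : T → ℂ) 1) :
    ∃ χ : IrrCharacter G, charDegree (χ : G → ℂ) = T.index * charDegree (β : T → ℂ) := by
  classical
  haveI := Fintype.ofFinite G
  haveI := Fintype.ofFinite A
  haveI := Fintype.ofFinite T
  have hirr : IsIrrCharacter A (fun a => (lam a : ℂ)) := isIrr_of_hom lam
  have hAT : A ≤ T := by rw [hT]; exact le_inertia hA (irr_classFun hirr)
  let lam' : A.subgroupOf T →* ℂˣ := lam.comp (subgroupOfEquivOfLe hAT).toMonoidHom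
  have hA' : (A.subgroupOf T).Normal := inferInstance
  obtain ⟨μ, hμ, -⟩ := lin_extends hA' lam' (fun t => by
    funext a
    have h1 : (t : G) ∈ inertia hA (fun a => (lam a : ℂ)) := hT ▸ t.2
    have h2 := congrFun ((mem_inertia hA _ _).mp h1) (subgroupOfEquivOfLe hAT a)
    exact h2) (by
    refine Nat.Coprime.coprime_dvd_right (?_ : orderOf lam' ∣ Nat.card A)
      (Nat.Coprime.coprime_dvd_left (Subgroup.relIndex_dvd_index_of_normal A T) hcop)
    · apply orderOf_dvd_of_pow_eq_one
      ext a
      rw [MonoidHom.pow_apply, ← map_pow]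
      have h1 : a ^ Nat.card A = 1 := by
        have h2 : Nat.card (A.subgroupOf T) = Nat.card A :=
          Nat.card_congr (subgroupOfEquivOfLe hAT).toEquiv
        rw [← h2]; exact pow_card_eq_one'
      rw [h1, map_one, MonoidHom.one_apply])
  have hψ : IsIrrCharacter T (fun t => (μ t : ℂ) * (β : T → ℂ) t) := isIrr_mul_hom β.2 μ
  have hres : (fun n : A => (fun t => (μ t : ℂ) * (β : T → ℂ) t) (⟨(n : G), hAT n.2⟩ : T)) =
      (β : T → ℂ) 1 • (fun a : A => (lam a : ℂ)) := by
    funext a
    have h1 := hμ ⟨⟨a, hAT a.2⟩, mem_subgroupOf.mpr a.2⟩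
    have h2 : (μ (⟨(a : G), hAT a.2⟩ : T) : ℂ) = (lam a : ℂ) := h1
    show (μ (⟨(a : G), hAT a.2⟩ : T) : ℂ) * (β : T → ℂ) ⟨(a : G), hAT a.2⟩ = _
    rw [h2, hβ _ a.2, Pi.smul_apply, smul_eq_mul, mul_comm]
  have hov : classInner (fun n : A => (fun t => (μ t : ℂ) * (β : T → ℂ) t) (⟨(n : G), hAT n.2⟩ : T))
      (fun a : A => (lam a : ℂ)) ≠ 0 := by
    rw [hres, classInner_smul_left, classInner_self_of_irr hirr, mul_one]
    exact irr_one_ne_zero β.2
  obtain ⟨h1, -⟩ := clif_irr hA hirr T hT hAT hψ hov
  refine ⟨⟨_, h1⟩, ?_⟩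
  have h2 := charDegree_cast (irr_isChar h1)
  rw [indFun_one_apply] at h2
  have h3 := charDegree_cast (irr_isChar β.2)
  have h4 : (μ 1 : ℂ) * (β : T → ℂ) 1 = (charDegree (β : T → ℂ) : ℂ) := by
    rw [map_one, Units.val_one, one_mul, h3]
  rw [h4] at h2
  exact_mod_cast h2

theorem lc_comp (hN : N.Normal) (x y : G) (μ : N →* ℂˣ) :
    lc hN (x * y) μ = lc hN y (lc hN x μ) := by
  ext n
  show ((μ _ : ℂˣ) : ℂ) = ((μ _ : ℂˣ) : ℂ)
  congr 2
  apply Subtype.ext
  show (x * y) * (n : G) * (x * y)⁻¹ = x * (y * (n : G) * y⁻¹) * x⁻¹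
  group

/-- the inertia group of a linear character -/
def lI (hN : N.Normal) (μ : N →* ℂˣ) : Subgroup G := inertia hN (fun a => (μ a : ℂ))

theorem mem_lI (hN : N.Normal) (μ : N →* ℂˣ) (x : G) : x ∈ lI hN μ ↔ lc hN x μ = μ := by
  constructor
  · intro h
    ext n
    exact congrFun ((mem_inertia hN _ _).mp h) n
  · intro h
    apply (mem_inertia hN _ _).mpr
    funext n
    exact congrArg (fun f : N →* ℂˣ => ((f n : ℂˣ) : ℂ)) h

theorem lI_comm (hN : N.Normal) (μ : N →* ℂˣ) (hn : (lI hN μ).Normal) (g : G) :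
    lI hN μ ≤ lI hN (lc hN g μ * μ⁻¹) := by
  intro x hx
  rw [mem_lI, lc_mul, lc_inv, (mem_lI hN μ x).mp hx]
  congr 1
  have h1 : g * x * g⁻¹ ∈ lI hN μ := hn.conj_mem x hx g
  have h2 := (mem_lI hN μ _).mp h1
  have h3 : g * x = (g * x * g⁻¹) * g := by group
  rw [← lc_comp, h3, lc_comp, h2]

/-- The structure of groups with two character degrees (nonlinear degrees all equal). -/
theorem two_degrees [Finite G] {m : ℕ}
    (hcd : ∀ χ : IrrCharacter G, charDegree (χ : G → ℂ) = 1 ∨ charDegree (χ : G → ℂ) = m)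
    (hm : ∃ χ : IrrCharacter G, charDegree (χ : G → ℂ) = m) (hm1 : m ≠ 1) :
    (∃ A : Subgroup G, A.Normal ∧ (∀ a ∈ A, ∀ b ∈ A, a * b = b * a) ∧ A.index = m) ∨
      ∃ p e : ℕ, p.Prime ∧ m = p ^ e ∧ ∃ P A : Subgroup G, P.Normal ∧ A.Normal ∧ IsPGroup p P ∧
        (∀ a ∈ A, ∀ b ∈ A, a * b = b * a) ∧ P ⊓ A = ⊥ ∧ P ⊔ A = ⊤ ∧ A ≤ center G ∧
        ∃ k, A.index = p ^ k := by
  classical
  haveI := Fintype.ofFinite G
  have hm0 : m ≠ 0 := by
    obtain ⟨χ, hχ⟩ := hm
    rw [← hχ]; exact (charDegree_pos χ.2).ne'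
  have hm2 : 2 ≤ m := by omega
  have hs : Group.IsSolvable G := solvable_of_two hcd hm0
  have hna : ∃ a b : G, a * b ≠ b * a := by
    by_contra hcomm
    push Not at hcomm
    haveI : IsMulCommutative G := ⟨⟨hcomm⟩⟩
    obtain ⟨χ, hχ⟩ := hm
    have h1 := irr_degree_one_of_comm χ.2
    rw [← charDegree_cast (irr_isChar χ.2), hχ] at h1
    exact hm1 (by exact_mod_cast h1)
  have hcd' : ∀ χ : IrrCharacter G, charDegree (χ : G → ℂ) = 1 ∨ m ≤ charDegree (χ : G → ℂ) :=
    fun χ => (hcd χ).imp id fun h => h.ge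
  rcases exists_quot hs hna with ⟨K, hK, hKna, p, k, hp, hk⟩ | ⟨K, N, hF, hNtop, p, k, hp, hk⟩
  · -- prime power degree
    obtain ⟨β, hβK, hβ1, hβd⟩ := exists_nonlinear hK hKna
    have hβm : charDegree (β : G → ℂ) = m := (hcd β).resolve_left hβ1
    rw [hk, hβm] at hβd
    obtain ⟨j, -, hj⟩ := (Nat.dvd_prime_pow hp).mp hβd
    obtain ⟨A, hA, hAab, hAc, k', hk'⟩ := degrees_ppower (G := G) hp (fun χ => by
      rcases hcd χ with h | h
      · exact ⟨0, by rw [← charDegree_cast (irr_isChar χ.2), h]; simp⟩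
      · exact ⟨j, by rw [← charDegree_cast (irr_isChar χ.2), h, hj]; push_cast; rfl⟩)
    haveI := hA
    haveI : Fact p.Prime := ⟨hp⟩
    have hcop : Nat.Coprime A.index (Nat.card A) := by
      rw [hk']; exact (Nat.Coprime.pow_right k' hAc).symm
    have hAab' : ∀ a b : A, a * b = b * a := fun a b => Subtype.ext (hAab a a.2 b b.2)
    by_cases hcent : A ≤ center G
    · right
      obtain ⟨P⟩ := (inferInstance : Nonempty (Sylow p G))
      have hPA : (P : Subgroup G) ⊔ A = ⊤ := by
        rw [← Subgroup.index_eq_one]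
        have h1 : ((P : Subgroup G) ⊔ A).index ∣ p ^ k' := by
          rw [← hk']; exact Subgroup.index_dvd_of_le le_sup_right
        have h2 : ((P : Subgroup G) ⊔ A).index ∣ (P : Subgroup G).index :=
          Subgroup.index_dvd_of_le le_sup_left
        have h3 : Nat.Coprime (p ^ k') (P : Subgroup G).index :=
          Nat.Coprime.pow_left _ ((Nat.Prime.coprime_iff_not_dvd hp).mpr P.not_dvd_index)
        exact Nat.eq_one_of_dvd_coprimes h3 h1 h2
      refine ⟨p, j, hp, hj, P, A, ?_, hA, P.isPGroup', hAab, ?_, hPA, hcent, k', hk'⟩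
      · rw [← Subgroup.normalizer_eq_top_iff, eq_top_iff, ← hPA]
        refine sup_le Subgroup.le_normalizer ?_
        intro a ha
        rw [Subgroup.mem_normalizer_iff]
        intro x
        have h1 := Subgroup.mem_center_iff.mp (hcent ha) x
        rw [← h1, mul_inv_cancel_right]
      · apply le_bot_iff.mp
        have h1 : Disjoint (P : Subgroup G) A := Subgroup.disjoint_of_coprime_natCard (by
          obtain ⟨n, hn⟩ := IsPGroup.iff_card.mp P.isPGroup'
          rw [hn]
          exact (Nat.Coprime.pow_right n hAc).symm)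
        exact (disjoint_iff.mp h1).le
    · left
      -- the index of the inertia groups
      have hF : ∀ lam : A →* ℂˣ, (lI hA lam).index = 1 ∨ (lI hA lam).index = m := by
        intro lam
        obtain ⟨χ, hχ⟩ := clif_lin hA hcop lam (lI hA lam) rfl (oneIrr _) (fun t _ => rfl)
        rw [charDegree_oneIrr, mul_one] at hχ
        rw [← hχ]; exact hcd χ
      have hnorm : ∀ lam : A →* ℂˣ, (lI hA lam).Normal := by
        intro lam
        apply Subgroup.Normal.of_commutator_le
        apply commutator_le_of_index_le hcd'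
        rcases hF lam with h | h <;> omega
      -- a non-invariant character
      have hsep : ∀ a : A, (∀ ν : A →* ℂˣ, ν a = 1) → a = 1 := by
        intro a ha
        by_contra hne
        obtain ⟨ν, hν⟩ := exists_dual_ne hAab' hne
        exact hν (ha ν)
      have hcentr : ∀ (T : Subgroup G), (∀ ν : A →* ℂˣ, T ≤ lI hA ν) → ∀ t ∈ T, ∀ a ∈ A,
          t * a = a * t := by
        intro T hT t ht a ha
        have h1 : (⟨t * a * t⁻¹, hA.conj_mem a ha t⟩ * ⟨a, ha⟩⁻¹ : A) = 1 := by
          apply hsep
          intro ν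
          have h2 := (mem_lI hA ν t).mp (hT ν ht)
          have h3 : ν ⟨t * a * t⁻¹, hA.conj_mem a ha t⟩ = ν ⟨a, ha⟩ :=
            congrArg (fun f : A →* ℂˣ => f ⟨a, ha⟩) h2
          rw [map_mul, map_inv, h3, mul_inv_cancel]
        have h2 : t * a * t⁻¹ * a⁻¹ = 1 := congrArg Subtype.val h1
        rw [mul_inv_eq_one, mul_inv_eq_iff_eq_mul] at h2
        exact h2
      obtain ⟨lam, hlam⟩ : ∃ lam : A →* ℂˣ, lI hA lam ≠ ⊤ := by
        by_contra hcon
        push Not at hcon
        apply hcent
        intro a ha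
        rw [Subgroup.mem_center_iff]
        intro g
        exact hcentr ⊤ (fun ν => (hcon ν).ge) g (mem_top g) a ha
      set T := lI hA lam with hTdef
      have hTm : T.index = m := (hF lam).resolve_left fun h => hlam (Subgroup.index_eq_one.mp h)
      haveI hTn : T.Normal := hnorm lam
      -- `T` fixes all characters of `A`
      have hTall : ∀ ν : A →* ℂˣ, T ≤ lI hA ν := by
        intro ν
        by_contra hTν
        have h2m : (lI hA ν).index = m := (hF ν).resolve_left fun h =>
          hTν (by rw [Subgroup.index_eq_one.mp h]; exact le_top)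
        have heq_of_le : ∀ X Y : Subgroup G, X ≤ Y → X.index = m → Y.index = m → X = Y := by
          intro X Y hXY hX hY
          have h1 := Subgroup.relIndex_mul_index hXY
          rw [hX, hY] at h1
          have h2 : X.relIndex Y = 1 := by
            have h3 : X.relIndex Y * m = 1 * m := by rw [h1, one_mul]
            exact Nat.eq_of_mul_eq_mul_right (Nat.pos_of_ne_zero hm0) h3
          exact le_antisymm hXY (Subgroup.relIndex_eq_one.mp h2)
        -- the product
        have h3T : ¬ T ≤ lI hA (lam * ν) := by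
          intro hle
          apply hTν
          intro t ht
          have h1 := (mem_lI hA _ t).mp (hle ht)
          have h2 := (mem_lI hA _ t).mp ht
          rw [lc_mul, h2] at h1
          rw [mem_lI]
          exact mul_left_cancel h1
        have h3m : (lI hA (lam * ν)).index = m := (hF _).resolve_left fun h =>
          h3T (by rw [Subgroup.index_eq_one.mp h]; exact le_top)
        have h23 : lI hA ν ≠ lI hA (lam * ν) := by
          intro heq
          have h1 : lI hA ν ≤ T := by
            intro t ht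
            have h2 := (mem_lI hA _ t).mp ht
            have h3 := (mem_lI hA _ t).mp (heq ▸ ht)
            rw [lc_mul, h2] at h3
            rw [hTdef, mem_lI]
            exact mul_right_cancel h3
          exact hTν (heq_of_le _ _ h1 h2m hTm).ge
        apply hTν
        intro g hg
        set c := lc hA g ν * ν⁻¹ with hc
        have hcν : lc hA g ν = c * ν := by
          rw [hc]; ext n
          simp
        have hctop : lI hA c = ⊤ := by
          have h1 : lI hA ν ≤ lI hA c := lI_comm hA ν (hnorm ν) g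
          have h2 : lI hA (lam * ν) ≤ lI hA c := by
            have h3 := lI_comm hA (lam * ν) (hnorm _) g
            have h4 : lc hA g (lam * ν) * (lam * ν)⁻¹ = c := by
              rw [lc_mul, (mem_lI hA lam g).mp hg, hc]
              ext n
              simp only [MonoidHom.mul_apply, MonoidHom.inv_apply, Units.val_mul, mul_inv]
              have h5 : ((lam n : ℂˣ) : ℂ) ≠ 0 := (lam n).ne_zero
              have h6 : (((lam n)⁻¹ : ℂˣ) : ℂ) * ((lam n : ℂˣ) : ℂ) = 1 := by
                rw [← Units.val_mul, inv_mul_cancel, Units.val_one]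
              linear_combination (((lc hA g ν) n : ℂˣ) : ℂ) * (((ν n)⁻¹ : ℂˣ) : ℂ) * h6
            rwa [h4] at h3
          rcases hF c with h3 | h3
          · exact Subgroup.index_eq_one.mp h3
          · exfalso
            exact h23 ((heq_of_le _ _ h1 h2m h3).trans (heq_of_le _ _ h2 h3m h3).symm)
        have hcinv : ∀ x : A, c (cjEquiv hA g x) = c x := by
          intro x
          have h2 : g ∈ lI hA c := by rw [hctop]; trivial
          exact congrArg (fun f : A →* ℂˣ => f x) ((mem_lI hA c g).mp h2)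
        have hpow : ∀ n : ℕ, ∀ x : A, lc hA (g ^ n) ν x = c x ^ n * ν x := by
          intro n
          induction n with
          | zero =>
            intro x
            rw [pow_zero, pow_zero, one_mul]
            show ν _ = _
            congr 1
            apply Subtype.ext
            show 1 * (x : G) * 1⁻¹ = x
            simp
          | succ n ih =>
            intro x
            have h1 : lc hA (g ^ (n + 1)) ν x = lc hA (g ^ n) ν (cjEquiv hA g x) := by
              rw [pow_succ, lc_comp]; rfl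
            have h2 : ν (cjEquiv hA g x) = c x * ν x := by
              have := congrArg (fun f : A →* ℂˣ => f x) hcν
              exact this
            rw [h1, ih, hcinv, h2, pow_succ, mul_assoc]
        have hc1 : ∀ x : A, c x = 1 := by
          intro x
          have h1 := hpow A.index x
          have h2 : g ^ A.index ∈ A := Subgroup.pow_index_mem A g
          have h3 : lc hA (g ^ A.index) ν x = ν x := by
            show ν _ = _
            congr 1
            apply Subtype.ext
            show g ^ A.index * (x : G) * (g ^ A.index)⁻¹ = x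
            rw [hAab _ h2 _ x.2]; group
          rw [h3] at h1
          have h4 : c x ^ A.index = 1 := mul_eq_right.mp h1.symm
          have h5 : c x ^ Nat.card A = 1 := by
            rw [← map_pow, pow_card_eq_one', map_one]
          exact orderOf_eq_one_iff.mp (Nat.eq_one_of_dvd_coprimes hcop
            (orderOf_dvd_of_pow_eq_one h4) (orderOf_dvd_of_pow_eq_one h5))
        rw [mem_lI, hcν]
        ext x
        rw [MonoidHom.mul_apply, hc1, one_mul]
      have hTA := hcentr T hTall
      have hAT : A ≤ T := le_inertia hA (irr_classFun (isIrr_of_hom lam))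
      -- `T / A` is abelian
      have hTcomm : ∀ a ∈ T, ∀ b ∈ T, ⁅a, b⁆ ∈ A := by
        by_contra hcon
        push Not at hcon
        obtain ⟨a, ha, b, hb, hab⟩ := hcon
        haveI hA' : (A.subgroupOf T).Normal := inferInstance
        obtain ⟨β', hβ1, hβ2, -⟩ := exists_nonlinear (G := T) (K := A.subgroupOf T) hA' (by
          intro hle
          apply hab
          have h1 : ⁅(⟨a, ha⟩ : T), (⟨b, hb⟩ : T)⁆ ∈ commutator T :=
            commutator_mem_commutator (mem_top _) (mem_top _)
          exact mem_subgroupOf.mp (hle h1))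
        obtain ⟨χ, hχ⟩ := clif_lin hA hcop lam T rfl β' (fun t ht => hβ1 t (mem_subgroupOf.mpr ht))
        rw [hTm] at hχ
        rcases hcd χ with h | h
        · rw [h] at hχ
          have := Nat.dvd_one.mp (Dvd.intro _ hχ.symm)
          exact hm1 this
        · rw [h] at hχ
          apply hβ2
          have h3 : m * charDegree (β' : T → ℂ) = m * 1 := by rw [← hχ, mul_one]
          exact Nat.eq_of_mul_eq_mul_left (Nat.pos_of_ne_zero hm0) h3
      refine ⟨T, hTn, ?_, hTm⟩
      intro a ha b hb
      have hz := hTcomm a ha b hb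
      set z := ⁅a, b⁆ with hzdef
      have hza : a * z = z * a := hTA a ha z hz
      have h1 : b * a * b⁻¹ = z⁻¹ * a := by
        have h2 : z = a * b * a⁻¹ * b⁻¹ := commutatorElement_def a b
        rw [h2]; group
      have h2 : b * a ^ A.index * b⁻¹ = (z⁻¹) ^ A.index * a ^ A.index := by
        rw [← conj_pow, h1]
        have hcom : Commute z⁻¹ a := (show Commute a z from hza).symm.inv_left
        exact hcom.mul_pow _
      have h3 : b * a ^ A.index * b⁻¹ = a ^ A.index := by
        rw [hTA b hb _ (Subgroup.pow_index_mem A a)]; group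
      rw [h3] at h2
      have h4 : (z⁻¹) ^ A.index = 1 := mul_eq_right.mp h2.symm
      rw [inv_pow, inv_eq_one] at h4
      have h5 : z ^ Nat.card A = 1 := by
        have : (⟨z, hz⟩ : A) ^ Nat.card A = 1 := pow_card_eq_one'
        exact congrArg Subtype.val this
      have h6 : z = 1 := orderOf_eq_one_iff.mp (Nat.eq_one_of_dvd_coprimes hcop
        (orderOf_dvd_of_pow_eq_one h4) (orderOf_dvd_of_pow_eq_one h5))
      exact commutatorElement_eq_one_iff_mul_comm.mp h6
  · -- Frobenius quotient
    left
    obtain ⟨χ₀, hχ₀⟩ := hF.exists_index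
    have hidx1 : N.index ≠ 1 := fun h => hNtop (Subgroup.index_eq_one.mp h)
    have hidx : N.index = m := by
      rcases hcd χ₀ with h | h
      · exact absurd (hχ₀.symm.trans h) hidx1
      · exact hχ₀.symm.trans h
    haveI := hF.nN
    refine ⟨N, hF.nN, ?_, hidx⟩
    have hlin : ∀ a b : N, a * b = b * a := by
      apply comm_of_linear
      intro ψ
      rcases hF.alt ψ.2 with ⟨χ, hχ⟩ | ⟨-, hdvd⟩
      · rw [hidx] at hχ
        rcases hcd χ with h | h
        · rw [h] at hχ
          exact absurd (Nat.dvd_one.mp (Dvd.intro _ hχ.symm)) hm1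
        · rw [h] at hχ
          have h3 : m * charDegree (ψ : N → ℂ) = m * 1 := by rw [← hχ, mul_one]
          exact Nat.eq_of_mul_eq_mul_left (Nat.pos_of_ne_zero hm0) h3
      · exfalso
        rw [hk] at hdvd
        have hk0 : k ≠ 0 := by
          rintro rfl
          rw [pow_zero, Subgroup.relIndex_eq_one] at hk
          exact hF.ne hk
        have hpψ : p ∣ charDegree (ψ : N → ℂ) := hp.dvd_of_dvd_pow ((dvd_pow_self p hk0).trans hdvd)
        haveI := Fintype.ofFinite N
        obtain ⟨χ, hχ, -, hd, -⟩ := exists_over hF.nN ψ.2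
        have hpχ := hpψ.trans hd
        have hpm : p ∣ m := by
          rcases hcd ⟨χ, hχ⟩ with h | h
          · have h' : charDegree χ = 1 := h
            rw [h'] at hpχ
            exact absurd (Nat.dvd_one.mp hpχ) hp.one_lt.ne'
          · have h' : charDegree χ = m := h
            rwa [h'] at hpχ
        have h1 := hF.index_dvd
        rw [hidx, hk] at h1
        have h2 := hpm.trans h1
        have h3 : p ∣ p ^ k := dvd_pow_self p hk0
        have h4 : 1 ≤ p ^ k := Nat.one_le_pow _ _ hp.pos
        have h5 : p ∣ 1 := by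
          have := Nat.dvd_sub h3 h2
          rwa [Nat.sub_sub_self h4] at this
        exact hp.one_lt.ne' (Nat.dvd_one.mp h5)
    intro a ha b hb
    exact congrArg Subtype.val (hlin ⟨a, ha⟩ ⟨b, hb⟩)

end

end Cfsg.Agent.H27
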