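import Cfsg.Agent.H27.Dual
import Cfsg.Agent.H3.Ind
import Cfsg.Agent.H3.ExtCyc

set_option autoImplicit false

/-! # Averages over cosets of a normal subgroup with abelian quotient -/

universe u

namespace Cfsg.Agent.H27

open Subgroup Cfsg Cfsg.Agent.H3
open scoped ComplexConjugate

variable {Γ : Type u} [Group Γ] [Fintype Γ]

/-- average over the coset `N x` -/
noncomputable def av' (N : Subgroup Γ) (x : Γ) (F : Γ → ℂ) : ℂ :=
  (Nat.card N : ℂ)⁻¹ * ∑ᶠ n : N, F (n * x)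

theorem av'_eq_sum (N : Subgroup Γ) [Fintype N] (x : Γ) (F : Γ → ℂ) :
    av' N x F = (Nat.card N : ℂ)⁻¹ * ∑ n : N, F (n * x) := by
  unfold av'; rw [finsum_eq_sum_of_fintype]

theorem conj_hom {A : Type*} [Group A] [Finite A] (l : A →* ℂˣ) (a : A) :
    conj (l a : ℂ) = (l a⁻¹ : ℂ) := (char_inv (irr_isChar (linIrr l).2) a).symm

variable {N : Subgroup Γ} [N.Normal]

theorem av'_eq (hab : ∀ a b : Γ ⧸ N, a * b = b * a) [Fintype ((Γ ⧸ N) →* ℂˣ)] (x : Γ)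
    (F : Γ → ℂ) : av' N x F = ∑ l : (Γ ⧸ N) →* ℂˣ,
      (l (x : Γ ⧸ N) : ℂ) * classInner F (fun g : Γ => (l (g : Γ ⧸ N) : ℂ)) := by
  classical
  have := Fintype.ofFinite N
  have h1 : ∀ l : (Γ ⧸ N) →* ℂˣ, (l (x : Γ ⧸ N) : ℂ) * classInner F (fun g : Γ => (l (g : Γ ⧸ N) : ℂ)) =
      (Nat.card Γ : ℂ)⁻¹ * ∑ g : Γ, F g * (l ((x * g⁻¹ : Γ) : Γ ⧸ N) : ℂ) := by
    intro l
    unfold classInner
    rw [mul_left_comm, Finset.mul_sum]
    congr 1
    apply Finset.sum_congr rfl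
    intro g _
    rw [conj_hom, QuotientGroup.mk_mul, QuotientGroup.mk_inv, map_mul, Units.val_mul]
    ring
  simp only [h1]
  rw [← Finset.mul_sum, Finset.sum_comm]
  have h2 : ∀ g : Γ, ∑ l : (Γ ⧸ N) →* ℂˣ, F g * (l ((x * g⁻¹ : Γ) : Γ ⧸ N) : ℂ) =
      if x * g⁻¹ ∈ N then F g * (N.index : ℂ) else 0 := by
    intro g
    rw [← Finset.mul_sum]
    by_cases h : x * g⁻¹ ∈ N
    · rw [if_pos h]
      have e : ((x * g⁻¹ : Γ) : Γ ⧸ N) = 1 := (QuotientGroup.eq_one_iff _).mpr h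
      rw [e]
      simp only [map_one, Units.val_one]
      rw [Finset.sum_const, Finset.card_univ, ← Nat.card_eq_fintype_card, card_dual hab,
        nsmul_eq_mul, mul_one]
      rfl
    · rw [if_neg h, sum_dual hab, mul_zero]
      intro h2
      exact h ((QuotientGroup.eq_one_iff _).mp h2)
  simp only [h2]
  rw [← Finset.sum_filter, av'_eq_sum]
  have hcard : (Nat.card Γ : ℂ) = (N.index : ℂ) * (Nat.card N : ℂ) := by
    rw [← Nat.cast_mul, Subgroup.index_mul_card]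
  have hN0 : (Nat.card N : ℂ) ≠ 0 := by exact_mod_cast Nat.card_pos.ne'
  have hi0 : (N.index : ℂ) ≠ 0 := by exact_mod_cast Subgroup.index_ne_zero_of_finite
  rw [hcard, ← Finset.sum_mul]
  have h3 : ∑ g : Γ with x * g⁻¹ ∈ N, F g = ∑ n : N, F (n * x) := by
    symm
    refine Finset.sum_bij (fun n _ => (n : Γ) * x) ?_ ?_ ?_ ?_
    · intro n _
      rw [Finset.mem_filter]
      refine ⟨Finset.mem_univ _, ?_⟩
      have : x * ((n : Γ) * x)⁻¹ = (n : Γ)⁻¹ := by group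
      rw [this]; exact N.inv_mem n.2
    · intro a _ b _ h
      exact Subtype.ext (mul_right_cancel h)
    · intro g hg
      have hg2 := N.inv_mem (Finset.mem_filter.mp hg).2
      have e : (x * g⁻¹)⁻¹ = g * x⁻¹ := by group
      rw [e] at hg2
      exact ⟨⟨g * x⁻¹, hg2⟩, Finset.mem_univ _, by simp⟩
    · intro n _; rfl
  rw [h3]
  field_simp

theorem classInner_mul_conj (F Ψ Φ : Γ → ℂ) :
    classInner (fun g => F g * conj (Φ g)) Ψ = classInner F (fun g => Ψ g * Φ g) := by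
  unfold classInner
  congr 1
  apply Finset.sum_congr rfl
  intro g _
  rw [map_mul]; ring

theorem av'_pair (hab : ∀ a b : Γ ⧸ N, a * b = b * a) [Fintype ((Γ ⧸ N) →* ℂˣ)] (x : Γ)
    (F Φ : Γ → ℂ) : av' N x (fun g => F g * conj (Φ g)) = ∑ l : (Γ ⧸ N) →* ℂˣ,
      (l (x : Γ ⧸ N) : ℂ) * classInner F (fun g : Γ => (l (g : Γ ⧸ N) : ℂ) * Φ g) := by
  rw [av'_eq hab]
  apply Finset.sum_congr rfl
  intro l _
  rw [classInner_mul_conj]

omit [Fintype Γ] in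
/-- twist by a linear character of the quotient -/
theorem isIrr_tw [Finite Γ] {Φ : Γ → ℂ} (hΦ : IsIrrCharacter Γ Φ) (l : (Γ ⧸ N) →* ℂˣ) :
    IsIrrCharacter Γ (fun g : Γ => (l (g : Γ ⧸ N) : ℂ) * Φ g) :=
  isIrr_mul_hom hΦ (l.comp (QuotientGroup.mk' N))

theorem av'_irr_pair (hab : ∀ a b : Γ ⧸ N, a * b = b * a) [Fintype ((Γ ⧸ N) →* ℂˣ)]
    [DecidableEq (Γ → ℂ)] (x : Γ)
    {Ψ Φ : Γ → ℂ} (hΨ : IsIrrCharacter Γ Ψ) (hΦ : IsIrrCharacter Γ Φ) :
    av' N x (fun g => Ψ g * conj (Φ g)) = ∑ l : (Γ ⧸ N) →* ℂˣ,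
      (l (x : Γ ⧸ N) : ℂ) * (if Ψ = (fun g : Γ => (l (g : Γ ⧸ N) : ℂ) * Φ g) then 1 else 0) := by
  rw [av'_pair hab]
  apply Finset.sum_congr rfl
  intro l _
  rw [classInner_irr hΨ (isIrr_tw hΦ l)]
  congr 1
  split_ifs <;> rfl

omit [Fintype Γ] in
theorem tw_restrict {Φ : Γ → ℂ} (l : (Γ ⧸ N) →* ℂˣ) (n : N) :
    (l ((n : Γ) : Γ ⧸ N) : ℂ) * Φ n = Φ n := by
  have e : ((n : Γ) : Γ ⧸ N) = 1 := (QuotientGroup.eq_one_iff _).mpr n.2
  rw [e, map_one, Units.val_one, one_mul]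

/-- Orthogonality on a coset. -/
theorem av'_ne (hab : ∀ a b : Γ ⧸ N, a * b = b * a) (x : Γ)
    {Ψ Φ : Γ → ℂ} (hΨ : IsIrrCharacter Γ Ψ) (hΦ : IsIrrCharacter Γ Φ)
    (hne : ∃ n : N, Ψ n ≠ Φ n) : av' N x (fun g => Ψ g * conj (Φ g)) = 0 := by
  classical
  haveI : Finite ((Γ ⧸ N) →* ℂˣ) := finite_dual
  have := Fintype.ofFinite ((Γ ⧸ N) →* ℂˣ)
  rw [av'_irr_pair hab x hΨ hΦ]
  apply Finset.sum_eq_zero
  intro l _
  rw [if_neg, mul_zero]
  intro h
  obtain ⟨n, hn⟩ := hne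
  apply hn
  rw [h]
  exact tw_restrict l n

theorem av'_one_self (F : Γ → ℂ) [Fintype N] : av' N 1 (fun g => F g * conj (F g)) =
    classInner (fun n : N => F n) (fun n : N => F n) := by
  rw [av'_eq_sum]
  unfold classInner
  simp only [mul_one]

theorem card_fix (hab : ∀ a b : Γ ⧸ N, a * b = b * a) [Fintype ((Γ ⧸ N) →* ℂˣ)]
    [DecidableEq (Γ → ℂ)] [Fintype N] {Ψ : Γ → ℂ} (hΨ : IsIrrCharacter Γ Ψ) :
    classInner (fun n : N => Ψ n) (fun n : N => Ψ n) =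
      ((Finset.univ.filter (fun l : (Γ ⧸ N) →* ℂˣ =>
        Ψ = (fun g : Γ => (l (g : Γ ⧸ N) : ℂ) * Ψ g))).card : ℂ) := by
  rw [← av'_one_self, av'_irr_pair hab 1 hΨ hΨ]
  have h1 : ∀ l : (Γ ⧸ N) →* ℂˣ, (l ((1 : Γ) : Γ ⧸ N) : ℂ) = 1 := by
    intro l; rw [QuotientGroup.mk_one, map_one, Units.val_one]
  simp only [h1, one_mul]
  rw [Finset.sum_boole]

/-- If the restriction is irreducible, the norm on each coset is one. -/
theorem av'_self (hab : ∀ a b : Γ ⧸ N, a * b = b * a) (x : Γ)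
    {Ψ : Γ → ℂ} (hΨ : IsIrrCharacter Γ Ψ) (hr : IsIrrCharacter N (fun n : N => Ψ n)) :
    av' N x (fun g => Ψ g * conj (Ψ g)) = 1 := by
  classical
  haveI : Finite ((Γ ⧸ N) →* ℂˣ) := finite_dual
  have := Fintype.ofFinite ((Γ ⧸ N) →* ℂˣ)
  have := Fintype.ofFinite N
  have h1 := card_fix hab hΨ
  rw [classInner_self_of_irr hr] at h1
  have h2 : (Finset.univ.filter (fun l : (Γ ⧸ N) →* ℂˣ =>
        Ψ = (fun g : Γ => (l (g : Γ ⧸ N) : ℂ) * Ψ g))).card = 1 := by exact_mod_cast h1.symm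
  obtain ⟨l0, hl0⟩ := Finset.card_eq_one.mp h2
  have h3 : (1 : (Γ ⧸ N) →* ℂˣ) ∈ Finset.univ.filter (fun l : (Γ ⧸ N) →* ℂˣ =>
        Ψ = (fun g : Γ => (l (g : Γ ⧸ N) : ℂ) * Ψ g)) := by
    rw [Finset.mem_filter]
    refine ⟨Finset.mem_univ _, ?_⟩
    funext g
    rw [MonoidHom.one_apply, Units.val_one, one_mul]
  rw [hl0, Finset.mem_singleton] at h3
  subst h3
  rw [av'_irr_pair hab x hΨ hΨ, Finset.sum_eq_single (1 : (Γ ⧸ N) →* ℂˣ)]
  · rw [if_pos, MonoidHom.one_apply, Units.val_one, mul_one]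
    funext g
    rw [MonoidHom.one_apply, Units.val_one, one_mul]
  · intro l _ hl
    rw [if_neg, mul_zero]
    intro h
    have h4 : l ∈ Finset.univ.filter (fun l : (Γ ⧸ N) →* ℂˣ =>
        Ψ = (fun g : Γ => (l (g : Γ ⧸ N) : ℂ) * Ψ g)) := Finset.mem_filter.mpr ⟨Finset.mem_univ _, h⟩
    rw [hl0, Finset.mem_singleton] at h4
    exact hl h4
  · intro h; exact absurd (Finset.mem_univ _) h

omit [Fintype Γ] in
/-- A homomorphism on the quotient trivial at the generator is trivial. -/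
theorem hom_eq_one_of {x : Γ} (hgen : N ⊔ zpowers x = ⊤) {l : (Γ ⧸ N) →* ℂˣ}
    (hl : l (x : Γ ⧸ N) = 1) : l = 1 := by
  have h1 : (⊤ : Subgroup Γ) ≤ (l.comp (QuotientGroup.mk' N)).ker := by
    rw [← hgen, sup_le_iff]
    constructor
    · intro n hn
      rw [MonoidHom.mem_ker, MonoidHom.comp_apply, QuotientGroup.mk'_apply,
        (QuotientGroup.eq_one_iff n).mpr hn, map_one]
    · rw [zpowers_le, MonoidHom.mem_ker]
      exact hl
  refine MonoidHom.ext fun a => ?_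
  obtain ⟨g, rfl⟩ := QuotientGroup.mk_surjective a
  have h2 := h1 (mem_top g)
  rw [MonoidHom.mem_ker, MonoidHom.comp_apply, QuotientGroup.mk'_apply] at h2
  rw [h2, MonoidHom.one_apply]

/-- If `Ψ` does not vanish on the generating coset its restriction is irreducible. -/
theorem restr_irr_of_ne_zero (hab : ∀ a b : Γ ⧸ N, a * b = b * a) {x : Γ}
    (hgen : N ⊔ zpowers x = ⊤) {Ψ : Γ → ℂ} (hΨ : IsIrrCharacter Γ Ψ) (n : N)
    (hne : Ψ (n * x) ≠ 0) : IsIrrCharacter N (fun n : N => Ψ n) := by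
  classical
  haveI : Finite ((Γ ⧸ N) →* ℂˣ) := finite_dual
  have := Fintype.ofFinite ((Γ ⧸ N) →* ℂˣ)
  have := Fintype.ofFinite N
  apply isIrr_of_char_norm (isChar_restrict N (irr_isChar hΨ))
  rw [card_fix hab hΨ]
  have h2 : Finset.univ.filter (fun l : (Γ ⧸ N) →* ℂˣ =>
        Ψ = (fun g : Γ => (l (g : Γ ⧸ N) : ℂ) * Ψ g)) = {1} := by
    ext l
    rw [Finset.mem_filter, Finset.mem_singleton]
    constructor
    · rintro ⟨_, h⟩
      apply hom_eq_one_of hgen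
      have h3 := congrFun h (n * x)
      have h4 : (((n : Γ) * x : Γ) : Γ ⧸ N) = (x : Γ ⧸ N) := by
        rw [QuotientGroup.mk_mul, (QuotientGroup.eq_one_iff (n : Γ)).mpr n.2, one_mul]
      rw [h4] at h3
      have h5 : (l (x : Γ ⧸ N) : ℂ) = 1 := by
        have h6 : ((l (x : Γ ⧸ N) : ℂ) - 1) * Ψ (n * x) = 0 := by linear_combination -h3
        rcases mul_eq_zero.mp h6 with h7 | h7
        · exact sub_eq_zero.mp h7
        · exact absurd h7 hne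
      exact Units.ext h5
    · rintro rfl
      refine ⟨Finset.mem_univ _, ?_⟩
      funext g
      rw [MonoidHom.one_apply, Units.val_one, one_mul]
  rw [h2, Finset.card_singleton, Nat.cast_one]

omit [Fintype Γ] in
theorem comm_of_gen {x : Γ} (hgen : N ⊔ zpowers x = ⊤) : IsCyclic (Γ ⧸ N) := by
  refine ⟨⟨(x : Γ ⧸ N), ?_⟩⟩
  intro a
  obtain ⟨g, rfl⟩ := QuotientGroup.mk_surjective a
  have h1 : (⊤ : Subgroup Γ) ≤ (zpowers (x : Γ ⧸ N)).comap (QuotientGroup.mk' N) := by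
    rw [← hgen, sup_le_iff]
    constructor
    · intro n hn
      rw [mem_comap, QuotientGroup.mk'_apply, (QuotientGroup.eq_one_iff n).mpr hn]
      exact one_mem _
    · rw [zpowers_le, mem_comap]
      exact mem_zpowers _
  exact h1 (mem_top g)

end Cfsg.Agent.H27
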