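import Cfsg.Agent.H27.GalInt

set_option autoImplicit false

/-! # Galois sequences bounded by one -/

namespace Cfsg.Agent.H27

open Polynomial Cfsg Cfsg.Agent.H3 Cfsg.Agent.H11

namespace IsGalSeq

variable {N : ℕ} {a : ℕ → ℂ}

theorem mod (ha : IsGalSeq N a) (hN : N ≠ 0) (m : ℕ) : a (m % N) = a m := by
  obtain ⟨f, hf⟩ := ha
  rw [hf, hf]
  have hζ : IsPrimitiveRoot (Complex.exp (2 * Real.pi * Complex.I / N)) N :=
    Complex.isPrimitiveRoot_exp N hN
  rw [pow_mod_natCard' hζ.pow_eq_one]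
where
  pow_mod_natCard' {ζ : ℂ} {N : ℕ} (h : ζ ^ N = 1) {m : ℕ} : ζ ^ (m % N) = ζ ^ m := by
    conv_rhs => rw [← Nat.mod_add_div m N, pow_add, pow_mul, h, one_pow, mul_one]

theorem ne_zero_of (ha : IsGalSeq N a) (hN : N ≠ 0) {m n : ℕ} (hm : m.Coprime N)
    (hn : n.Coprime N) (h : a m ≠ 0) : a n ≠ 0 := by
  obtain ⟨f, hf⟩ := ha
  have hζ : IsPrimitiveRoot (Complex.exp (2 * Real.pi * Complex.I / N)) N :=
    Complex.isPrimitiveRoot_exp N hN
  set ζ := Complex.exp (2 * Real.pi * Complex.I / N) with hζdef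
  intro h0
  apply h
  rw [hf] at h0 ⊢
  have hp1 := hζ.pow_of_coprime n hn
  have hp2 := hζ.pow_of_coprime m hm
  have h1 : minpoly ℤ (ζ ^ n) ∣ f :=
    minpoly.isIntegrallyClosed_dvd (hp1.isIntegral (Nat.pos_of_ne_zero hN)) h0
  rw [← Polynomial.cyclotomic_eq_minpoly hp1 (Nat.pos_of_ne_zero hN),
    Polynomial.cyclotomic_eq_minpoly hp2 (Nat.pos_of_ne_zero hN)] at h1
  obtain ⟨q, rfl⟩ := h1
  rw [map_mul, minpoly.aeval, zero_mul]

/-- If all conjugates are bounded by one and the element is nonzero, it has absolute value one. -/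
theorem norm_eq_one (ha : IsGalSeq N a) (hN : N ≠ 0) {m : ℕ} (hm : m.Coprime N)
    (hne : a m ≠ 0) (hle : ∀ j : ℕ, j.Coprime N → ‖a j‖ ≤ 1) : ‖a m‖ = 1 := by
  have ha' := ha
  obtain ⟨f, hf⟩ := ha
  have hζ : IsPrimitiveRoot (Complex.exp (2 * Real.pi * Complex.I / N)) N :=
    Complex.isPrimitiveRoot_exp N hN
  set ζ := Complex.exp (2 * Real.pi * Complex.I / N) with hζdef
  obtain ⟨k, hk⟩ := prod_primitiveRoots_int hN f
  rw [← prod_cop_eq hN hζ (fun ξ => Polynomial.aeval ξ f)] at hk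
  have h1 : ∏ j ∈ cop N, a j = (k : ℂ) := by
    rw [← hk]
    exact Finset.prod_congr rfl fun j _ => hf j
  have h2 : ∏ j ∈ cop N, a j ≠ 0 := by
    rw [Finset.prod_ne_zero_iff]
    intro j hj
    exact ha'.ne_zero_of hN hm (mem_cop.mp hj).2 hne
  have hk0 : k ≠ 0 := by
    rintro rfl
    rw [h1] at h2
    exact h2 Int.cast_zero
  have h3 : 1 ≤ ∏ j ∈ cop N, ‖a j‖ := by
    rw [← Complex.norm_prod, h1, Complex.norm_intCast]
    have : (1 : ℤ) ≤ |k| := Int.one_le_abs hk0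
    exact_mod_cast this
  have hm' : m % N ∈ cop N := by
    rw [mem_cop]
    refine ⟨Nat.mod_lt _ (Nat.pos_of_ne_zero hN), ?_⟩
    have : Nat.gcd (m % N) N = Nat.gcd N m := (Nat.gcd_rec N m).symm
    rw [Nat.Coprime, this, Nat.gcd_comm]
    exact hm
  rw [← ha'.mod hN m]
  apply le_antisymm (hle _ (mem_cop.mp hm').2)
  rw [← Finset.mul_prod_erase _ _ hm'] at h3
  have h4 : ∏ j ∈ (cop N).erase (m % N), ‖a j‖ ≤ 1 := by
    apply Finset.prod_le_one (fun j _ => norm_nonneg _)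
    intro j hj
    exact hle j (mem_cop.mp (Finset.mem_of_mem_erase hj)).2
  calc 1 ≤ _ := h3
    _ ≤ ‖a (m % N)‖ * 1 := mul_le_mul_of_nonneg_left h4 (norm_nonneg _)
    _ = _ := mul_one _

end IsGalSeq

end Cfsg.Agent.H27
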