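import Cfsg.Agent.H27.GlPair
import Cfsg.Agent.H3.Clifford

set_option autoImplicit false

/-! # Relative Glauberman correspondence: the cyclic case -/

universe u

namespace Cfsg.Agent.H27

open Subgroup Cfsg Cfsg.Agent.H3 Cfsg.Agent.H11
open Cfsg.Agent.H26 (irrMap irrMap_apply irrMap_symm_apply irrMap_apply')
open scoped ComplexConjugate

section General

variable {Γ : Type u} [Group Γ] [Fintype Γ]

theorem av'_subgroupOf {C D : Subgroup Γ} (hCD : C ≤ D) (y : D) (F : Γ → ℂ) [Fintype D] :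
    av' (C.subgroupOf D) y (fun d : D => F d) = av' C (y : Γ) F := by
  unfold av'
  rw [Nat.card_congr (subgroupOfEquivOfLe hCD).toEquiv]
  congr 1
  exact finsum_eq_of_bijective _ (subgroupOfEquivOfLe hCD).bijective (fun n => rfl)

theorem ext_of_gen {N : Subgroup Γ} [N.Normal] {x : Γ} (hgen : N ⊔ zpowers x = ⊤)
    (χ : IrrCharacter N)
    (hinv : ∀ n n' : N, (n' : Γ) = x * n * x⁻¹ → (χ : N → ℂ) n' = (χ : N → ℂ) n) :
    ∃ X : Γ → ℂ, IsIrrCharacter Γ X ∧ ∀ n : N, X n = (χ : N → ℂ) n := by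
  have hN : N.Normal := inferInstance
  refine extends_of_cyclic hN χ.2 ?_ (comm_of_gen hgen)
  let S : Subgroup Γ :=
    { carrier := {g | cj hN g (χ : N → ℂ) = χ}
      one_mem' := cj_one hN _
      mul_mem' := by
        intro a b ha hb
        show cj hN (a * b) (χ : N → ℂ) = χ
        rw [cj_mul, show cj hN a (χ : N → ℂ) = χ from ha]
        exact hb
      inv_mem' := by
        intro a ha
        show cj hN a⁻¹ (χ : N → ℂ) = χ
        have h1 : cj hN a (χ : N → ℂ) = χ := ha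
        conv_lhs => rw [← h1]
        rw [← cj_mul, mul_inv_cancel, cj_one] }
  have hS : (⊤ : Subgroup Γ) ≤ S := by
    rw [← hgen, sup_le_iff, zpowers_le]
    constructor
    · intro n hn
      show cj hN n (χ : N → ℂ) = χ
      funext k
      rw [cj_apply]
      exact irr_classFun χ.2 k ⟨n, hn⟩
    · show cj hN x (χ : N → ℂ) = χ
      funext k
      rw [cj_apply]
      exact hinv _ _ rfl
  intro g
  exact hS (mem_top g)

theorem av'_expand {N : Subgroup Γ} (y : Γ) (F Θ : Γ → ℂ) (hΘ : IsClassFunction Γ Θ)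
    (h : ∀ Ψ : IrrCharacter Γ, av' N y (fun g => F g * conj ((Ψ : Γ → ℂ) g)) = 0) :
    av' N y (fun g => F g * conj (Θ g)) = 0 := by
  classical
  have := Fintype.ofFinite (IrrCharacter Γ)
  have := Fintype.ofFinite N
  have h1 : ∀ g, F g * conj (Θ g) = ∑ Ψ : IrrCharacter Γ, conj (classInner Θ (Ψ : Γ → ℂ)) *
      (F g * conj ((Ψ : Γ → ℂ) g)) := by
    intro g
    rw [classFun_expand_apply hΘ g, map_sum, Finset.mul_sum]
    exact Finset.sum_congr rfl fun Ψ _ => by rw [map_mul]; ring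
  rw [av'_eq_sum]
  simp only [h1]
  rw [Finset.sum_comm, Finset.mul_sum]
  apply Finset.sum_eq_zero
  intro Ψ _
  rw [← Finset.mul_sum, mul_left_comm, ← av'_eq_sum N y (fun g => F g * conj ((Ψ : Γ → ℂ) g)), h,
    mul_zero]

theorem av'_expand_left {N : Subgroup Γ} (y : Γ) (F Θ : Γ → ℂ) (hΘ : IsClassFunction Γ Θ)
    (h : ∀ Ψ : IrrCharacter Γ, av' N y (fun g => (Ψ : Γ → ℂ) g * conj (F g)) = 0) :
    av' N y (fun g => Θ g * conj (F g)) = 0 := by
  classical
  have := Fintype.ofFinite (IrrCharacter Γ)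
  have := Fintype.ofFinite N
  have h1 : ∀ g, Θ g * conj (F g) = ∑ Ψ : IrrCharacter Γ, classInner Θ (Ψ : Γ → ℂ) *
      ((Ψ : Γ → ℂ) g * conj (F g)) := by
    intro g
    rw [classFun_expand_apply hΘ g, Finset.sum_mul]
    exact Finset.sum_congr rfl fun Ψ _ => by ring
  rw [av'_eq_sum]
  simp only [h1]
  rw [Finset.sum_comm, Finset.mul_sum]
  apply Finset.sum_eq_zero
  intro Ψ _
  rw [← Finset.mul_sum, mul_left_comm, ← av'_eq_sum N y (fun g => (Ψ : Γ → ℂ) g * conj (F g)), h,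
    mul_zero]

theorem exists_ne_of_av' {N : Subgroup Γ} {y : Γ} {F : Γ → ℂ} (h : av' N y F ≠ 0) :
    ∃ n : N, F (n * y) ≠ 0 := by
  classical
  have := Fintype.ofFinite N
  by_contra hcon
  push Not at hcon
  apply h
  rw [av'_eq_sum, Finset.sum_eq_zero (fun n _ => hcon n), mul_zero]

end General

variable {Γ : Type u} [Group Γ] [Fintype Γ] {p : ℕ}

namespace CycH

variable {K Q C : Subgroup Γ} {x : Γ}

omit [Fintype Γ] in
theorem x_mem_normalizer (h : CycH p K Q C x) : x ∈ normalizer (C : Set Γ) := by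
  haveI := h.Qn
  haveI := h.Kn
  rw [mem_normalizer_iff]
  intro k
  constructor
  · exact h.x_norm
  · intro hk
    rw [h.hC'] at hk ⊢
    constructor
    · have := h.Kn.conj_mem _ hk.1 x⁻¹
      have e : x⁻¹ * (x * k * x⁻¹) * x⁻¹⁻¹ = k := by group
      rwa [e] at this
    · have h1 := hk.2
      rw [QuotientGroup.mk_mul, QuotientGroup.mk_mul, QuotientGroup.mk_inv, inv_mul_cancel_right]
        at h1
      have h2 := mul_left_cancel h1
      exact mul_inv_eq_iff_eq_mul.mp h2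

omit [Fintype Γ] in
theorem C'_normal (h : CycH p K Q C x) : (C.subgroupOf (C ⊔ zpowers x)).Normal := by
  rw [Subgroup.normal_subgroupOf_iff_le_normalizer le_sup_left, sup_le_iff, zpowers_le]
  exact ⟨le_normalizer, h.x_mem_normalizer⟩

omit [Fintype Γ] in
theorem D_gen (C : Subgroup Γ) (x : Γ) : C.subgroupOf (C ⊔ zpowers x) ⊔
    zpowers (⟨x, mem_sup_right (mem_zpowers x)⟩ : ↥(C ⊔ zpowers x)) = ⊤ := by
  apply Subgroup.map_injective (C ⊔ zpowers x).subtype_injective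
  rw [Subgroup.map_sup, Subgroup.map_subgroupOf_eq_of_le le_sup_left, MonoidHom.map_zpowers,
    ← MonoidHom.range_eq_map, Subgroup.range_subtype]
  rfl

/-- The pairing dichotomy. -/
theorem dich (h : CycH p K Q C x) {X : Γ → ℂ} (hX : IsIrrCharacter Γ X)
    (hXK : IsIrrCharacter K (fun k : K => X k)) {Ψ : ↥(C ⊔ zpowers x) → ℂ}
    [Fintype ↥(C ⊔ zpowers x)]
    (hΨ : IsIrrCharacter ↥(C ⊔ zpowers x) Ψ)
    (hΨC : IsIrrCharacter (C.subgroupOf (C ⊔ zpowers x))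
      (fun c : C.subgroupOf (C ⊔ zpowers x) => Ψ c)) (χ : IrrCharacter K) (ξ : IrrCharacter C)
    (hχ : ∀ k : K, X k = (χ : K → ℂ) k)
    (hξ : ∀ c : C, Ψ ⟨c, mem_sup_left c.2⟩ = (ξ : C → ℂ) c) :
    av' (C.subgroupOf (C ⊔ zpowers x)) ⟨x, mem_sup_right (mem_zpowers x)⟩
      (fun g => X g * conj (X g)) = 1 ∧
    av' (C.subgroupOf (C ⊔ zpowers x)) ⟨x, mem_sup_right (mem_zpowers x)⟩
      (fun g => Ψ g * conj (Ψ g)) = 1 ∧
    (av' (C.subgroupOf (C ⊔ zpowers x)) ⟨x, mem_sup_right (mem_zpowers x)⟩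
      (fun g => X g * conj (Ψ g)) = 0 → (mlt h.C_le χ ξ : ZMod p) = 0) ∧
    (av' (C.subgroupOf (C ⊔ zpowers x)) ⟨x, mem_sup_right (mem_zpowers x)⟩
      (fun g => X g * conj (Ψ g)) ≠ 0 → (mlt h.C_le χ ξ : ZMod p) ^ 2 = 1 ∧
        ‖av' (C.subgroupOf (C ⊔ zpowers x)) ⟨x, mem_sup_right (mem_zpowers x)⟩
      (fun g => X g * conj (Ψ g))‖ = 1) := by
  haveI := h.C'_normal
  haveI := h.Kn
  set x' : ↥(C ⊔ zpowers x) := ⟨x, mem_sup_right (mem_zpowers x)⟩ with hx'
  have hcycD : IsCyclic (↥(C ⊔ zpowers x) ⧸ C.subgroupOf (C ⊔ zpowers x)) :=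
    comm_of_gen (D_gen C x)
  have hcycK : IsCyclic (Γ ⧸ K) := comm_of_gen h.hgen
  have habD : ∀ a b : ↥(C ⊔ zpowers x) ⧸ C.subgroupOf (C ⊔ zpowers x), a * b = b * a := by
    letI := IsCyclic.commGroup (α := ↥(C ⊔ zpowers x) ⧸ C.subgroupOf (C ⊔ zpowers x))
    exact fun a b => mul_comm a b
  have habK : ∀ a b : Γ ⧸ K, a * b = b * a := by
    letI := IsCyclic.commGroup (α := Γ ⧸ K)
    exact fun a b => mul_comm a b
  have hxk : ∃ k : ℕ, orderOf x' = p ^ k := by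
    obtain ⟨k, hk⟩ := h.hx
    exact ⟨k, by rw [← hk, hx', Subgroup.orderOf_mk]⟩
  have hX1 : ∀ j : ℕ, j.Coprime p → av' (C.subgroupOf (C ⊔ zpowers x)) (x' ^ j)
      (fun g => X g * conj (X g)) = 1 := by
    intro j hj
    rw [av'_subgroupOf le_sup_left (x' ^ j) (fun g => X g * conj (X g))]
    have e : ((x' ^ j : ↥(C ⊔ zpowers x)) : Γ) = x ^ j := rfl
    rw [e, ← (h.pow hj).iso (fun g => X g * conj (X g)) (fun u g => by
      rw [irr_classFun hX])]
    exact av'_self habK _ hX hXK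
  have hΨ1 : ∀ j : ℕ, j.Coprime p → av' (C.subgroupOf (C ⊔ zpowers x)) (x' ^ j)
      (fun g => Ψ g * conj (Ψ g)) = 1 := fun j _ => av'_self habD _ hΨ hΨC
  have hm : av' (C.subgroupOf (C ⊔ zpowers x)) 1 (fun g => X g * conj (Ψ g)) =
      (mlt h.C_le χ ξ : ℂ) := by
    rw [mlt_spec]
    unfold av'
    rw [Nat.card_congr (subgroupOfEquivOfLe (le_sup_left : C ≤ C ⊔ zpowers x)).toEquiv]
    congr 1
    refine finsum_eq_of_bijective _
      (subgroupOfEquivOfLe (le_sup_left : C ≤ C ⊔ zpowers x)).bijective (fun n => ?_)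
    rw [mul_one]
    have e1 := hχ (inclusion h.C_le (subgroupOfEquivOfLe (le_sup_left : C ≤ C ⊔ zpowers x) n))
    have e2 := hξ (subgroupOfEquivOfLe (le_sup_left : C ≤ C ⊔ zpowers x) n)
    rw [← e1, ← e2]
    rfl
  have hd := pair_dichotomy h.hp habD (isChar_restrict _ (irr_isChar hX)) hΨ hxk hm hX1 hΨ1
  have h1 := hX1 1 (Nat.coprime_one_left p)
  have h2 := hΨ1 1 (Nat.coprime_one_left p)
  rw [pow_one] at h1 h2
  exact ⟨h1, h2, hd.1, hd.2⟩

/-- existence and uniqueness, from above -/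
theorem left (h : CycH p K Q C x) (χ : IrrCharacter K) (hχ : Inv {x} K χ) :
    ∃ ξ, Inv {x} C ξ ∧ (mlt h.C_le χ ξ : ZMod p) ^ 2 = 1 ∧
    ∀ η, Inv {x} C η → η ≠ ξ → (mlt h.C_le χ η : ZMod p) = 0 := by
  classical
  haveI := h.C'_normal
  haveI := h.Kn
  have := Fintype.ofFinite ↥(C ⊔ zpowers x)
  set x' : ↥(C ⊔ zpowers x) := ⟨x, mem_sup_right (mem_zpowers x)⟩ with hx'
  have hCD : C ≤ C ⊔ zpowers x := le_sup_left
  have hcycD : IsCyclic (↥(C ⊔ zpowers x) ⧸ C.subgroupOf (C ⊔ zpowers x)) :=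
    comm_of_gen (D_gen C x)
  have habD : ∀ a b : ↥(C ⊔ zpowers x) ⧸ C.subgroupOf (C ⊔ zpowers x), a * b = b * a := by
    letI := IsCyclic.commGroup (α := ↥(C ⊔ zpowers x) ⧸ C.subgroupOf (C ⊔ zpowers x))
    exact fun a b => mul_comm a b
  have hcycK : IsCyclic (Γ ⧸ K) := comm_of_gen h.hgen
  have habK : ∀ a b : Γ ⧸ K, a * b = b * a := by
    letI := IsCyclic.commGroup (α := Γ ⧸ K)
    exact fun a b => mul_comm a b
  obtain ⟨X, hX, hXχ⟩ := ext_of_gen h.hgen χ (fun n n' hn => hχ x rfl n n' hn)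
  have hXK : IsIrrCharacter K (fun k : K => X k) := by
    have : (fun k : K => X k) = (χ : K → ℂ) := funext hXχ
    rw [this]; exact χ.2
  have hXX : av' (C.subgroupOf (C ⊔ zpowers x)) x' (fun g => X g * conj (X g)) = 1 := by
    rw [av'_subgroupOf hCD x' (fun g => X g * conj (X g))]
    have e : (x' : Γ) = x := rfl
    rw [e, ← h.iso (fun g => X g * conj (X g)) (fun u g => by rw [irr_classFun hX])]
    exact av'_self habK _ hX hXK
  -- a constituent
  obtain ⟨Ψ, hΨne⟩ : ∃ Ψ : IrrCharacter ↥(C ⊔ zpowers x),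
      av' (C.subgroupOf (C ⊔ zpowers x)) x'
        (fun g => X g * conj ((Ψ : ↥(C ⊔ zpowers x) → ℂ) g)) ≠ 0 := by
    by_contra hcon
    push Not at hcon
    have h1 := av'_expand (N := C.subgroupOf (C ⊔ zpowers x)) x'
      (fun g : ↥(C ⊔ zpowers x) => X g) (fun g : ↥(C ⊔ zpowers x) => X g)
      (char_classFun (isChar_restrict _ (irr_isChar hX))) hcon
    rw [hXX] at h1
    exact one_ne_zero h1
  have hΨC : IsIrrCharacter (C.subgroupOf (C ⊔ zpowers x))
      (fun c : C.subgroupOf (C ⊔ zpowers x) => (Ψ : ↥(C ⊔ zpowers x) → ℂ) c) := by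
    obtain ⟨n, hn⟩ := exists_ne_of_av' hΨne
    refine restr_irr_of_ne_zero habD (D_gen C x) Ψ.2 n ?_
    intro h0
    apply hn
    rw [h0, map_zero, mul_zero]
  let ξ : IrrCharacter C := irrMap (subgroupOfEquivOfLe hCD) ⟨_, hΨC⟩
  have hξ : ∀ c : C, (Ψ : ↥(C ⊔ zpowers x) → ℂ) ⟨c, mem_sup_left c.2⟩ = (ξ : C → ℂ) c := by
    intro c
    show _ = (irrMap (subgroupOfEquivOfLe hCD) ⟨_, hΨC⟩ : C → ℂ) c
    rw [irrMap_apply]
    rfl
  have hd := h.dich hX hXK Ψ.2 hΨC χ ξ hXχ hξ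
  have hne := hd.2.2.2 hΨne
  refine ⟨ξ, ?_, hne.1, ?_⟩
  · intro y hy k k' hk
    rw [Set.mem_singleton_iff] at hy
    subst hy
    rw [← hξ, ← hξ]
    have e : (⟨k', mem_sup_left k'.2⟩ : ↥(C ⊔ zpowers y)) = x' * ⟨k, mem_sup_left k.2⟩ * x'⁻¹ :=
      Subtype.ext hk
    rw [e]
    exact irr_classFun Ψ.2 _ _
  · intro η hη hηξ
    -- extension of `η`
    let η' : IrrCharacter (C.subgroupOf (C ⊔ zpowers x)) :=
      (irrMap (subgroupOfEquivOfLe hCD)).symm η
    have hη' : ∀ c, (η' : C.subgroupOf (C ⊔ zpowers x) → ℂ) c =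
        (η : C → ℂ) (subgroupOfEquivOfLe hCD c) := fun c => rfl
    obtain ⟨E, hE, hEη⟩ := ext_of_gen (D_gen C x) η' (by
      intro n n' hn
      rw [hη', hη']
      apply hη x rfl
      exact congrArg Subtype.val hn)
    have hEC : IsIrrCharacter (C.subgroupOf (C ⊔ zpowers x))
        (fun c : C.subgroupOf (C ⊔ zpowers x) => E c) := by
      have : (fun c : C.subgroupOf (C ⊔ zpowers x) => E c) =
        (η' : C.subgroupOf (C ⊔ zpowers x) → ℂ) := funext hEη
      rw [this]; exact η'.2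
    have hEη2 : ∀ c : C, E ⟨c, mem_sup_left c.2⟩ = (η : C → ℂ) c := by
      intro c
      have := hEη ⟨⟨c, mem_sup_left c.2⟩, mem_subgroupOf.mpr c.2⟩
      rw [this, hη']
      rfl
    have hd2 := h.dich hX hXK hE hEC χ η hXχ hEη2
    apply hd2.2.2.1
    have heq := eq_of_norm_av' x' (fun g : ↥(C ⊔ zpowers x) => X g) (Ψ : ↥(C ⊔ zpowers x) → ℂ)
      hd.1 hd.2.1 hne.2
    have h0 : av' (C.subgroupOf (C ⊔ zpowers x)) x'
        (fun g => (Ψ : ↥(C ⊔ zpowers x) → ℂ) g * conj (E g)) = 0 := by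
      apply av'_ne habD x' Ψ.2 hE
      by_contra hcon
      push Not at hcon
      apply hηξ
      apply Subtype.ext
      funext c
      rw [← hEη2, ← hξ]
      exact (hcon ⟨⟨c, mem_sup_left c.2⟩, mem_subgroupOf.mpr c.2⟩).symm
    have := Fintype.ofFinite (C.subgroupOf (C ⊔ zpowers x))
    set b := av' (C.subgroupOf (C ⊔ zpowers x)) x'
      (fun g => X g * conj ((Ψ : ↥(C ⊔ zpowers x) → ℂ) g)) with hb
    have h3 : av' (C.subgroupOf (C ⊔ zpowers x)) x' (fun g => X g * conj (E g)) =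
        b * av' (C.subgroupOf (C ⊔ zpowers x)) x'
        (fun g => (Ψ : ↥(C ⊔ zpowers x) → ℂ) g * conj (E g)) := by
      rw [av'_eq_sum, av'_eq_sum, mul_left_comm]
      congr 1
      rw [Finset.mul_sum]
      apply Finset.sum_congr rfl
      intro n _
      rw [heq n, mul_assoc]
    rw [h3, h0, mul_zero]

end CycH

end Cfsg.Agent.H27
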