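import Cfsg.Agent.H27.GlCyc

set_option autoImplicit false

/-! # Relative Glauberman correspondence: the cyclic case, from below -/

universe u

namespace Cfsg.Agent.H27

open Subgroup Cfsg Cfsg.Agent.H3 Cfsg.Agent.H11
open Cfsg.Agent.H26 (irrMap irrMap_apply irrMap_symm_apply irrMap_apply')
open scoped ComplexConjugate

variable {Γ : Type u} [Group Γ] [Fintype Γ] {p : ℕ}

namespace CycH

variable {K Q C : Subgroup Γ} {x : Γ}

theorem ctrl' (h : CycH p K Q C x) {c c' v : Γ} (hc : c ∈ C) (hc' : c' ∈ C)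
    (he : v * (c * x) * v⁻¹ = c' * x) : v ∈ C ⊔ zpowers x := by
  have := h.Kn
  have h1 : v ∈ K ⊔ zpowers x := by rw [h.hgen]; exact mem_top v
  obtain ⟨k, hk, y, hy, rfl⟩ := mem_sup_of_normal_left.mp h1
  obtain ⟨i, rfl⟩ := mem_zpowers_iff.mp hy
  have h2 : x ^ i * c * (x ^ i)⁻¹ ∈ C :=
    (mem_normalizer_iff.mp (zpow_mem h.x_mem_normalizer i) c).mp hc
  have h3 : k ∈ C := by
    apply h.ctrl h2 hc' hk
    rw [← he]
    have e : x ^ i * x * (x ^ i)⁻¹ = x := by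
      rw [← zpow_add_one, ← zpow_neg, ← zpow_add]; simp
    calc k * (x ^ i * c * (x ^ i)⁻¹ * x) * k⁻¹
        = k * (x ^ i * c * (x ^ i)⁻¹ * (x ^ i * x * (x ^ i)⁻¹)) * k⁻¹ := by rw [e]
      _ = k * x ^ i * (c * x) * (k * x ^ i)⁻¹ := by group
  exact mul_mem (mem_sup_left h3) (mem_sup_right hy)

/-- the class function extending `Ψ` on `C x` -/
theorem exists_phi (h : CycH p K Q C x) {Ψ : ↥(C ⊔ zpowers x) → ℂ}
    (hΨ : IsIrrCharacter ↥(C ⊔ zpowers x) Ψ) : ∃ φ : Γ → ℂ, IsClassFunction Γ φ ∧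
    ∀ c : C, φ (c * x) = Ψ ⟨c * x, mul_mem (mem_sup_left c.2) (mem_sup_right (mem_zpowers x))⟩ := by
  classical
  have key : ∀ (c c' : C) (u u' : Γ), u * (c * x) * u⁻¹ = u' * (c' * x) * u'⁻¹ →
      Ψ ⟨c * x, mul_mem (mem_sup_left c.2) (mem_sup_right (mem_zpowers x))⟩ =
      Ψ ⟨c' * x, mul_mem (mem_sup_left c'.2) (mem_sup_right (mem_zpowers x))⟩ := by
    intro c c' u u' he
    have h1 : (u'⁻¹ * u) * (c * x) * (u'⁻¹ * u)⁻¹ = c' * x := by
      calc (u'⁻¹ * u) * (c * x) * (u'⁻¹ * u)⁻¹ = u'⁻¹ * (u * (c * x) * u⁻¹) * u' := by group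
        _ = _ := by rw [he]; group
    have h2 := h.ctrl' c.2 c'.2 h1
    have e : (⟨c' * x, mul_mem (mem_sup_left c'.2) (mem_sup_right (mem_zpowers x))⟩ :
        ↥(C ⊔ zpowers x)) = ⟨u'⁻¹ * u, h2⟩ *
        ⟨c * x, mul_mem (mem_sup_left c.2) (mem_sup_right (mem_zpowers x))⟩ *
        (⟨u'⁻¹ * u, h2⟩ : ↥(C ⊔ zpowers x))⁻¹ := Subtype.ext h1.symm
    rw [e]
    exact (irr_classFun hΨ _ _).symm
  let φ : Γ → ℂ := fun g => if hg : ∃ c : C, ∃ u : Γ, g = u * (c * x) * u⁻¹ then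
    Ψ ⟨hg.choose * x, mul_mem (mem_sup_left hg.choose.2) (mem_sup_right (mem_zpowers x))⟩ else 0
  have hφ : ∀ (g : Γ) (c : C) (u : Γ), g = u * (c * x) * u⁻¹ →
      φ g = Ψ ⟨c * x, mul_mem (mem_sup_left c.2) (mem_sup_right (mem_zpowers x))⟩ := by
    intro g c u hg
    have hex : ∃ c : C, ∃ u : Γ, g = u * (c * x) * u⁻¹ := ⟨c, u, hg⟩
    have h1 : φ g = Ψ ⟨hex.choose * x, mul_mem (mem_sup_left hex.choose.2)
      (mem_sup_right (mem_zpowers x))⟩ := dif_pos hex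
    rw [h1]
    obtain ⟨u', hu'⟩ := hex.choose_spec
    exact key _ _ u' u (hu'.symm.trans hg)
  refine ⟨φ, ?_, ?_⟩
  · intro g v
    by_cases hg : ∃ c : C, ∃ u : Γ, g = u * (c * x) * u⁻¹
    · obtain ⟨c, u, hu⟩ := hg
      rw [hφ g c u hu, hφ (v * g * v⁻¹) c (v * u) (by rw [hu]; group)]
    · have h2 : ¬ ∃ c : C, ∃ u : Γ, v * g * v⁻¹ = u * (c * x) * u⁻¹ := by
        rintro ⟨c, u, hu⟩
        apply hg
        refine ⟨c, v⁻¹ * u, ?_⟩
        calc g = v⁻¹ * (v * g * v⁻¹) * v := by group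
          _ = _ := by rw [hu]; group
      have h3 : φ g = 0 := dif_neg hg
      have h4 : φ (v * g * v⁻¹) = 0 := dif_neg h2
      rw [h3, h4]
  · intro c
    exact hφ _ c 1 (by group)

/-- existence and uniqueness, from below -/
theorem right (h : CycH p K Q C x) (ξ : IrrCharacter C) (hξi : Inv {x} C ξ) :
    ∃ χ, Inv {x} K χ ∧ (mlt h.C_le χ ξ : ZMod p) ^ 2 = 1 ∧
    ∀ ψ, Inv {x} K ψ → ψ ≠ χ → (mlt h.C_le ψ ξ : ZMod p) = 0 := by
  classical
  have := h.C'_normal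
  have := h.Kn
  have := Fintype.ofFinite ↥(C ⊔ zpowers x)
  set x' : ↥(C ⊔ zpowers x) := ⟨x, mem_sup_right (mem_zpowers x)⟩ with hx'
  have hCD : C ≤ C ⊔ zpowers x := le_sup_left
  have hcycD : IsCyclic (↥(C ⊔ zpowers x) ⧸ C.subgroupOf (C ⊔ zpowers x)) :=
    comm_of_gen (D_gen C x)
  have habD : ∀ a b : ↥(C ⊔ zpowers x) ⧸ C.subgroupOf (C ⊔ zpowers x), a * b = b * a := by
    letI := IsCyclic.commGroup (α := ↥(C ⊔ zpowers x) ⧸ C.subgroupOf (C ⊔ zpowers x))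
    exact fun a b => mul_comm a b
  have hcycK : IsCyclic (Γ ⧸ K) := comm_of_gen h.hgen
  have habK : ∀ a b : Γ ⧸ K, a * b = b * a := by
    letI := IsCyclic.commGroup (α := Γ ⧸ K)
    exact fun a b => mul_comm a b
  -- extension of `ξ`
  let ξ' : IrrCharacter (C.subgroupOf (C ⊔ zpowers x)) :=
    (irrMap (subgroupOfEquivOfLe hCD)).symm ξ
  have hξ' : ∀ c, (ξ' : C.subgroupOf (C ⊔ zpowers x) → ℂ) c =
      (ξ : C → ℂ) (subgroupOfEquivOfLe hCD c) := fun c => rfl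
  obtain ⟨Ψ, hΨ, hΨξ⟩ := ext_of_gen (D_gen C x) ξ' (by
    intro n n' hn
    rw [hξ', hξ']
    apply hξi x rfl
    exact congrArg Subtype.val hn)
  have hΨC : IsIrrCharacter (C.subgroupOf (C ⊔ zpowers x))
      (fun c : C.subgroupOf (C ⊔ zpowers x) => Ψ c) := by
    have : (fun c : C.subgroupOf (C ⊔ zpowers x) => Ψ c) =
      (ξ' : C.subgroupOf (C ⊔ zpowers x) → ℂ) := funext hΨξ
    rw [this]; exact ξ'.2
  have hξ : ∀ c : C, Ψ ⟨c, mem_sup_left c.2⟩ = (ξ : C → ℂ) c := by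
    intro c
    have := hΨξ ⟨⟨c, mem_sup_left c.2⟩, mem_subgroupOf.mpr c.2⟩
    rw [this, hξ']
    rfl
  obtain ⟨φ, hφ, hφΨ⟩ := h.exists_phi hΨ
  have := Fintype.ofFinite C
  have hconv : ∀ X : Γ → ℂ, av' C x (fun g => X g * conj (φ g)) =
      av' (C.subgroupOf (C ⊔ zpowers x)) x' (fun g => X g * conj (Ψ g)) := by
    intro X
    unfold av'
    rw [Nat.card_congr (subgroupOfEquivOfLe hCD).toEquiv]
    congr 1
    symm
    refine finsum_eq_of_bijective _ (subgroupOfEquivOfLe hCD).bijective (fun n => ?_)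
    have e := hφΨ (subgroupOfEquivOfLe hCD n)
    show X ((n : ↥(C ⊔ zpowers x)) * x' : ↥(C ⊔ zpowers x)) * conj (Ψ (n * x')) =
      X ((subgroupOfEquivOfLe hCD n : C) * x) * conj (φ ((subgroupOfEquivOfLe hCD n : C) * x))
    rw [e]
    rfl
  have hself : av' (C.subgroupOf (C ⊔ zpowers x)) x' (fun g => Ψ g * conj (Ψ g)) = 1 :=
    av'_self habD _ hΨ hΨC
  have hφφ : av' C x (fun g => φ g * conj (φ g)) = 1 := by
    rw [← hself, hconv]
    unfold av'
    congr 1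
    apply finsum_congr
    intro n
    have e := hφΨ (subgroupOfEquivOfLe hCD n)
    have e2 : φ ((n : ↥(C ⊔ zpowers x)) * x' : ↥(C ⊔ zpowers x)) = Ψ (n * x') := e
    show φ ((n : ↥(C ⊔ zpowers x)) * x' : ↥(C ⊔ zpowers x)) * conj (Ψ (n * x')) =
      Ψ (n * x') * conj (Ψ (n * x'))
    rw [e2]
  obtain ⟨X, hXne⟩ : ∃ X : IrrCharacter Γ,
      av' C x (fun g => (X : Γ → ℂ) g * conj (φ g)) ≠ 0 := by
    by_contra hcon
    push Not at hcon
    have h1 := av'_expand_left (N := C) x φ φ hφ hcon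
    rw [hφφ] at h1
    exact one_ne_zero h1
  have hXK : IsIrrCharacter K (fun k : K => (X : Γ → ℂ) k) := by
    obtain ⟨n, hn⟩ := exists_ne_of_av' hXne
    refine restr_irr_of_ne_zero habK h.hgen X.2 ⟨n, h.C_le n.2⟩ ?_
    intro h0
    apply hn
    have h0' : (X : Γ → ℂ) (n * x) = 0 := h0
    rw [h0', zero_mul]
  let χ : IrrCharacter K := ⟨_, hXK⟩
  have hd := h.dich X.2 hXK hΨ hΨC χ ξ (fun k => rfl) hξ
  rw [hconv] at hXne
  have hne := hd.2.2.2 hXne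
  refine ⟨χ, ?_, hne.1, ?_⟩
  · intro y hy k k' hk
    rw [Set.mem_singleton_iff] at hy
    subst hy
    show (X : Γ → ℂ) k' = (X : Γ → ℂ) k
    rw [hk]
    exact irr_classFun X.2 _ _
  · intro ψ hψ hψχ
    obtain ⟨Y, hY, hYψ⟩ := ext_of_gen h.hgen ψ (fun n n' hn => hψ x rfl n n' hn)
    have hYK : IsIrrCharacter K (fun k : K => Y k) := by
      have : (fun k : K => Y k) = (ψ : K → ℂ) := funext hYψ
      rw [this]; exact ψ.2
    have hd2 := h.dich hY hYK hΨ hΨC ψ ξ hYψ hξ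
    apply hd2.2.2.1
    have heq := eq_of_norm_av' x' (fun g : ↥(C ⊔ zpowers x) => (X : Γ → ℂ) g) Ψ
      hd.1 hd.2.1 hne.2
    have h0 : av' (C.subgroupOf (C ⊔ zpowers x)) x'
        (fun g => Y g * conj ((X : Γ → ℂ) g)) = 0 := by
      rw [av'_subgroupOf hCD x' (fun g => Y g * conj ((X : Γ → ℂ) g))]
      have e : (x' : Γ) = x := rfl
      rw [e, ← h.iso (fun g => Y g * conj ((X : Γ → ℂ) g)) (fun u g => by
        rw [irr_classFun hY, irr_classFun X.2])]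
      apply av'_ne habK x hY X.2
      by_contra hcon
      push Not at hcon
      apply hψχ
      apply Subtype.ext
      funext k
      rw [← hYψ]
      exact hcon k
    have := Fintype.ofFinite (C.subgroupOf (C ⊔ zpowers x))
    set b := av' (C.subgroupOf (C ⊔ zpowers x)) x'
      (fun g => (X : Γ → ℂ) g * conj (Ψ g)) with hb
    have hbb : b * conj b = 1 := by
      rw [Complex.mul_conj', hne.2]; norm_num
    have h3 : av' (C.subgroupOf (C ⊔ zpowers x)) x' (fun g => Y g * conj (Ψ g)) =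
        b * av' (C.subgroupOf (C ⊔ zpowers x)) x'
        (fun g => Y g * conj ((X : Γ → ℂ) g)) := by
      rw [av'_eq_sum, av'_eq_sum, mul_left_comm]
      congr 1
      rw [Finset.mul_sum]
      apply Finset.sum_congr rfl
      intro n _
      rw [heq n, map_mul]
      linear_combination (-(Y (n * x' : ↥(C ⊔ zpowers x)) * conj (Ψ (n * x')))) * hbb
    rw [h3, h0, mul_zero]

theorem good (h : CycH p K Q C x) : Good p {x} K C h.C_le := ⟨h.left, h.right⟩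

end CycH

end Cfsg.Agent.H27
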