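import Cfsg.Agent.H27.CosetAv
import Cfsg.Agent.H27.GalUnit
import Cfsg.Agent.H26.Dict3
import Cfsg.Agent.H11.Defect4
import Cfsg.Agent.H11.PPart

set_option autoImplicit false

/-! # Relative Glauberman correspondence: multiplicities, the control lemma and the isometry -/

universe u

namespace Cfsg.Agent.H27

open Subgroup Cfsg Cfsg.Agent.H3 Cfsg.Agent.H11
open scoped ComplexConjugate

section Defs

variable {G : Type u} [Group G] [Finite G] {K C : Subgroup G}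

theorem exists_mlt (h : C ≤ K) (χ : IrrCharacter K) (ξ : IrrCharacter C) :
    ∃ m : ℕ, (Nat.card C : ℂ)⁻¹ * ∑ᶠ c : C, (χ : K → ℂ) (inclusion h c) * conj ((ξ : C → ℂ) c) =
      m := by
  have := Fintype.ofFinite C
  obtain ⟨n, hn⟩ := classInner_char_nat (isChar_comp (irr_isChar χ.2) (inclusion h))
    (irr_isChar ξ.2)
  refine ⟨n, ?_⟩
  rw [← hn, finsum_eq_sum_of_fintype]
  rfl

/-- the multiplicity of `ξ` in the restriction of `χ` -/
noncomputable def mlt (h : C ≤ K) (χ : IrrCharacter K) (ξ : IrrCharacter C) : ℕ :=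
  Classical.choose (exists_mlt h χ ξ)

theorem mlt_spec (h : C ≤ K) (χ : IrrCharacter K) (ξ : IrrCharacter C) :
    (mlt h χ ξ : ℂ) = (Nat.card C : ℂ)⁻¹ *
      ∑ᶠ c : C, (χ : K → ℂ) (inclusion h c) * conj ((ξ : C → ℂ) c) :=
  (Classical.choose_spec (exists_mlt h χ ξ)).symm

theorem mlt_eq_classInner [Fintype C] (h : C ≤ K) (χ : IrrCharacter K) (ξ : IrrCharacter C) :
    (mlt h χ ξ : ℂ) = classInner (fun c : C => (χ : K → ℂ) (inclusion h c)) ξ := by
  rw [mlt_spec, finsum_eq_sum_of_fintype]; rfl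

/-- invariance under a set of elements -/
def Inv (P : Set G) (K : Subgroup G) (χ : IrrCharacter K) : Prop :=
  ∀ x ∈ P, ∀ k k' : K, (k' : G) = x * k * x⁻¹ → (χ : K → ℂ) k' = (χ : K → ℂ) k

/-- The correspondence property. -/
def Good (p : ℕ) (P : Set G) (K C : Subgroup G) (h : C ≤ K) : Prop :=
  (∀ χ, Inv P K χ → ∃ ξ, Inv P C ξ ∧ (mlt h χ ξ : ZMod p) ^ 2 = 1 ∧
    ∀ η, Inv P C η → η ≠ ξ → (mlt h χ η : ZMod p) = 0) ∧
  (∀ ξ, Inv P C ξ → ∃ χ, Inv P K χ ∧ (mlt h χ ξ : ZMod p) ^ 2 = 1 ∧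
    ∀ ψ, Inv P K ψ → ψ ≠ χ → (mlt h ψ ξ : ZMod p) = 0)

end Defs

variable {Γ : Type u} [Group Γ] [Fintype Γ] {p : ℕ}

/-- The hypotheses of the cyclic case. -/
structure CycH (p : ℕ) (K Q C : Subgroup Γ) (x : Γ) : Prop where
  hp : p.Prime
  Kn : K.Normal
  Qn : Q.Normal
  hQK : Q ≤ K
  hreg : ¬ p ∣ Q.relIndex K
  hx : ∃ k : ℕ, orderOf x = p ^ k
  hgen : K ⊔ zpowers x = ⊤
  hC : ∀ k, k ∈ C ↔ k ∈ K ∧ x * k * x⁻¹ * k⁻¹ ∈ Q

namespace CycH

variable {K Q C : Subgroup Γ} {x : Γ}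

omit [Fintype Γ] in
theorem hC' (h : CycH p K Q C x) [Q.Normal] (k : Γ) : k ∈ C ↔ k ∈ K ∧
    (x : Γ ⧸ Q) * (k : Γ ⧸ Q) = (k : Γ ⧸ Q) * (x : Γ ⧸ Q) := by
  rw [h.hC]
  apply and_congr_right
  intro _
  rw [← QuotientGroup.eq_one_iff]
  rw [QuotientGroup.mk_mul, QuotientGroup.mk_mul, QuotientGroup.mk_mul, QuotientGroup.mk_inv,
    QuotientGroup.mk_inv, mul_inv_eq_one, mul_inv_eq_iff_eq_mul]

omit [Fintype Γ] in
theorem zpowers_pow (h : CycH p K Q C x) {j : ℕ} (hj : j.Coprime p) :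
    zpowers (x ^ j) = zpowers x := by
  obtain ⟨k, hk⟩ := h.hx
  apply le_antisymm
  · rw [zpowers_le]; exact pow_mem (mem_zpowers x) j
  · rw [zpowers_le]
    have hfin : IsOfFinOrder x := by
      rw [← orderOf_pos_iff, hk]; exact pow_pos h.hp.pos k
    have hco : (orderOf x).Coprime j := by rw [hk]; exact (Nat.Coprime.pow_left k hj.symm)
    obtain ⟨m, hm⟩ := exists_pow_eq_self_of_coprime (x := x) hco.symm
    have h2 := pow_mem (mem_zpowers (x ^ j)) m
    rwa [hm] at h2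

omit [Fintype Γ] in
theorem pow (h : CycH p K Q C x) {j : ℕ} (hj : j.Coprime p) : CycH p K Q C (x ^ j) := by
  haveI := h.Qn
  refine ⟨h.hp, h.Kn, h.Qn, h.hQK, h.hreg, ?_, ?_, ?_⟩
  · obtain ⟨k, hk⟩ := h.hx
    have hco : (orderOf x).Coprime j := by rw [hk]; exact (Nat.Coprime.pow_left k hj.symm)
    exact ⟨k, by rw [Nat.Coprime.orderOf_pow hco, hk]⟩
  · rw [h.zpowers_pow hj]; exact h.hgen
  · intro k
    rw [h.hC']
    apply and_congr_right
    intro _
    rw [← QuotientGroup.eq_one_iff]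
    rw [QuotientGroup.mk_mul, QuotientGroup.mk_mul, QuotientGroup.mk_mul, QuotientGroup.mk_inv,
      QuotientGroup.mk_inv, mul_inv_eq_one, mul_inv_eq_iff_eq_mul, QuotientGroup.mk_pow]
    constructor
    · intro hc
      exact (show Commute (x : Γ ⧸ Q) (k : Γ ⧸ Q) from hc).pow_left j
    · intro hc
      have h1 : (x : Γ ⧸ Q) ∈ zpowers ((x : Γ ⧸ Q) ^ j) := by
        have h2 : x ∈ zpowers (x ^ j) := by rw [h.zpowers_pow hj]; exact mem_zpowers x
        obtain ⟨m, hm⟩ := mem_zpowers_iff.mp h2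
        refine mem_zpowers_iff.mpr ⟨m, ?_⟩
        rw [← QuotientGroup.mk_pow, ← QuotientGroup.mk_zpow, hm]
      obtain ⟨m, hm⟩ := mem_zpowers_iff.mp h1
      rw [← hm]
      exact (show Commute ((x : Γ ⧸ Q) ^ j) (k : Γ ⧸ Q) from hc).zpow_left m

omit [Fintype Γ] in
theorem C_le (h : CycH p K Q C x) : C ≤ K := fun k hk => ((h.hC k).mp hk).1

omit [Fintype Γ] in
theorem Q_le_C (h : CycH p K Q C x) : Q ≤ C := by
  intro q hq
  rw [h.hC]
  refine ⟨h.hQK hq, ?_⟩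
  exact Q.mul_mem (h.Qn.conj_mem q hq x) (Q.inv_mem hq)

omit [Fintype Γ] in
theorem x_norm (h : CycH p K Q C x) {c : Γ} (hc : c ∈ C) : x * c * x⁻¹ ∈ C := by
  haveI := h.Qn
  rw [h.hC'] at hc ⊢
  refine ⟨h.Kn.conj_mem c hc.1 x, ?_⟩
  rw [QuotientGroup.mk_mul, QuotientGroup.mk_mul, QuotientGroup.mk_inv, hc.2]
  group
  exact hc.2

theorem not_dvd_order [Finite Γ] (h : CycH p K Q C x) [Q.Normal] {k : Γ} (hk : k ∈ K) :
    ¬ p ∣ orderOf (k : Γ ⧸ Q) := by
  intro hd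
  apply h.hreg
  have h1 : orderOf (k : Γ ⧸ Q) ∣ Nat.card (K.map (QuotientGroup.mk' Q)) := by
    have : (k : Γ ⧸ Q) ∈ K.map (QuotientGroup.mk' Q) := ⟨k, hk, rfl⟩
    rw [← Subgroup.orderOf_mk _ this]
    exact orderOf_dvd_natCard _
  have h2 : Nat.card (K.map (QuotientGroup.mk' Q)) = Q.relIndex K := by
    have h3 := Subgroup.relIndex_ker K (QuotientGroup.mk' Q)
    rw [QuotientGroup.ker_mk'] at h3
    exact h3.symm
  rw [← h2]
  exact hd.trans h1

/-- The control lemma. -/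
theorem ctrl (h : CycH p K Q C x) {c c' u : Γ} (hc : c ∈ C) (hc' : c' ∈ C) (hu : u ∈ K)
    (he : u * (c * x) * u⁻¹ = c' * x) : u ∈ C := by
  haveI := h.Qn
  have hxk : ∃ k : ℕ, orderOf (x : Γ ⧸ Q) = p ^ k := by
    obtain ⟨k, hk⟩ := h.hx
    have h1 : orderOf (x : Γ ⧸ Q) ∣ p ^ k := by
      rw [← hk]; exact orderOf_map_dvd (QuotientGroup.mk' Q) x
    obtain ⟨i, _, hi⟩ := (Nat.dvd_prime_pow h.hp).mp h1
    exact ⟨i, hi⟩
  have hpart : ∀ c ∈ C, IsPPart p ((c * x : Γ) : Γ ⧸ Q) (x : Γ ⧸ Q) := by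
    intro c hc
    have h1 := (h.hC' c).mp hc
    refine ⟨(c : Γ ⧸ Q), ?_, h1.2, hxk, h.not_dvd_order h1.1⟩
    rw [h1.2, QuotientGroup.mk_mul]
  have h1 := isPPart_conj (hpart c hc) (u : Γ ⧸ Q)
  have h2 := hpart c' hc'
  rw [← he, QuotientGroup.mk_mul, QuotientGroup.mk_mul _ u, QuotientGroup.mk_inv] at h2
  have h3 := isPPart_unique h.hp h1 h2
  rw [h.hC']
  refine ⟨hu, ?_⟩
  exact (mul_inv_eq_iff_eq_mul.mp h3).symm

/-- The isometry. -/
theorem iso (h : CycH p K Q C x) (F : Γ → ℂ) (hF : ∀ u g, F (u * g * u⁻¹) = F g) :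
    av' K x F = av' C x F := by
  classical
  have := Fintype.ofFinite K
  have := Fintype.ofFinite C
  let φ : K × C → K := fun q => ⟨q.1 * q.2 * (x * (q.1 : Γ)⁻¹ * x⁻¹),
    K.mul_mem (K.mul_mem q.1.2 (h.C_le q.2.2)) (h.Kn.conj_mem _ (K.inv_mem q.1.2) x)⟩
  have hφ : ∀ q : K × C, (φ q : Γ) * x = q.1 * (q.2 * x) * (q.1 : Γ)⁻¹ := by
    intro q
    show (q.1 : Γ) * q.2 * (x * (q.1 : Γ)⁻¹ * x⁻¹) * x = _
    group
  have hfib : ∀ k : K, (Finset.univ.filter (fun q : K × C => φ q = k)).card ≤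
      Fintype.card C := by
    intro k
    by_cases hne : (Finset.univ.filter (fun q : K × C => φ q = k)).Nonempty
    · obtain ⟨q0, hq0⟩ := hne
      have hq0' := (Finset.mem_filter.mp hq0).2
      rw [← Finset.card_univ]
      refine Finset.card_le_card_of_injOn (fun q => if hq : (q0.1 : Γ)⁻¹ * q.1 ∈ C then
        (⟨(q0.1 : Γ)⁻¹ * q.1, hq⟩ : C) else 1) (fun _ _ => Finset.mem_univ _) ?_
      have hmem : ∀ q ∈ Finset.univ.filter (fun q : K × C => φ q = k),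
          (q0.1 : Γ)⁻¹ * q.1 ∈ C := by
        intro q hq
        have hq' := (Finset.mem_filter.mp hq).2
        have e1 : (q.1 : Γ) * (q.2 * x) * (q.1 : Γ)⁻¹ = q0.1 * (q0.2 * x) * (q0.1 : Γ)⁻¹ := by
          rw [← hφ, ← hφ, hq', hq0']
        apply h.ctrl q.2.2 q0.2.2 (K.mul_mem (K.inv_mem q0.1.2) q.1.2)
        calc (q0.1 : Γ)⁻¹ * q.1 * (q.2 * x) * ((q0.1 : Γ)⁻¹ * q.1)⁻¹
            = (q0.1 : Γ)⁻¹ * (q.1 * (q.2 * x) * (q.1 : Γ)⁻¹) * q0.1 := by group
          _ = _ := by rw [e1]; group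
      intro q hq q' hq' heq
      have h1 := hmem q hq
      have h2 := hmem q' hq'
      simp only [dif_pos h1, dif_pos h2] at heq
      have h3 : q.1 = q'.1 := by
        have := congrArg Subtype.val heq
        exact Subtype.ext (mul_left_cancel this)
      have e1 : (q.1 : Γ) * (q.2 * x) * (q.1 : Γ)⁻¹ = q'.1 * (q'.2 * x) * (q'.1 : Γ)⁻¹ := by
        rw [← hφ, ← hφ, (Finset.mem_filter.mp hq).2, (Finset.mem_filter.mp hq').2]
      rw [h3] at e1
      have h4 : q.2 = q'.2 := Subtype.ext (mul_right_cancel (mul_left_cancel (mul_right_cancel e1)))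
      exact Prod.ext h3 h4
    · rw [Finset.not_nonempty_iff_eq_empty.mp hne]
      simp
  have htot : ∑ k : K, (Finset.univ.filter (fun q : K × C => φ q = k)).card =
      Fintype.card K * Fintype.card C := by
    rw [← Fintype.card_prod, ← Finset.card_univ (α := K × C)]
    exact (Finset.card_eq_sum_card_fiberwise (fun q _ => Finset.mem_univ (φ q))).symm
  have hall : ∀ k : K, (Finset.univ.filter (fun q : K × C => φ q = k)).card = Fintype.card C := by
    intro k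
    by_contra hne
    have hlt := lt_of_le_of_ne (hfib k) hne
    have h1 : ∑ k : K, (Finset.univ.filter (fun q : K × C => φ q = k)).card <
        ∑ _k : K, Fintype.card C :=
      Finset.sum_lt_sum (fun i _ => hfib i) ⟨k, Finset.mem_univ k, hlt⟩
    rw [htot, Finset.sum_const, Finset.card_univ, smul_eq_mul] at h1
    exact lt_irrefl _ h1
  have hsum1 : ∑ q : K × C, F ((φ q : Γ) * x) = (Fintype.card C : ℂ) * ∑ k : K, F (k * x) := by
    rw [← Finset.sum_fiberwise (s := (Finset.univ : Finset (K × C))) (g := φ), Finset.mul_sum]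
    apply Finset.sum_congr rfl
    intro k _
    rw [Finset.sum_congr rfl (g := fun _ => F (k * x)) (by
      intro q hq; rw [(Finset.mem_filter.mp hq).2]), Finset.sum_const, hall, nsmul_eq_mul]
  have hsum2 : ∑ q : K × C, F ((φ q : Γ) * x) = (Fintype.card K : ℂ) * ∑ c : C, F (c * x) := by
    rw [Fintype.sum_prod_type]
    have : ∀ u : K, ∑ c : C, F ((φ (u, c) : Γ) * x) = ∑ c : C, F (c * x) := by
      intro u
      apply Finset.sum_congr rfl
      intro c _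
      rw [hφ, hF]
    simp only [this]
    rw [Finset.sum_const, Finset.card_univ, nsmul_eq_mul]
  rw [av'_eq_sum, av'_eq_sum, Nat.card_eq_fintype_card, Nat.card_eq_fintype_card]
  have hK0 : (Fintype.card K : ℂ) ≠ 0 := by exact_mod_cast Fintype.card_ne_zero
  have hC0 : (Fintype.card C : ℂ) ≠ 0 := by exact_mod_cast Fintype.card_ne_zero
  rw [hsum1] at hsum2
  field_simp
  linear_combination hsum2

end CycH

end Cfsg.Agent.H27
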