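import Cfsg.Agent.H27.GlUp2

set_option autoImplicit false

/-! # Relative Glauberman correspondence: the theorem -/

universe u

namespace Cfsg.Agent.H27

open Subgroup Cfsg Cfsg.Agent.H3 Cfsg.Agent.H11
open scoped ComplexConjugate

variable {G : Type u} [Group G] {p : ℕ}

/-- the fixed point subgroup modulo `Q` -/
def fixS (P K Q : Subgroup G) (hKQ : K ≤ normalizer (Q : Set G)) : Subgroup G where
  carrier := {k | k ∈ K ∧ ∀ y ∈ P, y * k * y⁻¹ * k⁻¹ ∈ Q}
  one_mem' := ⟨one_mem K, fun y _ => by simp⟩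
  mul_mem' := by
    rintro a b ⟨ha, ha'⟩ ⟨hb, hb'⟩
    refine ⟨mul_mem ha hb, fun y hy => ?_⟩
    have e : y * (a * b) * y⁻¹ * (a * b)⁻¹ =
      (y * a * y⁻¹ * a⁻¹) * (a * (y * b * y⁻¹ * b⁻¹) * a⁻¹) := by group
    rw [e]
    exact mul_mem (ha' y hy) ((mem_normalizer_iff.mp (hKQ ha) _).mp (hb' y hy))
  inv_mem' := by
    rintro a ⟨ha, ha'⟩
    refine ⟨inv_mem ha, fun y hy => ?_⟩
    have e : y * a⁻¹ * y⁻¹ * a⁻¹⁻¹ = a⁻¹ * (y * a * y⁻¹ * a⁻¹)⁻¹ * a⁻¹⁻¹ := by group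
    rw [e]
    exact (mem_normalizer_iff.mp (hKQ (inv_mem ha)) _).mp (inv_mem (ha' y hy))

theorem mem_fixS {P K Q : Subgroup G} (hKQ : K ≤ normalizer (Q : Set G)) (k : G) :
    k ∈ fixS P K Q hKQ ↔ k ∈ K ∧ ∀ y ∈ P, y * k * y⁻¹ * k⁻¹ ∈ Q := Iff.rfl

/-- the centralizer modulo `Q` in `P` -/
def cenS (P Q : Subgroup G) (hPQ : P ≤ normalizer (Q : Set G)) (k : G) : Subgroup G where
  carrier := {y | y ∈ P ∧ y * k * y⁻¹ * k⁻¹ ∈ Q}
  one_mem' := ⟨one_mem P, by simp⟩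
  mul_mem' := by
    rintro a b ⟨ha, ha'⟩ ⟨hb, hb'⟩
    refine ⟨mul_mem ha hb, ?_⟩
    have e : a * b * k * (a * b)⁻¹ * k⁻¹ =
      (a * (b * k * b⁻¹ * k⁻¹) * a⁻¹) * (a * k * a⁻¹ * k⁻¹) := by group
    rw [e]
    exact mul_mem ((mem_normalizer_iff.mp (hPQ ha) _).mp hb') ha'
  inv_mem' := by
    rintro a ⟨ha, ha'⟩
    refine ⟨inv_mem ha, ?_⟩
    have e : a⁻¹ * k * a⁻¹⁻¹ * k⁻¹ = a⁻¹ * (a * k * a⁻¹ * k⁻¹)⁻¹ * a⁻¹⁻¹ := by group
    rw [e]
    exact (mem_normalizer_iff.mp (hPQ (inv_mem ha)) _).mp (inv_mem ha')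

theorem mem_cenS {P Q : Subgroup G} (hPQ : P ≤ normalizer (Q : Set G)) (k y : G) :
    y ∈ cenS P Q hPQ k ↔ y ∈ P ∧ y * k * y⁻¹ * k⁻¹ ∈ Q := Iff.rfl

theorem norm_of_fix {P P₁ K Q C : Subgroup G} (hP1 : P ≤ normalizer (P₁ : Set G))
    (hPK : P ≤ normalizer (K : Set G)) (hPQ : P ≤ normalizer (Q : Set G))
    (hC : ∀ k, k ∈ C ↔ k ∈ K ∧ ∀ y ∈ P₁, y * k * y⁻¹ * k⁻¹ ∈ Q) :
    P ≤ normalizer (C : Set G) := by
  have key : ∀ y ∈ P, ∀ c ∈ C, y * c * y⁻¹ ∈ C := by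
    intro y hy c hc
    rw [hC] at hc ⊢
    refine ⟨(mem_normalizer_iff.mp (hPK hy) c).mp hc.1, fun z hz => ?_⟩
    have hz' : y⁻¹ * z * y ∈ P₁ := by
      have := (mem_normalizer_iff.mp (hP1 (inv_mem hy)) z).mp hz
      rwa [inv_inv] at this
    have h1 := (mem_normalizer_iff.mp (hPQ hy) _).mp (hc.2 _ hz')
    have e : y * (y⁻¹ * z * y * c * (y⁻¹ * z * y)⁻¹ * c⁻¹) * y⁻¹ =
      z * (y * c * y⁻¹) * z⁻¹ * (y * c * y⁻¹)⁻¹ := by group
    rwa [e] at h1
  intro y hy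
  rw [mem_normalizer_iff]
  intro c
  refine ⟨key y hy c, fun h => ?_⟩
  have := key y⁻¹ (inv_mem hy) _ h
  have e : y⁻¹ * (y * c * y⁻¹) * y⁻¹⁻¹ = c := by group
  rwa [e] at this

theorem good_base [Finite G] {K C : Subgroup G} (P : Set G) (hCK : C ≤ K) (he : C = K) :
    Good p P K C hCK := by
  classical
  subst he
  have := Fintype.ofFinite C
  have hm : ∀ χ ξ : IrrCharacter C, mlt hCK χ ξ = if χ = ξ then 1 else 0 := by
    intro χ ξ
    have h1 : ((mlt hCK χ ξ : ℕ) : ℂ) = ((if χ = ξ then 1 else 0 : ℕ) : ℂ) := by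
      rw [mlt_eq_classInner]
      have e : (fun c : C => (χ : C → ℂ) (inclusion hCK c)) = (χ : C → ℂ) := rfl
      rw [e, classInner_irr']
      split_ifs <;> simp
    exact_mod_cast h1
  constructor
  · intro χ hχ
    refine ⟨χ, hχ, ?_, ?_⟩
    · rw [hm, if_pos rfl]; simp
    · intro η _ hne
      rw [hm, if_neg (fun h => hne h.symm)]; simp
  · intro χ hχ
    refine ⟨χ, hχ, ?_, ?_⟩
    · rw [hm, if_pos rfl]; simp
    · intro η _ hne
      rw [hm, if_neg hne]; simp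

theorem exists_max [Finite G] {P : Subgroup G} (hp : p.Prime) (hP : IsPGroup p P) (h1 : P ≠ ⊥) :
    ∃ P₁ : Subgroup G, P₁ ≤ P ∧ P ≤ normalizer (P₁ : Set G) ∧ ∃ x ∈ P, x ∉ P₁ ∧
      P = P₁ ⊔ zpowers x := by
  have := Fact.mk hp
  have hnil : Group.IsNilpotent P := hP.isNilpotent
  have hnt : Nontrivial P := (Subgroup.nontrivial_iff_ne_bot P).mpr h1
  obtain h2 | ⟨M, hM, _⟩ := eq_top_or_exists_le_coatom (⊥ : Subgroup P)
  · exact absurd h2 bot_ne_top
  have hMn : M.Normal := NormalizerCondition.normal_of_coatom M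
    Group.normalizerCondition_of_isNilpotent hM
  obtain ⟨x, hx⟩ : ∃ x : P, x ∉ M := by
    by_contra hcon
    push Not at hcon
    exact hM.1 (eq_top_iff.mpr fun x _ => hcon x)
  refine ⟨M.map P.subtype, ?_, ?_, x, x.2, ?_, ?_⟩
  · rintro _ ⟨y, _, rfl⟩
    exact y.2
  · have h3 := Subgroup.normal_subgroupOf_iff_le_normalizer
      (show M.map P.subtype ≤ P by rintro _ ⟨y, _, rfl⟩; exact y.2)
    rw [← h3]
    have e : (M.map P.subtype).subgroupOf P = M :=
      comap_map_eq_self_of_injective P.subtype_injective M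
    rw [e]; exact hMn
  · rintro ⟨y, hy, hyx⟩
    apply hx
    have : y = x := Subtype.ext hyx
    rwa [← this]
  · have h4 : M ⊔ zpowers x = ⊤ := by
      apply hM.2
      refine lt_of_le_of_ne le_sup_left (fun he => hx ?_)
      rw [he]
      exact mem_sup_right (mem_zpowers x)
    have h5 := congrArg (Subgroup.map P.subtype) h4
    rw [Subgroup.map_sup, MonoidHom.map_zpowers, ← MonoidHom.range_eq_map,
      Subgroup.range_subtype] at h5
    exact h5.symm

theorem good_main [Finite G] (hp : p.Prime) {K Q : Subgroup G}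
    (hKQ : K ≤ normalizer (Q : Set G)) (hQK : Q ≤ K) (hreg : ¬ p ∣ Q.relIndex K) (n : ℕ) :
    ∀ (P C : Subgroup G), Nat.card P ≤ n → IsPGroup p P → P ≤ normalizer (K : Set G) →
      P ≤ normalizer (Q : Set G) → ∀ (hCK : C ≤ K),
      (∀ k, k ∈ C ↔ k ∈ K ∧ ∀ y ∈ P, y * k * y⁻¹ * k⁻¹ ∈ Q) → Good p (P : Set G) K C hCK := by
  induction n with
  | zero =>
    intro P C hn
    have : 0 < Nat.card P := Nat.card_pos
    omega
  | succ n ih =>
    intro P C hn hP hPK hPQ hCK hC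
    by_cases h1 : P = ⊥
    · apply good_base
      apply le_antisymm hCK
      intro k hk
      rw [hC]
      refine ⟨hk, fun y hy => ?_⟩
      rw [h1, mem_bot] at hy
      subst hy
      simp
    · obtain ⟨P₁, hP1, hPn, x, hxP, hx1, hgen⟩ := exists_max hp hP h1
      have hlt : Nat.card P₁ < Nat.card P := by
        refine lt_of_le_of_ne (Subgroup.card_le_of_le hP1) (fun he => hx1 ?_)
        have : P₁ = P := Subgroup.eq_of_le_of_card_ge hP1 he.ge
        rw [this]; exact hxP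
      have hC1 : ∀ k, k ∈ fixS P₁ K Q hKQ ↔ k ∈ K ∧ ∀ y ∈ P₁, y * k * y⁻¹ * k⁻¹ ∈ Q :=
        mem_fixS hKQ
      have hC1K : fixS P₁ K Q hKQ ≤ K := fun k hk => hk.1
      have hQC1 : Q ≤ fixS P₁ K Q hKQ := by
        intro q hq
        rw [hC1]
        refine ⟨hQK hq, fun y hy => ?_⟩
        exact mul_mem ((mem_normalizer_iff.mp (hPQ (hP1 hy)) q).mp hq) (inv_mem hq)
      have g1 := ih P₁ (fixS P₁ K Q hKQ) (by omega) (hP.to_le hP1) (hP1.trans hPK) (hP1.trans hPQ)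
        hC1K hC1
      have hPC1 : P ≤ normalizer ((fixS P₁ K Q hKQ : Subgroup G) : Set G) :=
        norm_of_fix hPn hPK hPQ hC1
      have hPC : P ≤ normalizer (C : Set G) := norm_of_fix le_normalizer hPK hPQ hC
      have hCC1 : C ≤ fixS P₁ K Q hKQ := by
        intro c hc
        rw [hC1]
        have := (hC c).mp hc
        exact ⟨this.1, fun y hy => this.2 y (hP1 hy)⟩
      have hCx : ∀ k, k ∈ C ↔ k ∈ fixS P₁ K Q hKQ ∧ x * k * x⁻¹ * k⁻¹ ∈ Q := by
        intro k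
        constructor
        · intro hk
          exact ⟨hCC1 hk, ((hC k).mp hk).2 x hxP⟩
        · rintro ⟨hk, hkx⟩
          rw [hC1] at hk
          rw [hC]
          refine ⟨hk.1, fun y hy => ?_⟩
          have h3 : P₁ ⊔ zpowers x ≤ cenS P Q hPQ k := by
            rw [sup_le_iff, zpowers_le]
            exact ⟨fun z hz => ⟨hP1 hz, hk.2 z hz⟩, ⟨hxP, hkx⟩⟩
          rw [hgen] at hy
          exact (h3 hy).2
      have hreg1 : ¬ p ∣ Q.relIndex (fixS P₁ K Q hKQ) := by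
        intro hd
        apply hreg
        rw [← relIndex_mul_relIndex Q (fixS P₁ K Q hKQ) K hQC1 hC1K]
        exact Dvd.dvd.mul_right hd _
      have hxo : ∃ k : ℕ, orderOf x = p ^ k := by
        have := Fact.mk hp
        obtain ⟨k, hk⟩ := (IsPGroup.iff_orderOf.mp hP) ⟨x, hxP⟩
        exact ⟨k, by rw [← hk, Subgroup.orderOf_mk]⟩
      have g2 := good_of_elt hp (hPC1 hxP) (hPQ hxP) (hC1K.trans hKQ) hQC1 hreg1 hxo hCC1 hCx
      have g2' : Good p ((zpowers x : Subgroup G) : Set G) (fixS P₁ K Q hKQ) C hCC1 := by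
        have hinv : ∀ (H : Subgroup G) (χ : IrrCharacter H), x ∈ normalizer (H : Set G) →
            (Inv ({x} : Set G) H χ ↔ Inv ((zpowers x : Subgroup G) : Set G) H χ) := by
          intro H χ hxH
          constructor
          · intro h
            have hz : zpowers x ≤ normalizer (H : Set G) := by rw [zpowers_le]; exact hxH
            rw [inv_iff hz]
            letI := irrAct (zpowers x) H hz
            have h5 : (⟨x, mem_zpowers x⟩ : zpowers x) • χ = χ := by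
              apply Subtype.ext
              funext c
              obtain ⟨c', rfl⟩ := (Cfsg.Agent.H26.normConj H hxH).surjective c
              show (((irrAct (zpowers x) H hz).toSMul.smul (⟨x, mem_zpowers x⟩ : zpowers x) χ :
                IrrCharacter H) : H → ℂ) _ = _
              rw [irrAct_apply hz ⟨x, mem_zpowers x⟩ χ _ c' rfl]
              exact (h x rfl c' _ rfl).symm
            rintro ⟨y, hy⟩
            obtain ⟨i, rfl⟩ := mem_zpowers_iff.mp hy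
            have h6 : (⟨x, mem_zpowers x⟩ : zpowers x) ∈ MulAction.stabilizer (zpowers x) χ := h5
            exact zpow_mem h6 i
          · exact fun h => h.mono (by
              rw [Set.singleton_subset_iff]; exact mem_zpowers x)
        constructor
        · intro χ hχ
          obtain ⟨ξ, a1, a2, a3⟩ := g2.1 χ ((hinv _ χ (hPC1 hxP)).mpr hχ)
          exact ⟨ξ, (hinv _ ξ (hPC hxP)).mp a1, a2, fun η hη => a3 η ((hinv _ η (hPC hxP)).mpr hη)⟩
        · intro χ hχ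
          obtain ⟨ξ, a1, a2, a3⟩ := g2.2 χ ((hinv _ χ (hPC hxP)).mpr hχ)
          exact ⟨ξ, (hinv _ ξ (hPC1 hxP)).mp a1, a2,
            fun η hη => a3 η ((hinv _ η (hPC1 hxP)).mpr hη)⟩
      exact (g1.up hp hP hP1 hPK hPC1).comp hp hP hPK hPC1 hPC
        (g2'.up hp hP (by rw [zpowers_le]; exact hxP) hPC1 hPC)

/-- a normal Sylow subgroup contains every `p`-element -/
theorem mem_of_pElt [Finite G] (hp : p.Prime) {K Q : Subgroup G}
    (hKQ : K ≤ normalizer (Q : Set G)) (hQK : Q ≤ K) (hreg : ¬ p ∣ Q.relIndex K) {k : G}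
    (hk : k ∈ K) (ho : ∃ j : ℕ, orderOf k = p ^ j) : k ∈ Q := by
  have := (Subgroup.normal_subgroupOf_iff_le_normalizer hQK).mpr hKQ
  have h1 : orderOf (((⟨k, hk⟩ : K) : K ⧸ Q.subgroupOf K)) ∣ Q.relIndex K :=
    orderOf_dvd_natCard _
  have h2 : orderOf (((⟨k, hk⟩ : K) : K ⧸ Q.subgroupOf K)) ∣ orderOf k := by
    have := orderOf_map_dvd (QuotientGroup.mk' (Q.subgroupOf K)) (⟨k, hk⟩ : K)
    rwa [Subgroup.orderOf_mk] at this
  obtain ⟨j, hj⟩ := ho
  rw [hj] at h2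
  have h3 : orderOf (((⟨k, hk⟩ : K) : K ⧸ Q.subgroupOf K)) = 1 := by
    obtain ⟨i, _, hi⟩ := (Nat.dvd_prime_pow hp).mp h2
    rcases Nat.eq_zero_or_pos i with h0 | h0
    · rw [hi, h0, pow_zero]
    · exfalso
      apply hreg
      exact (dvd_pow_self p h0.ne').trans (hi ▸ h1)
  rw [orderOf_eq_one_iff, QuotientGroup.eq_one_iff] at h3
  exact h3

theorem norm_sylow [Finite G] (hp : p.Prime) {P K Q : Subgroup G}
    (hPK : P ≤ normalizer (K : Set G)) (hKQ : K ≤ normalizer (Q : Set G)) (hQK : Q ≤ K)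
    (hQp : ∃ a : ℕ, Nat.card Q = p ^ a) (hreg : ¬ p ∣ Q.relIndex K) :
    P ≤ normalizer (Q : Set G) := by
  have key : ∀ y ∈ P, ∀ q ∈ Q, y * q * y⁻¹ ∈ Q := by
    intro y hy q hq
    apply mem_of_pElt hp hKQ hQK hreg ((mem_normalizer_iff.mp (hPK hy) q).mp (hQK hq))
    obtain ⟨a, ha⟩ := hQp
    have h1 : orderOf (y * q * y⁻¹) = orderOf q := by
      have := MulEquiv.orderOf_eq (MulAut.conj y) q
      rwa [MulAut.conj_apply] at this
    rw [h1]
    have h2 : orderOf q ∣ p ^ a := by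
      rw [← ha, ← Subgroup.orderOf_mk q hq]
      exact orderOf_dvd_natCard _
    obtain ⟨i, _, hi⟩ := (Nat.dvd_prime_pow hp).mp h2
    exact ⟨i, hi⟩
  intro y hy
  rw [mem_normalizer_iff]
  intro c
  refine ⟨key y hy c, fun h => ?_⟩
  have := key y⁻¹ (inv_mem hy) _ h
  have e : y⁻¹ * (y * c * y⁻¹) * y⁻¹⁻¹ = c := by group
  rwa [e] at this

end Cfsg.Agent.H27
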