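import Cfsg.Agent.H27.GlDef
import Cfsg.Agent.H27.PMod

set_option autoImplicit false

/-! # Pairings on cosets: Galois sequences, Cauchy-Schwarz -/

universe u

namespace Cfsg.Agent.H27

open Subgroup Cfsg Cfsg.Agent.H3 Cfsg.Agent.H11
open scoped ComplexConjugate

variable {D : Type u} [Group D] [Fintype D] {N : Subgroup D}

section norm

/-- `X - b Ψ` on the coset. -/
theorem av'_sub (y : D) (X Ψ : D → ℂ)
    (hX : av' N y (fun g => X g * conj (X g)) = 1)
    (hΨ : av' N y (fun g => Ψ g * conj (Ψ g)) = 1) :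
    (Nat.card N : ℝ)⁻¹ * ∑ᶠ n : N,
      ‖X (n * y) - av' N y (fun g => X g * conj (Ψ g)) * Ψ (n * y)‖ ^ 2 =
      1 - ‖av' N y (fun g => X g * conj (Ψ g))‖ ^ 2 := by
  classical
  have := Fintype.ofFinite N
  set b := av' N y (fun g => X g * conj (Ψ g)) with hb
  have hb1 := hb
  rw [av'_eq_sum] at hX hΨ hb1
  have hb2 : conj b = (Nat.card N : ℂ)⁻¹ * ∑ n : N, conj (X (n * y)) * Ψ (n * y) := by
    rw [hb1, map_mul, map_sum, map_inv₀, Complex.conj_natCast]
    congr 1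
    apply Finset.sum_congr rfl
    intro n _
    rw [map_mul, Complex.conj_conj]
  rw [finsum_eq_sum_of_fintype]
  have h1 : (((Nat.card N : ℝ)⁻¹ * ∑ n : N, ‖X (n * y) - b * Ψ (n * y)‖ ^ 2 : ℝ) : ℂ) =
      ((1 - ‖b‖ ^ 2 : ℝ) : ℂ) := by
    push_cast
    have e : ∀ n : N, ((‖X (n * y) - b * Ψ (n * y)‖ : ℂ)) ^ 2 =
        X (n * y) * conj (X (n * y)) - conj b * (X (n * y) * conj (Ψ (n * y))) -
          b * (conj (X (n * y)) * Ψ (n * y)) + b * conj b * (Ψ (n * y) * conj (Ψ (n * y))) := by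
      intro n
      rw [← Complex.mul_conj', map_sub, map_mul]
      ring
    simp only [e]
    rw [Finset.sum_add_distrib, Finset.sum_sub_distrib, Finset.sum_sub_distrib, ← Finset.mul_sum,
      ← Finset.mul_sum, ← Finset.mul_sum, mul_add, mul_sub, mul_sub, hX,
      mul_left_comm _ (conj b), ← hb1, mul_left_comm _ b, ← hb2, mul_left_comm _ (b * conj b), hΨ,
      ← Complex.mul_conj']
    ring
  exact_mod_cast h1

theorem norm_av'_le (y : D) (X Ψ : D → ℂ)
    (hX : av' N y (fun g => X g * conj (X g)) = 1)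
    (hΨ : av' N y (fun g => Ψ g * conj (Ψ g)) = 1) :
    ‖av' N y (fun g => X g * conj (Ψ g))‖ ≤ 1 := by
  have h := av'_sub y X Ψ hX hΨ
  have h1 : 0 ≤ (Nat.card N : ℝ)⁻¹ * ∑ᶠ n : N,
      ‖X (n * y) - av' N y (fun g => X g * conj (Ψ g)) * Ψ (n * y)‖ ^ 2 := by
    apply mul_nonneg (inv_nonneg.mpr (Nat.cast_nonneg _))
    exact finsum_nonneg fun n => sq_nonneg _
  rw [h] at h1
  have h2 := norm_nonneg (av' N y (fun g => X g * conj (Ψ g)))
  nlinarith

theorem eq_of_norm_av' (y : D) (X Ψ : D → ℂ)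
    (hX : av' N y (fun g => X g * conj (X g)) = 1)
    (hΨ : av' N y (fun g => Ψ g * conj (Ψ g)) = 1)
    (hn : ‖av' N y (fun g => X g * conj (Ψ g))‖ = 1) (n : N) :
    X (n * y) = av' N y (fun g => X g * conj (Ψ g)) * Ψ (n * y) := by
  classical
  have := Fintype.ofFinite N
  have h := av'_sub y X Ψ hX hΨ
  rw [hn, finsum_eq_sum_of_fintype] at h
  have h0 : (Nat.card N : ℝ)⁻¹ ≠ 0 := inv_ne_zero (by exact_mod_cast Nat.card_pos.ne')
  have h1 : ∑ n : N, ‖X (n * y) - av' N y (fun g => X g * conj (Ψ g)) * Ψ (n * y)‖ ^ 2 = 0 := by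
    have h2 : (1 : ℝ) - 1 ^ 2 = 0 := by norm_num
    rw [h2] at h
    exact (mul_eq_zero.mp h).resolve_left h0
  have h2 := (Finset.sum_eq_zero_iff_of_nonneg (fun n _ => sq_nonneg _)).mp h1 n
    (Finset.mem_univ n)
  rw [pow_eq_zero_iff two_ne_zero, norm_eq_zero, sub_eq_zero] at h2
  exact h2

end norm

variable [N.Normal] {p : ℕ} {M : Ideal AlgInt}

theorem pair_formula (hab : ∀ a b : D ⧸ N, a * b = b * a) [Fintype ((D ⧸ N) →* ℂˣ)]
    {X Ψ : D → ℂ} (hX : IsCharacter D X) (hΨ : IsIrrCharacter D Ψ) :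
    ∃ n : ((D ⧸ N) →* ℂˣ) → ℕ, ∀ y : D, av' N y (fun g => X g * conj (Ψ g)) =
      ∑ l : (D ⧸ N) →* ℂˣ, (l (y : D ⧸ N) : ℂ) * n l := by
  choose n hn using fun l : (D ⧸ N) →* ℂˣ => classInner_char_nat hX (irr_isChar (isIrr_tw hΨ l))
  refine ⟨n, fun y => ?_⟩
  rw [av'_pair hab]
  exact Finset.sum_congr rfl fun l _ => by rw [hn]

theorem pair_galSeq (hab : ∀ a b : D ⧸ N, a * b = b * a) {X Ψ : D → ℂ}
    (hX : IsCharacter D X) (hΨ : IsIrrCharacter D Ψ) (y : D) {N0 : ℕ} (hN0 : N0 ≠ 0)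
    (hy : y ^ N0 = 1) : IsGalSeq N0 (fun j => av' N (y ^ j) (fun g => X g * conj (Ψ g))) := by
  classical
  haveI : Finite ((D ⧸ N) →* ℂˣ) := finite_dual
  have := Fintype.ofFinite ((D ⧸ N) →* ℂˣ)
  obtain ⟨n, hn⟩ := pair_formula hab hX hΨ
  have h1 : (fun j => av' N (y ^ j) (fun g => X g * conj (Ψ g))) = fun j =>
      ∑ l : (D ⧸ N) →* ℂˣ, (linIrr l : D ⧸ N → ℂ) ((y : D ⧸ N) ^ j) * (n l : ℂ) := by
    funext j
    rw [hn]
    apply Finset.sum_congr rfl
    intro l _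
    rw [linIrr_apply, QuotientGroup.mk_pow]
  rw [h1]
  apply IsGalSeq.sum
  intro l _
  apply IsGalSeq.mul _ (IsGalSeq.natCast _)
  exact IsGalSeq.char (irr_isChar (linIrr l).2) hN0 (by
    rw [← QuotientGroup.mk_pow, hy, QuotientGroup.mk_one])

theorem li_hom_sub_one (hM : IsPModular p M) {A : Type*} [Group A] [Finite A] (l : A →* ℂˣ) {a : A}
    (ha : ∃ k : ℕ, orderOf a = p ^ k) : MemLocalIdeal M ((l a : ℂ) - 1) := by
  have := Fintype.ofFinite A
  have h1 := li_char_mul_sub hM (irr_isChar (linIrr l).2) (Commute.one_right a) ha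
  rw [mul_one, linIrr_apply, linIrr_apply, map_one, Units.val_one] at h1
  exact h1

theorem pair_li (hM : IsPModular p M) (hab : ∀ a b : D ⧸ N, a * b = b * a) {X Ψ : D → ℂ}
    (hX : IsCharacter D X) (hΨ : IsIrrCharacter D Ψ) {y : D} (hy : ∃ k : ℕ, orderOf y = p ^ k) :
    MemLocalIdeal M (av' N y (fun g => X g * conj (Ψ g)) - av' N 1 (fun g => X g * conj (Ψ g))) ∧
    MemLocalIdeal M (conj (av' N y (fun g => X g * conj (Ψ g))) -
      av' N 1 (fun g => X g * conj (Ψ g))) := by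
  classical
  have hpr := hM.2.1.isPrime
  haveI : Finite ((D ⧸ N) →* ℂˣ) := finite_dual
  have := Fintype.ofFinite ((D ⧸ N) →* ℂˣ)
  obtain ⟨n, hn⟩ := pair_formula hab hX hΨ
  have hyk : ∃ k : ℕ, orderOf (y : D ⧸ N) = p ^ k := by
    obtain ⟨k, hk⟩ := hy
    have h1 : orderOf (y : D ⧸ N) ∣ p ^ k := by
      rw [← hk]; exact orderOf_map_dvd (QuotientGroup.mk' N) y
    obtain ⟨i, _, hi⟩ := (Nat.dvd_prime_pow hM.1).mp h1
    exact ⟨i, hi⟩
  constructor
  · rw [hn, hn, ← Finset.sum_sub_distrib]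
    apply li_sum
    intro l _
    rw [QuotientGroup.mk_one, map_one, Units.val_one, ← sub_mul]
    exact li_mul_right (li_hom_sub_one hM l hyk) (lr_natCast M _)
  · rw [hn, hn, map_sum, ← Finset.sum_sub_distrib]
    apply li_sum
    intro l _
    rw [map_mul, Complex.conj_natCast, conj_hom, QuotientGroup.mk_one, map_one, Units.val_one,
      ← sub_mul]
    exact li_mul_right (li_hom_sub_one hM l (by rw [orderOf_inv]; exact hyk)) (lr_natCast M _)

/-- The dichotomy. -/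
theorem pair_dichotomy (hp : p.Prime) (hab : ∀ a b : D ⧸ N, a * b = b * a) {X Ψ : D → ℂ}
    (hX : IsCharacter D X) (hΨ : IsIrrCharacter D Ψ) {y : D} (hy : ∃ k : ℕ, orderOf y = p ^ k)
    {m : ℕ} (hm : av' N 1 (fun g => X g * conj (Ψ g)) = m)
    (hX1 : ∀ j : ℕ, j.Coprime p → av' N (y ^ j) (fun g => X g * conj (X g)) = 1)
    (hΨ1 : ∀ j : ℕ, j.Coprime p → av' N (y ^ j) (fun g => Ψ g * conj (Ψ g)) = 1) :
    (av' N y (fun g => X g * conj (Ψ g)) = 0 → (m : ZMod p) = 0) ∧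
    (av' N y (fun g => X g * conj (Ψ g)) ≠ 0 →
      (m : ZMod p) ^ 2 = 1 ∧ ‖av' N y (fun g => X g * conj (Ψ g))‖ = 1) := by
  classical
  obtain ⟨M, hM⟩ := exists_isPModular hp
  have hpr := hM.2.1.isPrime
  obtain ⟨h1, h2⟩ := pair_li hM hab hX hΨ hy
  rw [hm] at h1 h2
  constructor
  · intro h0
    rw [h0, zero_sub] at h1
    have h3 := li_neg h1
    rw [neg_neg, li_natCast_iff hM] at h3
    exact (ZMod.natCast_eq_zero_iff m p).mpr h3
  · intro hne
    obtain ⟨k, hk⟩ := hy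
    have hN0 : p ^ k ≠ 0 := pow_ne_zero k hp.ne_zero
    have hseq := pair_galSeq hab hX hΨ y hN0 (by rw [← hk]; exact pow_orderOf_eq_one y)
    have hnorm : ‖av' N y (fun g => X g * conj (Ψ g))‖ = 1 := by
      rcases Nat.eq_zero_or_pos k with rfl | hk0
      · have hle : ∀ j : ℕ, j.Coprime (p ^ 0) →
            ‖av' N (y ^ j) (fun g => X g * conj (Ψ g))‖ ≤ 1 := by
          intro j _
          have hy1 : y = 1 := by
            rw [pow_zero, orderOf_eq_one_iff] at hk; exact hk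
          have e : y ^ j = y ^ 1 := by rw [hy1]; simp
          rw [e]
          exact norm_av'_le (y ^ 1) X Ψ (hX1 1 (Nat.coprime_one_left p))
            (hΨ1 1 (Nat.coprime_one_left p))
        have := hseq.norm_eq_one hN0 (m := 1) (Nat.coprime_one_left _) (by simpa using hne) hle
        simpa using this
      · have hle : ∀ j : ℕ, j.Coprime (p ^ k) →
            ‖av' N (y ^ j) (fun g => X g * conj (Ψ g))‖ ≤ 1 := by
          intro j hj
          have hj' : j.Coprime p := Nat.Coprime.coprime_dvd_right (dvd_pow_self p hk0.ne') hj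
          exact norm_av'_le (y ^ j) X Ψ (hX1 j hj') (hΨ1 j hj')
        have := hseq.norm_eq_one hN0 (m := 1) (Nat.coprime_one_left _) (by simpa using hne) hle
        simpa using this
    refine ⟨?_, hnorm⟩
    set b := av' N y (fun g => X g * conj (Ψ g)) with hb
    have hbb : b * conj b = 1 := by
      rw [Complex.mul_conj', hnorm]; norm_num
    have hlb : MemLocalRing M b := by
      have := lr_add (li_lr h1) (lr_natCast M m)
      rwa [sub_add_cancel] at this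
    have h3 : MemLocalIdeal M (b * conj b - (m : ℂ) * m) :=
      li_mul_sub_mul hlb (lr_natCast M m) h1 h2
    rw [hbb] at h3
    have h4 : MemLocalIdeal M (((1 - (m : ℤ) ^ 2 : ℤ)) : ℂ) := by
      push_cast
      rw [sq]; exact h3
    rw [li_intCast_iff hM] at h4
    have h5 : (((1 - (m : ℤ) ^ 2 : ℤ)) : ZMod p) = 0 := (ZMod.intCast_zmod_eq_zero_iff_dvd _ p).mpr h4
    push_cast at h5
    exact (sub_eq_zero.mp h5).symm

end Cfsg.Agent.H27
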