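import Cfsg.Agent.H27.GlMain
import Cfsg.Agent.H18.PRes
import Cfsg.Agent.H1.MinNonNil
import Cfsg.Agent.H23.Coprime

set_option autoImplicit false

/-! # Glauberman correspondence for solvable groups of operators -/

universe u

namespace Cfsg.Agent.H27

open Subgroup Cfsg Cfsg.Agent.H3 Cfsg.Agent.H11
open Cfsg.Agent.H26 (irrMap irrMap_apply irrMap_symm_apply irrMap_apply' normConj normConj_coe)
open scoped ComplexConjugate

variable {Γ : Type u} [Group Γ]

/-- `C` is the subgroup of fixed points of `S` on `G`. -/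
def IsFx (G S C : Subgroup Γ) : Prop := ∀ x, x ∈ C ↔ x ∈ G ∧ ∀ s ∈ S, s * x = x * s

theorem isFx_inf (G S : Subgroup Γ) : IsFx G S (G ⊓ centralizer (S : Set Γ)) := by
  intro x
  rw [mem_inf, mem_centralizer_iff]
  rfl

theorem IsFx.le {G S C : Subgroup Γ} (h : IsFx G S C) : C ≤ G := fun x hx => ((h x).mp hx).1

theorem IsFx.eq_inf {G S C : Subgroup Γ} (h : IsFx G S C) : C = G ⊓ centralizer (S : Set Γ) := by
  ext x; rw [h x, isFx_inf G S x]

theorem IsFx.norm {G S C : Subgroup Γ} (h : IsFx G S C) {y : Γ} (hG : y ∈ normalizer (G : Set Γ))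
    (hS : y ∈ normalizer (S : Set Γ)) : y ∈ normalizer (C : Set Γ) := by
  have key : ∀ y : Γ, y ∈ normalizer (G : Set Γ) → y ∈ normalizer (S : Set Γ) →
      ∀ c ∈ C, y * c * y⁻¹ ∈ C := by
    intro y hG hS c hc
    rw [h] at hc ⊢
    refine ⟨(mem_normalizer_iff.mp hG c).mp hc.1, fun s hs => ?_⟩
    have hs' : y⁻¹ * s * y ∈ S := by
      have := (mem_normalizer_iff.mp (inv_mem hS) s).mp hs
      rwa [inv_inv] at this
    have := hc.2 _ hs'
    calc s * (y * c * y⁻¹) = y * (y⁻¹ * s * y * c) * y⁻¹ := by group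
      _ = _ := by rw [this]; group
  rw [mem_normalizer_iff]
  intro c
  refine ⟨key y hG hS c, fun hc => ?_⟩
  have := key y⁻¹ (inv_mem hG) (inv_mem hS) _ hc
  have e : y⁻¹ * (y * c * y⁻¹) * y⁻¹⁻¹ = c := by group
  rwa [e] at this

/-- equivariant correspondence -/
structure Corr (S G C : Subgroup Γ) (R : IrrCharacter G → IrrCharacter C → Prop) : Prop where
  fwd : ∀ χ, Inv (S : Set Γ) G χ → ∃ β, R χ β ∧ ∀ β', R χ β' → β' = β
  bwd : ∀ β, ∃ χ, Inv (S : Set Γ) G χ ∧ R χ β ∧ ∀ χ', Inv (S : Set Γ) G χ' → R χ' β → χ' = χ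
  equi : ∀ (y : Γ) (hG : y ∈ normalizer (G : Set Γ)) (_ : y ∈ normalizer (S : Set Γ))
    (hC : y ∈ normalizer (C : Set Γ)) χ β, Inv (S : Set Γ) G χ → R χ β →
    R (irrMap (normConj G hG) χ) (irrMap (normConj C hC) β)

/-- invariance under one element via `irrMap` -/
theorem inv_iff_irrMap {P C : Subgroup Γ} (hPC : P ≤ normalizer (C : Set Γ)) (ξ : IrrCharacter C) :
    Inv (P : Set Γ) C ξ ↔ ∀ (y : Γ) (hy : y ∈ P), irrMap (normConj C (hPC hy)) ξ = ξ := by
  constructor
  · intro h y hy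
    apply Subtype.ext
    funext c
    obtain ⟨c', rfl⟩ := (normConj C (hPC hy)).surjective c
    rw [irrMap_apply']
    exact (h y hy c' _ rfl).symm
  · intro h y hy k k' hk
    have h1 := h y hy
    have h2 : k' = normConj C (hPC hy) k := Subtype.ext hk
    rw [h2]
    conv_lhs => rw [← h1]
    rw [irrMap_apply']

theorem inv_conj {S G : Subgroup Γ} {y : Γ} (hG : y ∈ normalizer (G : Set Γ))
    (hS : y ∈ normalizer (S : Set Γ)) {χ : IrrCharacter G} (hχ : Inv (S : Set Γ) G χ) :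
    Inv (S : Set Γ) G (irrMap (normConj G hG) χ) := by
  intro s hs k k' hk
  obtain ⟨l, rfl⟩ := (normConj G hG).surjective k
  obtain ⟨l', rfl⟩ := (normConj G hG).surjective k'
  rw [irrMap_apply', irrMap_apply']
  have hs' : y⁻¹ * s * y ∈ S := by
    have := (mem_normalizer_iff.mp (inv_mem hS) s).mp hs
    rwa [inv_inv] at this
  apply hχ _ hs'
  rw [normConj_coe, normConj_coe] at hk
  calc (l' : Γ) = y⁻¹ * (y * l' * y⁻¹) * y := by group
    _ = y⁻¹ * s * y * l * (y⁻¹ * s * y)⁻¹ := by rw [hk]; group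

variable [Finite Γ]

theorem mlt_irrMap {G C : Subgroup Γ} (hCG : C ≤ G) {y : Γ} (hG : y ∈ normalizer (G : Set Γ))
    (hC : y ∈ normalizer (C : Set Γ)) (χ : IrrCharacter G) (β : IrrCharacter C) :
    mlt hCG (irrMap (normConj G hG) χ) (irrMap (normConj C hC) β) = mlt hCG χ β := by
  have h1 : ((mlt hCG (irrMap (normConj G hG) χ) (irrMap (normConj C hC) β) : ℕ) : ℂ) =
      (mlt hCG χ β : ℕ) := by
    rw [mlt_spec, mlt_spec]
    congr 1
    symm
    refine finsum_eq_of_bijective _ (normConj C hC).bijective (fun n => ?_)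
    rw [irrMap_apply']
    have e : inclusion hCG (normConj C hC n) = normConj G hG (inclusion hCG n) := rfl
    rw [e, irrMap_apply']
  exact_mod_cast h1

/-- the multiplicity in a normal subgroup divides the degree -/
theorem mlt_dvd {G N : Subgroup Γ} (hNG : N ≤ G) (hGN : G ≤ normalizer (N : Set Γ))
    (χ : IrrCharacter G) (θ : IrrCharacter N) (h : mlt hNG χ θ ≠ 0) :
    mlt hNG χ θ ∣ Nat.card G := by
  classical
  have := Fintype.ofFinite G
  have hn : (N.subgroupOf G).Normal := (normal_subgroupOf_iff_le_normalizer hNG).mpr hGN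
  have := Fintype.ofFinite (N.subgroupOf G)
  have := Fintype.ofFinite N
  have hm : classInner (fun h : N.subgroupOf G => (χ : G → ℂ) h)
      ((irrMap (subgroupOfEquivOfLe hNG)).symm θ : N.subgroupOf G → ℂ) = (mlt hNG χ θ : ℂ) := by
    rw [mlt_eq_classInner]
    exact classInner_comp_equiv (subgroupOfEquivOfLe hNG)
      (fun n : N => (χ : G → ℂ) (inclusion hNG n)) (θ : N → ℂ)
  have hne : classInner (fun h : N.subgroupOf G => (χ : G → ℂ) h)
      ((irrMap (subgroupOfEquivOfLe hNG)).symm θ : N.subgroupOf G → ℂ) ≠ 0 := by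
    rw [hm]; exact_mod_cast h
  have h1 := clifford_degree hn χ.2 ((irrMap (subgroupOfEquivOfLe hNG)).symm θ).2 hne
  rw [hm] at h1
  obtain ⟨h2, _⟩ := charDegree_spec χ.2
  obtain ⟨h3, _⟩ := charDegree_spec ((irrMap (subgroupOfEquivOfLe hNG)).symm θ).2
  rw [h2, h3] at h1
  have h4 : charDegree (χ : G → ℂ) = mlt hNG χ θ *
      (inertia hn ((irrMap (subgroupOfEquivOfLe hNG)).symm θ : N.subgroupOf G → ℂ)).index *
      charDegree ((irrMap (subgroupOfEquivOfLe hNG)).symm θ : N.subgroupOf G → ℂ) := by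
    exact_mod_cast h1
  exact (Dvd.intro _ (by rw [h4, mul_assoc])).trans (irr_degree_dvd_card χ.2 h2)

omit [Finite Γ] in
theorem inv_fx {G S C : Subgroup Γ} (hC : IsFx G S C) (β : IrrCharacter C) :
    Inv (S : Set Γ) C β := by
  intro s hs c c' hcc
  have h2 := ((hC c).mp c.2).2 s hs
  have h3 : c' = c := by
    apply Subtype.ext
    rw [hcc, h2]
    group
  rw [h3]

variable {p : ℕ}

theorem good_coprime (hp : p.Prime) {T G C : Subgroup Γ} (hT : IsPGroup p T)
    (hTG : T ≤ normalizer (G : Set Γ)) (hpG : ¬ p ∣ Nat.card G) (hC : IsFx G T C) :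
    Good p (T : Set Γ) G C hC.le := by
  have hb : (⊥ : Subgroup Γ).Normal := inferInstance
  have hn : ∀ L : Subgroup Γ, L ≤ Subgroup.normalizer ((⊥ : Subgroup Γ) : Set Γ) := by
    intro L
    rw [Subgroup.normalizer_eq_top_iff.mpr hb]
    exact le_top
  refine good_main hp (hn G) bot_le ?_ (Nat.card T) T C le_rfl hT hTG (hn T) hC.le ?_
  · rw [Subgroup.relIndex_bot_left]
    exact hpG
  · intro k
    rw [hC]
    apply and_congr_right
    intro _
    constructor
    · intro h y hy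
      rw [Subgroup.mem_bot, h y hy]
      group
    · intro h y hy
      have := h y hy
      rw [Subgroup.mem_bot, mul_inv_eq_one, mul_inv_eq_iff_eq_mul] at this
      exact this

theorem corr_p (hp : p.Prime) {T G C : Subgroup Γ} (hT : IsPGroup p T)
    (hTG : T ≤ normalizer (G : Set Γ)) (hpG : ¬ p ∣ Nat.card G) (hC : IsFx G T C) :
    Corr T G C (fun χ β => (mlt hC.le χ β : ZMod p) ≠ 0) := by
  have hg := good_coprime hp hT hTG hpG hC
  have hsq : ∀ z : ZMod p, z ^ 2 = 1 → z ≠ 0 := by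
    have := Fact.mk hp
    intro z hz h0
    rw [h0] at hz
    simp at hz
  refine ⟨?_, ?_, ?_⟩
  · intro χ hχ
    obtain ⟨β, _, h2, h3⟩ := hg.1 χ hχ
    refine ⟨β, hsq _ h2, fun β' hβ' => ?_⟩
    by_contra hne
    exact hβ' (h3 β' (inv_fx hC β') hne)
  · intro β
    obtain ⟨χ, h1, h2, h3⟩ := hg.2 β (inv_fx hC β)
    refine ⟨χ, h1, hsq _ h2, fun χ' hχ' hr => ?_⟩
    by_contra hne
    exact hr (h3 χ' hχ' hne)
  · intro y hG hS hCy χ β hχ hr
    rw [mlt_irrMap]
    exact hr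

theorem mlt_comp_zmod (hp : p.Prime) {P K C₁ C : Subgroup Γ} (hP : IsPGroup p P)
    (hPK : P ≤ normalizer (K : Set Γ)) (hP1 : P ≤ normalizer (C₁ : Set Γ))
    (hPC : P ≤ normalizer (C : Set Γ)) (h1 : C₁ ≤ K) (h2 : C ≤ C₁)
    (χ : IrrCharacter K) (ξ : IrrCharacter C) (hχ : Inv (P : Set Γ) K χ)
    (hξ : Inv (P : Set Γ) C ξ) (η : IrrCharacter C₁) (hη : Inv (P : Set Γ) C₁ η)
    (h0 : ∀ η', Inv (P : Set Γ) C₁ η' → η' ≠ η → (mlt h1 χ η' : ZMod p) * mlt h2 η' ξ = 0) :
    (mlt (h2.trans h1) χ ξ : ZMod p) = (mlt h1 χ η : ZMod p) * mlt h2 η ξ := by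
  classical
  have := Fintype.ofFinite (IrrCharacter C₁)
  have hχ1 := (inv_iff hPK χ).mp hχ
  have hξ1 := (inv_iff hPC ξ).mp hξ
  rw [mlt_comp h1 h2]
  push_cast
  letI := irrAct P C₁ hP1
  rw [sum_fixed_zmod hp hP (fun η : IrrCharacter C₁ => (mlt h1 χ η : ZMod p) * mlt h2 η ξ) (by
    intro u a
    have e := mlt_conj hPK hP1 h1 u χ a
    rw [hχ1 u] at e
    have e' := mlt_conj hP1 hPC h2 u a ξ
    rw [hξ1 u] at e'
    show (mlt h1 χ ((irrAct P C₁ hP1).toSMul.smul u a) : ZMod p) *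
      (mlt h2 ((irrAct P C₁ hP1).toSMul.smul u a) ξ : ZMod p) = _
    rw [e, e'])]
  apply Finset.sum_eq_single
  · intro η' hη' hne
    exact h0 η' ((inv_iff hP1 η').mpr (Finset.mem_filter.mp hη').2) hne
  · intro hη'
    exact absurd (Finset.mem_filter.mpr ⟨Finset.mem_univ _, (inv_iff hP1 η).mp hη⟩) hη'

theorem compat_p (hp : p.Prime) {T G N C D : Subgroup Γ} (hT : IsPGroup p T)
    (hTG : T ≤ normalizer (G : Set Γ)) (hTN : T ≤ normalizer (N : Set Γ))
    (hpG : ¬ p ∣ Nat.card G) (hC : IsFx G T C) (hD : IsFx N T D) (hNG : N ≤ G)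
    (hGN : G ≤ normalizer (N : Set Γ)) (hDC : D ≤ C) (χ : IrrCharacter G) (β : IrrCharacter C)
    (θ : IrrCharacter N) (ν : IrrCharacter D) (hχ : Inv (T : Set Γ) G χ)
    (hβ : (mlt hC.le χ β : ZMod p) ≠ 0) (hθ : Inv (T : Set Γ) N θ)
    (hν : (mlt hD.le θ ν : ZMod p) ≠ 0) : mlt hNG χ θ ≠ 0 ↔ mlt hDC β ν ≠ 0 := by
  have hpF := Fact.mk hp
  have hg := good_coprime hp hT hTG hpG hC
  have hpN : ¬ p ∣ Nat.card N := fun h => hpG (h.trans (card_dvd_of_le hNG))
  have hpC : ¬ p ∣ Nat.card C := fun h => hpG (h.trans (card_dvd_of_le hC.le))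
  have hgN := good_coprime hp hT hTN hpN hD
  have hTC : T ≤ normalizer (C : Set Γ) := fun t ht => hC.norm (hTG ht) (le_normalizer ht)
  have hTD : T ≤ normalizer (D : Set Γ) := fun t ht => hD.norm (hTN ht) (le_normalizer ht)
  have e1 := mlt_comp_zmod hp hT hTG hTC hTD hC.le hDC χ ν hχ (inv_fx hD ν) β (inv_fx hC β) (by
    intro η' _ hne
    obtain ⟨ξ, _, _, h3⟩ := hg.1 χ hχ
    have hξ : β = ξ := by
      by_contra hcon
      exact hβ (h3 β (inv_fx hC β) hcon)
    subst hξ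
    rw [h3 η' (inv_fx hC η') hne, zero_mul])
  have e2 := mlt_comp_zmod hp hT hTG hTN hTD hNG hD.le χ ν hχ (inv_fx hD ν) θ hθ (by
    intro η' hη' hne
    obtain ⟨ξ, _, _, h3⟩ := hgN.2 ν (inv_fx hD ν)
    have hξ : θ = ξ := by
      by_contra hcon
      exact hν (h3 θ hθ hcon)
    subst hξ
    rw [h3 η' hη' hne, mul_zero])
  have e3 : (mlt hC.le χ β : ZMod p) * mlt hDC β ν = (mlt hNG χ θ : ZMod p) * mlt hD.le θ ν :=
    e1.symm.trans e2
  have hCD : C ≤ normalizer (D : Set Γ) := by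
    have key : ∀ c ∈ C, ∀ d ∈ D, c * d * c⁻¹ ∈ D := by
      intro c hc d hd
      rw [hD] at hd ⊢
      refine ⟨(mem_normalizer_iff.mp (hGN (hC.le hc)) d).mp hd.1, fun s hs => ?_⟩
      have h1 := ((hC c).mp hc).2 s hs
      have h2 := hd.2 s hs
      have h1' : s * c⁻¹ = c⁻¹ * s := (show Commute s c from h1).inv_right
      calc s * (c * d * c⁻¹) = (s * c) * d * c⁻¹ := by group
        _ = c * (s * d) * c⁻¹ := by rw [h1]; group
        _ = c * d * (s * c⁻¹) := by rw [h2]; group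
        _ = _ := by rw [h1']; group
    intro c hc
    rw [mem_normalizer_iff]
    intro d
    refine ⟨key c hc d, fun h => ?_⟩
    have := key c⁻¹ (inv_mem hc) _ h
    have e : c⁻¹ * (c * d * c⁻¹) * c⁻¹⁻¹ = d := by group
    rwa [e] at this
  constructor
  · intro h h0
    rw [h0, Nat.cast_zero, mul_zero] at e3
    rcases mul_eq_zero.mp e3.symm with h4 | h4
    · rw [ZMod.natCast_eq_zero_iff] at h4
      exact hpG (h4.trans (mlt_dvd hNG hGN χ θ h))
    · exact hν h4
  · intro h h0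
    rw [h0, Nat.cast_zero, zero_mul] at e3
    rcases mul_eq_zero.mp e3 with h4 | h4
    · exact hβ h4
    · rw [ZMod.natCast_eq_zero_iff] at h4
      exact hpC (h4.trans (mlt_dvd hDC hCD β ν h))

/-- one step of the chain in a solvable group -/
theorem exists_step {S : Subgroup Γ} (hs : Group.IsSolvable S) (h1 : S ≠ ⊥) :
    ∃ (q : ℕ) (_ : q.Prime) (S₁ T : Subgroup Γ), S₁ ≤ S ∧ T ≤ S ∧ IsPGroup q T ∧
      q ∣ Nat.card S ∧ S₁ ⊔ T = S ∧ Nat.card S₁ < Nat.card S ∧
      normalizer (S : Set Γ) ≤ normalizer (S₁ : Set Γ) := by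
  have hnt : Nontrivial S := (Subgroup.nontrivial_iff_ne_bot S).mpr h1
  obtain ⟨M, hMn, hM, _⟩ := Cfsg.Agent.H1.exists_normal_prime_index hs
  have hq := Cfsg.Agent.H1.index_prime_of_normal_coatom hM
  have hqF := Fact.mk hq
  refine ⟨M.index, hq, (pResidual M.index S).map S.subtype,
    ((default : Sylow M.index S) : Subgroup S).map S.subtype, map_subtype_le _, map_subtype_le _,
    (default : Sylow M.index S).isPGroup'.map _, ?_, ?_, ?_,
    Cfsg.Agent.H18.normalizer_le_normalizer_pRes S⟩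
  · exact Subgroup.index_dvd_card M
  · rw [sup_comm]
    exact Cfsg.Agent.H18.sylow_map_sup_pRes _
  · have hle : pResidual M.index S ≤ M := by
      apply Cfsg.Agent.H18.pResidual_le_of_quotient
      apply IsPGroup.of_card (n := 1)
      rw [pow_one]; rfl
    rw [Subgroup.card_map_of_injective S.subtype_injective]
    have hlt : pResidual M.index S < ⊤ := lt_of_le_of_lt hle (lt_top_iff_ne_top.mpr hM.1)
    calc Nat.card (pResidual M.index S) < Nat.card (⊤ : Subgroup S) := by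
          refine lt_of_le_of_ne (Subgroup.card_le_of_le hlt.le) (fun he => hlt.ne ?_)
          exact Subgroup.eq_of_le_of_card_ge hlt.le he.ge
      _ = Nat.card S := Subgroup.card_top

end Cfsg.Agent.H27
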