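import Cfsg.Agent.H27.GlSol

set_option autoImplicit false

/-! # Glauberman correspondence for solvable groups of operators: the induction -/

universe u

namespace Cfsg.Agent.H27

open Subgroup Cfsg Cfsg.Agent.H3 Cfsg.Agent.H11
open Cfsg.Agent.H26 (irrMap irrMap_apply irrMap_symm_apply irrMap_apply' normConj normConj_coe)
open scoped ComplexConjugate

variable {Γ : Type u} [Group Γ]

theorem fx_norm {G S N C D : Subgroup Γ} (hC : IsFx G S C) (hD : IsFx N S D)
    (hGN : G ≤ normalizer (N : Set Γ)) : C ≤ normalizer (D : Set Γ) := by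
  have key : ∀ c ∈ C, ∀ d ∈ D, c * d * c⁻¹ ∈ D := by
    intro c hc d hd
    rw [hD] at hd ⊢
    refine ⟨(mem_normalizer_iff.mp (hGN (hC.le hc)) d).mp hd.1, fun s hs => ?_⟩
    have h1 := ((hC c).mp hc).2 s hs
    have h2 := hd.2 s hs
    have h1' : s * c⁻¹ = c⁻¹ * s := (show Commute s c from h1).inv_right
    calc s * (c * d * c⁻¹) = (s * c) * d * c⁻¹ := by group
      _ = c * (s * d) * c⁻¹ := by rw [h1]; group
      _ = c * d * (s * c⁻¹) := by rw [h2]; group
      _ = _ := by rw [h1']; group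
  intro c hc
  rw [mem_normalizer_iff]
  intro d
  refine ⟨key c hc d, fun h => ?_⟩
  have := key c⁻¹ (inv_mem hc) _ h
  have e : c⁻¹ * (c * d * c⁻¹) * c⁻¹⁻¹ = d := by group
  rwa [e] at this

theorem irrMap_one {G : Subgroup Γ} (h : (1 : Γ) ∈ normalizer (G : Set Γ)) (χ : IrrCharacter G) :
    irrMap (normConj G h) χ = χ := by
  apply Subtype.ext
  funext c
  rw [irrMap_apply]
  refine congrArg (χ : G → ℂ) (Subtype.ext ?_)
  show (1 : Γ)⁻¹ * c * 1 = c
  group

theorem irrMap_mul {G : Subgroup Γ} {a b : Γ} (ha : a ∈ normalizer (G : Set Γ))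
    (hb : b ∈ normalizer (G : Set Γ)) (hab : a * b ∈ normalizer (G : Set Γ))
    (χ : IrrCharacter G) :
    irrMap (normConj G hab) χ = irrMap (normConj G ha) (irrMap (normConj G hb) χ) := by
  apply Subtype.ext
  funext c
  rw [irrMap_apply, irrMap_apply, irrMap_apply]
  refine congrArg (χ : G → ℂ) (Subtype.ext ?_)
  show (a * b)⁻¹ * c * (a * b) = b⁻¹ * (a⁻¹ * c * a) * b
  group

/-- the stabilizer of a character in the normalizer -/
def stabG (G : Subgroup Γ) (χ : IrrCharacter G) : Subgroup Γ where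
  carrier := {y | ∃ h : y ∈ normalizer (G : Set Γ), irrMap (normConj G h) χ = χ}
  one_mem' := ⟨one_mem _, irrMap_one _ χ⟩
  mul_mem' := by
    rintro a b ⟨ha, ha'⟩ ⟨hb, hb'⟩
    exact ⟨mul_mem ha hb, by rw [irrMap_mul ha hb, hb', ha']⟩
  inv_mem' := by
    rintro a ⟨ha, ha'⟩
    refine ⟨inv_mem ha, ?_⟩
    have h1 := irrMap_mul (inv_mem ha) ha (mul_mem (inv_mem ha) ha) χ
    rw [ha'] at h1
    rw [← h1]
    have e : ∀ (y : Γ) (hy : y ∈ normalizer (G : Set Γ)), y = 1 → irrMap (normConj G hy) χ = χ := by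
      rintro y hy rfl
      exact irrMap_one _ χ
    exact e _ _ (inv_mul_cancel a)

theorem inv_iff_stab {P G : Subgroup Γ} (hP : P ≤ normalizer (G : Set Γ)) (χ : IrrCharacter G) :
    Inv (P : Set Γ) G χ ↔ P ≤ stabG G χ := by
  rw [inv_iff_irrMap hP]
  constructor
  · intro h y hy
    exact ⟨hP hy, h y hy⟩
  · intro h y hy
    exact (h hy).2

theorem inv_sup {P Q G : Subgroup Γ} (hP : P ≤ normalizer (G : Set Γ))
    (hQ : Q ≤ normalizer (G : Set Γ)) {χ : IrrCharacter G} (h1 : Inv (P : Set Γ) G χ)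
    (h2 : Inv (Q : Set Γ) G χ) : Inv ((P ⊔ Q : Subgroup Γ) : Set Γ) G χ := by
  rw [inv_iff_stab (sup_le hP hQ), sup_le_iff]
  exact ⟨(inv_iff_stab hP χ).mp h1, (inv_iff_stab hQ χ).mp h2⟩

variable [Finite Γ]

theorem corr_solv (n : ℕ) : ∀ (S : Subgroup Γ), Nat.card S ≤ n → Group.IsSolvable S →
    ∀ (G N C D : Subgroup Γ), S ≤ normalizer (G : Set Γ) → S ≤ normalizer (N : Set Γ) →
    ∀ (hNG : N ≤ G), G ≤ normalizer (N : Set Γ) → (Nat.card G).Coprime (Nat.card S) →
    IsFx G S C → IsFx N S D → ∀ (hDC : D ≤ C),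
    ∃ (R : IrrCharacter G → IrrCharacter C → Prop) (R' : IrrCharacter N → IrrCharacter D → Prop),
      Corr S G C R ∧ Corr S N D R' ∧ ∀ χ β θ ν, Inv (S : Set Γ) G χ → R χ β →
        Inv (S : Set Γ) N θ → R' θ ν → (mlt hNG χ θ ≠ 0 ↔ mlt hDC β ν ≠ 0) := by
  induction n with
  | zero =>
    intro S hn
    have : 0 < Nat.card S := Nat.card_pos
    omega
  | succ n ih =>
    intro S hn hsol G N C D hSG hSN hNG hGN hcop hC hD hDC
    by_cases hS1 : S = ⊥
    · subst hS1
      have hCG : C = G := by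
        apply le_antisymm hC.le
        intro g hg
        rw [hC]
        refine ⟨hg, fun s hs => ?_⟩
        rw [mem_bot] at hs
        subst hs
        simp
      have hDN : D = N := by
        apply le_antisymm hD.le
        intro g hg
        rw [hD]
        refine ⟨hg, fun s hs => ?_⟩
        rw [mem_bot] at hs
        subst hs
        simp
      subst hCG hDN
      have hEq : ∀ H : Subgroup Γ, Corr (⊥ : Subgroup Γ) H H (fun a b => a = b) := by
        intro H
        refine ⟨?_, ?_, ?_⟩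
        · intro χ _
          exact ⟨χ, rfl, fun β' h => h.symm⟩
        · intro β
          refine ⟨β, ?_, rfl, fun χ' _ h => h⟩
          intro s hs k k' hk
          rw [SetLike.mem_coe, mem_bot] at hs
          subst hs
          have : k' = k := Subtype.ext (by rw [hk]; group)
          rw [this]
        · rintro y hG hS hC' χ _ _ rfl
          rfl
      refine ⟨_, _, hEq _, hEq _, ?_⟩
      rintro χ _ θ _ _ rfl _ rfl
      exact Iff.rfl
    · obtain ⟨q, hq, S₁, T, hS₁, hTS, hT, hqS, hsup, hlt, hnorm⟩ := exists_step hsol hS1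
      have hS₁G : S₁ ≤ normalizer (G : Set Γ) := hS₁.trans hSG
      have hS₁N : S₁ ≤ normalizer (N : Set Γ) := hS₁.trans hSN
      have hSS₁ : S ≤ normalizer (S₁ : Set Γ) := le_normalizer.trans hnorm
      set C₁ := G ⊓ centralizer (S₁ : Set Γ) with hC₁d
      set D₁ := N ⊓ centralizer (S₁ : Set Γ) with hD₁d
      have hC₁ : IsFx G S₁ C₁ := isFx_inf G S₁
      have hD₁ : IsFx N S₁ D₁ := isFx_inf N S₁
      have hDC₁ : D₁ ≤ C₁ := inf_le_inf_right _ hNG
      have hCD₁ : C₁ ≤ normalizer (D₁ : Set Γ) := fx_norm hC₁ hD₁ hGN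
      obtain ⟨R₁, R₁', c1, c1', k1⟩ := ih S₁ (by omega)
        (Cfsg.Agent.H1.isSolvable_of_le hS₁ hsol) G N C₁ D₁ hS₁G hS₁N hNG hGN
        (Nat.Coprime.coprime_dvd_right (card_dvd_of_le hS₁) hcop) hC₁ hD₁ hDC₁
      have hSC₁ : S ≤ normalizer (C₁ : Set Γ) := fun s hs => hC₁.norm (hSG hs) (hSS₁ hs)
      have hSD₁ : S ≤ normalizer (D₁ : Set Γ) := fun s hs => hD₁.norm (hSN hs) (hSS₁ hs)
      have hfx : ∀ (H H₁ K : Subgroup Γ), IsFx H S₁ H₁ → IsFx H S K → IsFx H₁ T K := by
        intro H H₁ K h1 h2 x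
        rw [h2, h1, and_assoc]
        apply and_congr_right
        intro _
        constructor
        · intro h
          exact ⟨fun s hs => h s (hS₁ hs), fun s hs => h s (hTS hs)⟩
        · rintro ⟨ha, hb⟩
          have h3 : S₁ ⊔ T ≤ centralizer ({x} : Set Γ) := by
            rw [sup_le_iff]
            constructor
            · intro s hs
              rw [mem_centralizer_singleton_iff]
              exact ha s hs
            · intro s hs
              rw [mem_centralizer_singleton_iff]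
              exact hb s hs
          intro s hs
          rw [← hsup] at hs
          have := h3 hs
          rw [mem_centralizer_singleton_iff] at this
          exact this
      have hC₂ : IsFx C₁ T C := hfx _ _ _ hC₁ hC
      have hD₂ : IsFx D₁ T D := hfx _ _ _ hD₁ hD
      have hqG : ¬ q ∣ Nat.card G := fun h =>
        hq.one_lt.ne' (Nat.eq_one_of_dvd_coprimes hcop h hqS)
      have hqN : ¬ q ∣ Nat.card N := fun h => hqG (h.trans (card_dvd_of_le hNG))
      have hqC₁ : ¬ q ∣ Nat.card C₁ := fun h => hqG (h.trans (card_dvd_of_le hC₁.le))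
      have hqD₁ : ¬ q ∣ Nat.card D₁ := fun h => hqN (h.trans (card_dvd_of_le hD₁.le))
      have c2 := corr_p hq hT (hTS.trans hSC₁) hqC₁ hC₂
      have c2' := corr_p hq hT (hTS.trans hSD₁) hqD₁ hD₂
      -- general composition
      have comp : ∀ (H H₁ K : Subgroup Γ) (A : IrrCharacter H → IrrCharacter H₁ → Prop)
          (B : IrrCharacter H₁ → IrrCharacter K → Prop), S ≤ normalizer (H : Set Γ) →
          IsFx H S₁ H₁ → S ≤ normalizer (H₁ : Set Γ) → Corr S₁ H H₁ A → Corr T H₁ K B →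
          (∀ (y : Γ) (h1 : y ∈ normalizer (H₁ : Set Γ)) (h2 : y ∈ normalizer (K : Set Γ)) η β,
            B η β → B (irrMap (normConj H₁ h1) η) (irrMap (normConj K h2) β)) →
          Corr S H K (fun χ β => ∃ η, Inv (S : Set Γ) H₁ η ∧ A χ η ∧ B η β) := by
        intro H H₁ K A B hSH hH₁ hSH₁ cA cB hB
        have hSinv : ∀ η : IrrCharacter H₁, Inv (T : Set Γ) H₁ η → Inv (S : Set Γ) H₁ η := by
          intro η hη
          have := inv_sup (hS₁.trans hSH₁) (hTS.trans hSH₁) (inv_fx hH₁ η) hη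
          rwa [hsup] at this
        refine ⟨?_, ?_, ?_⟩
        · intro χ hχ
          obtain ⟨η, h1, h2⟩ := cA.fwd χ (hχ.mono hS₁)
          have hη : Inv (S : Set Γ) H₁ η := by
            rw [inv_iff_irrMap hSH₁]
            intro y hy
            apply h2
            have h3 := cA.equi y (hSH hy) (hSS₁ hy) (hSH₁ hy) χ η (hχ.mono hS₁) h1
            rwa [(inv_iff_irrMap hSH χ).mp hχ y hy] at h3
          obtain ⟨β, h3, h4⟩ := cB.fwd η (hη.mono hTS)
          refine ⟨β, ⟨η, hη, h1, h3⟩, ?_⟩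
          rintro β' ⟨η', _, h5, h6⟩
          rw [h2 η' h5] at h6
          exact h4 β' h6
        · intro β
          obtain ⟨η, h1, h2, h3⟩ := cB.bwd β
          have hη := hSinv η h1
          obtain ⟨χ, h4, h5, h6⟩ := cA.bwd η
          have hχ : Inv (S : Set Γ) H χ := by
            rw [inv_iff_irrMap hSH]
            intro y hy
            apply h6 _ (inv_conj (hSH hy) (hSS₁ hy) h4)
            have h7 := cA.equi y (hSH hy) (hSS₁ hy) (hSH₁ hy) χ η h4 h5
            rwa [(inv_iff_irrMap hSH₁ η).mp hη y hy] at h7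
          refine ⟨χ, hχ, ⟨η, hη, h5, h2⟩, ?_⟩
          rintro χ' hχ' ⟨η', h7, h8, h9⟩
          have h10 := h3 η' (h7.mono hTS) h9
          subst h10
          exact h6 χ' (hχ'.mono hS₁) h8
        · rintro y hG hS hC' χ β hχ ⟨η, h1, h2, h3⟩
          have hyS₁ : y ∈ normalizer (S₁ : Set Γ) := hnorm hS
          have hy1 : y ∈ normalizer (H₁ : Set Γ) := hH₁.norm hG hyS₁
          exact ⟨irrMap (normConj H₁ hy1) η, inv_conj hy1 hS h1,
            cA.equi y hG hyS₁ hy1 χ η (hχ.mono hS₁) h2, hB y hy1 hC' η β h3⟩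
      refine ⟨_, _, comp G C₁ C R₁ _ hSG hC₁ hSC₁ c1 c2 (fun y h1 h2 η β h => by
        rw [mlt_irrMap]; exact h), comp N D₁ D R₁' _ hSN hD₁ hSD₁ c1' c2' (fun y h1 h2 η β h => by
        rw [mlt_irrMap]; exact h), ?_⟩
      rintro χ β θ ν hχ ⟨η, a1, a2, a3⟩ hθ ⟨ζ, b1, b2, b3⟩
      rw [k1 χ η θ ζ (hχ.mono hS₁) a2 (hθ.mono hS₁) b2]
      exact compat_p hq hT (hTS.trans hSC₁) (hTS.trans hSD₁) hqC₁ hC₂ hD₂ hDC₁ hCD₁ hDC η β ζ ν
        (a1.mono hTS) a3 (b1.mono hTS) b3

/-- The number of invariant irreducible characters. -/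
theorem card_inv_eq {S G C : Subgroup Γ} (hsol : Group.IsSolvable S)
    (hSG : S ≤ normalizer (G : Set Γ)) (hcop : (Nat.card G).Coprime (Nat.card S))
    (hC : IsFx G S C) :
    Nat.card {χ : IrrCharacter G // Inv (S : Set Γ) G χ} = Nat.card (IrrCharacter C) := by
  obtain ⟨R, _, h, _, _⟩ := corr_solv (Nat.card S) S le_rfl hsol G G C C hSG hSG le_rfl le_normalizer
    hcop hC hC le_rfl
  choose f hf hf' using h.fwd
  refine Nat.card_congr (Equiv.ofBijective (fun χ => f χ.1 χ.2) ⟨?_, ?_⟩)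
  · intro χ χ' he
    obtain ⟨ψ, h1, h2, h3⟩ := h.bwd (f χ.1 χ.2)
    apply Subtype.ext
    rw [h3 χ.1 χ.2 (hf _ _), h3 χ'.1 χ'.2 (by
      have he' : f χ.1 χ.2 = f χ'.1 χ'.2 := he
      rw [he']; exact hf _ _)]
  · intro β
    obtain ⟨ψ, h1, h2, h3⟩ := h.bwd β
    exact ⟨⟨ψ, h1⟩, (hf' ψ h1 β h2).symm⟩

end Cfsg.Agent.H27
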