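import Cfsg.Agent.H27.GlSol2
import Cfsg.Agent.H16.CharHom

set_option autoImplicit false

/-! # Invariant characters over invariant characters -/

universe u

namespace Cfsg.Agent.H27

open Subgroup Cfsg Cfsg.Agent.H3 Cfsg.Agent.H11
open scoped ComplexConjugate

variable {Γ : Type u} [Group Γ] [Finite Γ]

theorem mlt_ne_zero_iff {C D : Subgroup Γ} [Fintype D] (h : D ≤ C) (β : IrrCharacter C)
    (ν : IrrCharacter D) :
    mlt h β ν ≠ 0 ↔ classInner (fun d : D => (β : C → ℂ) ⟨d, h d.2⟩) (ν : D → ℂ) ≠ 0 := by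
  have h1 := mlt_eq_classInner h β ν
  have h2 : classInner (fun d : D => (β : C → ℂ) ⟨d, h d.2⟩) (ν : D → ℂ) = (mlt h β ν : ℂ) :=
    h1.symm
  rw [h2, Ne, Ne, Nat.cast_eq_zero]

theorem exists_over_mlt {C D : Subgroup Γ} (h : D ≤ C) (ν : IrrCharacter D) :
    ∃ β : IrrCharacter C, mlt h β ν ≠ 0 := by
  have := Fintype.ofFinite D
  have := Fintype.ofFinite C
  obtain ⟨β, hβ, hne⟩ := Cfsg.Agent.H16.exists_over (f := inclusion h) (inclusion_injective h) ν.2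
  exact ⟨⟨β, hβ⟩, (mlt_ne_zero_iff h _ _).mpr hne⟩

/-- An invariant character over an invariant character, `S` solvable. -/
theorem exists_inv_over {S G N : Subgroup Γ} (hsol : Group.IsSolvable S)
    (hSG : S ≤ normalizer (G : Set Γ)) (hSN : S ≤ normalizer (N : Set Γ)) (hNG : N ≤ G)
    (hGN : G ≤ normalizer (N : Set Γ)) (hcop : (Nat.card G).Coprime (Nat.card S))
    (θ : IrrCharacter N) (hθ : Inv (S : Set Γ) N θ) :
    ∃ χ : IrrCharacter G, Inv (S : Set Γ) G χ ∧ mlt hNG χ θ ≠ 0 := by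
  have hDC : N ⊓ centralizer (S : Set Γ) ≤ G ⊓ centralizer (S : Set Γ) := inf_le_inf_right _ hNG
  obtain ⟨R, R', h, h', hc⟩ := corr_solv (Nat.card S) S le_rfl hsol G N _ _ hSG hSN hNG hGN
    hcop (isFx_inf G S) (isFx_inf N S) hDC
  obtain ⟨ν, hν, _⟩ := h'.fwd θ hθ
  obtain ⟨β, hβ⟩ := exists_over_mlt hDC ν
  obtain ⟨χ, h1, h2, _⟩ := h.bwd β
  exact ⟨χ, h1, (hc χ β θ ν h1 h2 hθ hν).mpr hβ⟩

end Cfsg.Agent.H27
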