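import Cfsg.Agent.H27.GlCyc2

set_option autoImplicit false

/-! # Relative Glauberman correspondence: transport, p-group actions, composition -/

universe u

namespace Cfsg.Agent.H27

open Subgroup Cfsg Cfsg.Agent.H3 Cfsg.Agent.H11
open Cfsg.Agent.H26 (irrMap irrMap_apply irrMap_symm_apply irrMap_apply' normConj normConj_coe)
open scoped ComplexConjugate

section ZModSum

variable {A α : Type*} [Group A] [Finite A] [Fintype α] [MulAction A α] {p : ℕ}

/-- A sum over an action of a `p`-group is congruent to the sum over the fixed points. -/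
theorem sum_fixed_zmod (hp : p.Prime) (hA : IsPGroup p A) (f : α → ZMod p)
    (hinv : ∀ (u : A) (a : α), f (u • a) = f a) [DecidablePred fun a : α => ∀ u : A, u • a = a] :
    ∑ a, f a = ∑ a with (∀ u : A, u • a = a), f a := by
  classical
  have := Fact.mk hp
  have := Fintype.ofFinite (MulAction.orbitRel.Quotient A α)
  have hg : ∀ g : α → ZMod p, (∀ (u : A) (a : α), g (u • a) = g a) →
      (∀ a : α, (∀ u : A, u • a = a) → g a = 0) → ∑ a, g a = 0 := by
    intro g hginv hfix
    rw [← Finset.sum_fiberwise (s := Finset.univ)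
      (g := fun a : α => (Quotient.mk (MulAction.orbitRel A α) a : MulAction.orbitRel.Quotient A α))]
    apply Finset.sum_eq_zero
    intro q _
    obtain ⟨a, rfl⟩ := Quotient.exists_rep q
    set s := Finset.univ.filter (fun b : α => (Quotient.mk (MulAction.orbitRel A α) b
      : MulAction.orbitRel.Quotient A α) = Quotient.mk (MulAction.orbitRel A α) a) with hs
    have hmem : ∀ b, b ∈ s ↔ b ∈ MulAction.orbit A a := by
      intro b
      rw [hs, Finset.mem_filter]
      constructor
      · rintro ⟨_, h⟩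
        exact MulAction.orbitRel_apply.mp (Quotient.exact h)
      · intro h
        exact ⟨Finset.mem_univ _, Quotient.sound (MulAction.orbitRel_apply.mpr h)⟩
    have hcard : s.card = Nat.card (MulAction.orbit A a) := by
      rw [Nat.card_eq_card_toFinset (MulAction.orbit A a)]
      congr 1
      ext b
      rw [hmem, Set.mem_toFinset]
    have h1 : ∑ b ∈ s, g b = (s.card : ZMod p) * g a := by
      rw [← nsmul_eq_mul, ← Finset.sum_const]
      apply Finset.sum_congr rfl
      intro b hb
      obtain ⟨u, rfl⟩ := (hmem b).mp hb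
      exact hginv u a
    rw [h1]
    obtain ⟨n, hn⟩ := hA.card_orbit a
    rcases Nat.eq_zero_or_pos n with h0 | h0
    · rw [h0, pow_zero] at hn
      rw [hfix a, mul_zero]
      intro u
      have hfin : (MulAction.orbit A a).ncard = 1 := hn
      obtain ⟨b, hb⟩ := Set.ncard_eq_one.mp hfin
      have h2 : a ∈ MulAction.orbit A a := MulAction.mem_orbit_self a
      have h3 : u • a ∈ MulAction.orbit A a := MulAction.mem_orbit a u
      rw [hb, Set.mem_singleton_iff] at h2 h3
      rw [h3, ← h2]
    · rw [hcard, hn, (ZMod.natCast_eq_zero_iff _ _).mpr (dvd_pow_self p h0.ne'), zero_mul]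
  have h0 := hg (fun a => f a - if (∀ u : A, u • a = a) then f a else 0) ?_ ?_
  · rw [Finset.sum_sub_distrib, sub_eq_zero] at h0
    rw [h0, Finset.sum_filter]
  · intro u a
    rw [hinv]
    congr 1
    have hiff : (∀ v : A, v • u • a = u • a) ↔ (∀ v : A, v • a = a) := by
      constructor
      · intro h v
        have h1 := h (u * v * u⁻¹)
        rw [smul_smul, inv_mul_cancel_right, mul_smul] at h1
        exact smul_left_cancel u h1
      · intro h v
        rw [h u, h v]
    by_cases hh : ∀ v : A, v • a = a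
    · rw [if_pos hh, if_pos (hiff.mpr hh)]
    · rw [if_neg hh, if_neg (fun h => hh (hiff.mp h))]
  · intro a ha
    rw [if_pos ha, sub_self]

end ZModSum

variable {G : Type u} [Group G] [Finite G] {p : ℕ}

section Transport

variable {K C L : Subgroup G}

theorem mlt_transport (hKL : K ≤ L) (h : C ≤ K) (h' : C.subgroupOf L ≤ K.subgroupOf L)
    (χ : IrrCharacter (K.subgroupOf L)) (ξ : IrrCharacter (C.subgroupOf L)) :
    mlt h (irrMap (subgroupOfEquivOfLe hKL) χ) (irrMap (subgroupOfEquivOfLe (h.trans hKL)) ξ) =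
      mlt h' χ ξ := by
  have h1 : ((mlt h (irrMap (subgroupOfEquivOfLe hKL) χ)
      (irrMap (subgroupOfEquivOfLe (h.trans hKL)) ξ) : ℕ) : ℂ) = (mlt h' χ ξ : ℕ) := by
    rw [mlt_spec, mlt_spec, Nat.card_congr (subgroupOfEquivOfLe (h.trans hKL)).toEquiv]
    congr 1
    symm
    refine finsum_eq_of_bijective _ (subgroupOfEquivOfLe (h.trans hKL)).bijective (fun n => ?_)
    rw [irrMap_apply']
    rfl
  exact_mod_cast h1

theorem inv_transport (hKL : K ≤ L) (y : L) (χ : IrrCharacter (K.subgroupOf L)) :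
    Inv {(y : G)} K (irrMap (subgroupOfEquivOfLe hKL) χ) ↔ Inv {y} (K.subgroupOf L) χ := by
  constructor
  · intro h x hx k k' hk
    rw [Set.mem_singleton_iff] at hx
    subst hx
    have := h x rfl (subgroupOfEquivOfLe hKL k) (subgroupOfEquivOfLe hKL k')
      (congrArg Subtype.val hk)
    rwa [irrMap_apply', irrMap_apply'] at this
  · intro h x hx k k' hk
    rw [Set.mem_singleton_iff] at hx
    subst hx
    rw [irrMap_apply, irrMap_apply]
    apply h y rfl
    exact Subtype.ext hk

theorem good_transport (hKL : K ≤ L) (h : C ≤ K) (h' : C.subgroupOf L ≤ K.subgroupOf L) (y : L)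
    (hg : Good p {y} (K.subgroupOf L) (C.subgroupOf L) h') : Good p {(y : G)} K C h := by
  constructor
  · intro χ hχ
    obtain ⟨χ', rfl⟩ := (irrMap (subgroupOfEquivOfLe hKL)).surjective χ
    rw [inv_transport] at hχ
    obtain ⟨ξ, h1, h2, h3⟩ := hg.1 χ' hχ
    refine ⟨irrMap (subgroupOfEquivOfLe (h.trans hKL)) ξ, ?_, ?_, ?_⟩
    · rw [inv_transport]; exact h1
    · rw [mlt_transport hKL h h']; exact h2
    · intro η hη hne
      obtain ⟨η', rfl⟩ := (irrMap (subgroupOfEquivOfLe (h.trans hKL))).surjective η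
      rw [inv_transport] at hη
      rw [mlt_transport hKL h h']
      exact h3 η' hη (fun he => hne (by rw [he]))
  · intro ξ hξ
    obtain ⟨ξ', rfl⟩ := (irrMap (subgroupOfEquivOfLe (h.trans hKL))).surjective ξ
    rw [inv_transport] at hξ
    obtain ⟨χ, h1, h2, h3⟩ := hg.2 ξ' hξ
    refine ⟨irrMap (subgroupOfEquivOfLe hKL) χ, ?_, ?_, ?_⟩
    · rw [inv_transport]; exact h1
    · rw [mlt_transport hKL h h']; exact h2
    · intro η hη hne
      obtain ⟨η', rfl⟩ := (irrMap (subgroupOfEquivOfLe hKL)).surjective η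
      rw [inv_transport] at hη
      rw [mlt_transport hKL h h']
      exact h3 η' hη (fun he => hne (by rw [he]))

end Transport

/-- the cyclic case in a general group -/
theorem good_of_elt (hp : p.Prime) {K Q C : Subgroup G} {x : G}
    (hxK : x ∈ normalizer (K : Set G)) (hxQ : x ∈ normalizer (Q : Set G))
    (hKQ : K ≤ normalizer (Q : Set G)) (hQK : Q ≤ K) (hreg : ¬ p ∣ Q.relIndex K)
    (hx : ∃ k : ℕ, orderOf x = p ^ k) (hCK : C ≤ K)
    (hC : ∀ k, k ∈ C ↔ k ∈ K ∧ x * k * x⁻¹ * k⁻¹ ∈ Q) : Good p {x} K C hCK := by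
  classical
  set L := K ⊔ zpowers x with hL
  have hKL : K ≤ L := le_sup_left
  have hxL : x ∈ L := mem_sup_right (mem_zpowers x)
  have := Fintype.ofFinite L
  have h' : C.subgroupOf L ≤ K.subgroupOf L := fun c hc => hCK hc
  have hc : CycH p (K.subgroupOf L) (Q.subgroupOf L) (C.subgroupOf L) ⟨x, hxL⟩ := by
    refine ⟨hp, ?_, ?_, ?_, ?_, ?_, ?_, ?_⟩
    · rw [Subgroup.normal_subgroupOf_iff_le_normalizer hKL, hL, sup_le_iff, zpowers_le]
      exact ⟨le_normalizer, hxK⟩
    · rw [Subgroup.normal_subgroupOf_iff_le_normalizer (hQK.trans hKL), hL, sup_le_iff, zpowers_le]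
      exact ⟨hKQ, hxQ⟩
    · exact fun q hq => hQK hq
    · rw [relIndex_subgroupOf hKL]; exact hreg
    · obtain ⟨k, hk⟩ := hx
      exact ⟨k, by rw [Subgroup.orderOf_mk, hk]⟩
    · exact CycH.D_gen K x
    · intro k
      rw [mem_subgroupOf, hC, mem_subgroupOf, mem_subgroupOf]
      rfl
  exact good_transport hKL hCK h' ⟨x, hxL⟩ hc.good

end Cfsg.Agent.H27
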