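import Cfsg.Agent.H27.GlUp

set_option autoImplicit false

/-! # Relative Glauberman correspondence: raising the group, composition, the theorem -/

universe u

namespace Cfsg.Agent.H27

open Subgroup Cfsg Cfsg.Agent.H3 Cfsg.Agent.H11
open Cfsg.Agent.H26 (irrMap irrMap_apply irrMap_symm_apply irrMap_apply' normConj normConj_coe)
open scoped ComplexConjugate

variable {G : Type u} [Group G] [Finite G] {p : ℕ}

/-- conjugation action on irreducible characters -/
@[reducible] noncomputable def irrAct (P C : Subgroup G) (hPC : P ≤ normalizer (C : Set G)) :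
    MulAction P (IrrCharacter C) where
  smul y ξ := irrMap (normConj C (hPC y.2)) ξ
  one_smul ξ := by
    apply Subtype.ext
    funext c
    show (irrMap (normConj C (hPC (1 : P).2)) ξ : C → ℂ) c = _
    rw [irrMap_apply]
    refine congrArg (ξ : C → ℂ) (Subtype.ext ?_)
    show (1 : G)⁻¹ * c * 1 = c
    group
  mul_smul y z ξ := by
    apply Subtype.ext
    funext c
    show (irrMap (normConj C (hPC (y * z : P).2)) ξ : C → ℂ) c =
      (irrMap (normConj C (hPC y.2)) (irrMap (normConj C (hPC z.2)) ξ) : C → ℂ) c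
    rw [irrMap_apply, irrMap_apply, irrMap_apply]
    refine congrArg (ξ : C → ℂ) (Subtype.ext ?_)
    show ((y : G) * z)⁻¹ * c * (y * z) = (z : G)⁻¹ * ((y : G)⁻¹ * c * y) * z
    group

theorem irrAct_apply {P C : Subgroup G} (hPC : P ≤ normalizer (C : Set G)) (y : P)
    (ξ : IrrCharacter C) (c c' : C) (hc : (c : G) = y * c' * (y : G)⁻¹) :
    (((irrAct P C hPC).toSMul.smul y ξ : IrrCharacter C) : C → ℂ) c = (ξ : C → ℂ) c' := by
  show (irrMap (normConj C (hPC y.2)) ξ : C → ℂ) c = _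
  rw [irrMap_apply]
  refine congrArg (ξ : C → ℂ) (Subtype.ext ?_)
  show (y : G)⁻¹ * c * y = c'
  rw [hc]; group

theorem inv_iff {P C : Subgroup G} (hPC : P ≤ normalizer (C : Set G)) (ξ : IrrCharacter C) :
    Inv (P : Set G) C ξ ↔ ∀ y : P, (irrAct P C hPC).toSMul.smul y ξ = ξ := by
  constructor
  · intro h y
    apply Subtype.ext
    funext c
    obtain ⟨c', rfl⟩ := (normConj C (hPC y.2)).surjective c
    rw [irrAct_apply hPC y ξ _ c' rfl]
    exact (h y y.2 c' _ rfl).symm
  · intro h y hy k k' hk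
    have := h ⟨y, hy⟩
    rw [← irrAct_apply hPC ⟨y, hy⟩ ξ k' k hk, this]

theorem mlt_conj {P K C : Subgroup G} (hPK : P ≤ normalizer (K : Set G))
    (hPC : P ≤ normalizer (C : Set G)) (h : C ≤ K) (y : P) (χ : IrrCharacter K)
    (ξ : IrrCharacter C) : mlt h ((irrAct P K hPK).toSMul.smul y χ)
      ((irrAct P C hPC).toSMul.smul y ξ) = mlt h χ ξ := by
  have h1 : ((mlt h ((irrAct P K hPK).toSMul.smul y χ)
      ((irrAct P C hPC).toSMul.smul y ξ) : ℕ) : ℂ) = (mlt h χ ξ : ℕ) := by
    rw [mlt_spec, mlt_spec]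
    congr 1
    symm
    refine finsum_eq_of_bijective _ (normConj C (hPC y.2)).bijective (fun n => ?_)
    rw [irrAct_apply hPC y ξ _ n rfl, irrAct_apply hPK y χ _ (inclusion h n) rfl]
  exact_mod_cast h1

theorem Inv.mono {P Q : Set G} {K : Subgroup G} {χ : IrrCharacter K} (h : Inv P K χ) (hQ : Q ⊆ P) :
    Inv Q K χ := fun x hx => h x (hQ hx)

/-- raising the acting group -/
theorem Good.up (hp : p.Prime) {P₁ P K C : Subgroup G} (hP : IsPGroup p P) (h1 : P₁ ≤ P)
    (hPK : P ≤ normalizer (K : Set G)) (hPC : P ≤ normalizer (C : Set G)) {h : C ≤ K}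
    (hg : Good p (P₁ : Set G) K C h) : Good p (P : Set G) K C h := by
  classical
  have hP1 : IsPGroup p P₁ := hP.to_le h1
  constructor
  · intro χ hχ
    obtain ⟨ξ, h2, h3, h4⟩ := hg.1 χ (hχ.mono h1)
    refine ⟨ξ, ?_, h3, fun η hη => h4 η (hη.mono h1)⟩
    have := Fintype.ofFinite (IrrCharacter C)
    have hχ1 := (inv_iff hPK χ).mp hχ
    have hχ2 := (inv_iff (h1.trans hPK) χ).mp (hχ.mono h1)
    have e1 : ∑ η : IrrCharacter C, (mlt h χ η : ZMod p) ^ 2 = 1 := by
      letI := irrAct P₁ C (h1.trans hPC)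
      rw [sum_fixed_zmod hp hP1 (fun η : IrrCharacter C => (mlt h χ η : ZMod p) ^ 2) (by
        intro u a
        have e := mlt_conj (h1.trans hPK) (h1.trans hPC) h u χ a
        rw [hχ2 u] at e
        show (mlt h χ ((irrAct P₁ C (h1.trans hPC)).toSMul.smul u a) : ZMod p) ^ 2 = _
        rw [e])]
      rw [Finset.sum_eq_single ξ]
      · exact h3
      · intro η hη hne
        have hη2 := (Finset.mem_filter.mp hη).2
        rw [h4 η ((inv_iff (h1.trans hPC) η).mpr hη2) hne]
        simp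
      · intro hη
        exfalso
        apply hη
        rw [Finset.mem_filter]
        exact ⟨Finset.mem_univ _, (inv_iff (h1.trans hPC) ξ).mp h2⟩
    have e2 : ∃ η : IrrCharacter C, Inv (P : Set G) C η ∧ (mlt h χ η : ZMod p) ≠ 0 := by
      by_contra hcon
      push Not at hcon
      letI := irrAct P C hPC
      rw [sum_fixed_zmod hp hP (fun η : IrrCharacter C => (mlt h χ η : ZMod p) ^ 2) (by
        intro u a
        have e := mlt_conj hPK hPC h u χ a
        rw [hχ1 u] at e
        show (mlt h χ ((irrAct P C hPC).toSMul.smul u a) : ZMod p) ^ 2 = _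
        rw [e])] at e1
      rw [Finset.sum_eq_zero] at e1
      · have := Fact.mk hp
        exact zero_ne_one e1
      · intro η hη
        have hη2 := (Finset.mem_filter.mp hη).2
        rw [hcon η ((inv_iff hPC η).mpr hη2)]
        simp
    obtain ⟨η, hη, hne⟩ := e2
    have : η = ξ := by
      by_contra hcon
      exact hne (h4 η (hη.mono h1) hcon)
    rw [← this]; exact hη
  · intro ξ hξ
    obtain ⟨χ, h2, h3, h4⟩ := hg.2 ξ (hξ.mono h1)
    refine ⟨χ, ?_, h3, fun η hη => h4 η (hη.mono h1)⟩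
    have := Fintype.ofFinite (IrrCharacter K)
    have hξ1 := (inv_iff hPC ξ).mp hξ
    have hξ2 := (inv_iff (h1.trans hPC) ξ).mp (hξ.mono h1)
    have e1 : ∑ η : IrrCharacter K, (mlt h η ξ : ZMod p) ^ 2 = 1 := by
      letI := irrAct P₁ K (h1.trans hPK)
      rw [sum_fixed_zmod hp hP1 (fun η : IrrCharacter K => (mlt h η ξ : ZMod p) ^ 2) (by
        intro u a
        have e := mlt_conj (h1.trans hPK) (h1.trans hPC) h u a ξ
        rw [hξ2 u] at e
        show (mlt h ((irrAct P₁ K (h1.trans hPK)).toSMul.smul u a) ξ : ZMod p) ^ 2 = _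
        rw [e])]
      rw [Finset.sum_eq_single χ]
      · exact h3
      · intro η hη hne
        have hη2 := (Finset.mem_filter.mp hη).2
        rw [h4 η ((inv_iff (h1.trans hPK) η).mpr hη2) hne]
        simp
      · intro hη
        exfalso
        apply hη
        rw [Finset.mem_filter]
        exact ⟨Finset.mem_univ _, (inv_iff (h1.trans hPK) χ).mp h2⟩
    have e2 : ∃ η : IrrCharacter K, Inv (P : Set G) K η ∧ (mlt h η ξ : ZMod p) ≠ 0 := by
      by_contra hcon
      push Not at hcon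
      letI := irrAct P K hPK
      rw [sum_fixed_zmod hp hP (fun η : IrrCharacter K => (mlt h η ξ : ZMod p) ^ 2) (by
        intro u a
        have e := mlt_conj hPK hPC h u a ξ
        rw [hξ1 u] at e
        show (mlt h ((irrAct P K hPK).toSMul.smul u a) ξ : ZMod p) ^ 2 = _
        rw [e])] at e1
      rw [Finset.sum_eq_zero] at e1
      · have := Fact.mk hp
        exact zero_ne_one e1
      · intro η hη
        have hη2 := (Finset.mem_filter.mp hη).2
        rw [hcon η ((inv_iff hPK η).mpr hη2)]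
        simp
    obtain ⟨η, hη, hne⟩ := e2
    have : η = χ := by
      by_contra hcon
      exact hne (h4 η (hη.mono h1) hcon)
    rw [← this]; exact hη

/-- expansion of a restriction -/
theorem restr_expand {K C : Subgroup G} (h : C ≤ K) [Fintype (IrrCharacter C)]
    (χ : IrrCharacter K) (c : C) : (χ : K → ℂ) (inclusion h c) =
      ∑ η : IrrCharacter C, (mlt h χ η : ℂ) * (η : C → ℂ) c := by
  have := Fintype.ofFinite C
  have h1 := classFun_expand_apply (char_classFun (isChar_comp (irr_isChar χ.2) (inclusion h))) c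
  simp only [← mlt_eq_classInner] at h1
  exact h1

theorem mlt_comp {K C₁ C : Subgroup G} (h1 : C₁ ≤ K) (h2 : C ≤ C₁) [Fintype (IrrCharacter C₁)]
    (χ : IrrCharacter K) (ξ : IrrCharacter C) :
    mlt (h2.trans h1) χ ξ = ∑ η : IrrCharacter C₁, mlt h1 χ η * mlt h2 η ξ := by
  have := Fintype.ofFinite C
  have e : ((mlt (h2.trans h1) χ ξ : ℕ) : ℂ) =
      ((∑ η : IrrCharacter C₁, mlt h1 χ η * mlt h2 η ξ : ℕ) : ℂ) := by
    push_cast
    rw [mlt_spec]
    have e1 : ∀ c : C, (χ : K → ℂ) (inclusion (h2.trans h1) c) * conj ((ξ : C → ℂ) c) =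
        ∑ η : IrrCharacter C₁, (mlt h1 χ η : ℂ) *
          ((η : C₁ → ℂ) (inclusion h2 c) * conj ((ξ : C → ℂ) c)) := by
      intro c
      have e2 := restr_expand h1 χ (inclusion h2 c)
      have e3 : inclusion h1 (inclusion h2 c) = inclusion (h2.trans h1) c := rfl
      rw [e3] at e2
      rw [e2, Finset.sum_mul]
      exact Finset.sum_congr rfl fun η _ => by ring
    rw [finsum_eq_sum_of_fintype]
    simp only [e1]
    rw [Finset.sum_comm, Finset.mul_sum]
    apply Finset.sum_congr rfl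
    intro η _
    rw [mlt_spec h2, finsum_eq_sum_of_fintype, ← Finset.mul_sum]
    ring
  exact_mod_cast e

/-- composition -/
theorem Good.comp (hp : p.Prime) {P K C₁ C : Subgroup G} (hP : IsPGroup p P)
    (hPK : P ≤ normalizer (K : Set G)) (hP1 : P ≤ normalizer (C₁ : Set G))
    (hPC : P ≤ normalizer (C : Set G)) {h1 : C₁ ≤ K} {h2 : C ≤ C₁}
    (hg1 : Good p (P : Set G) K C₁ h1) (hg2 : Good p (P : Set G) C₁ C h2) :
    Good p (P : Set G) K C (h2.trans h1) := by
  classical
  have := Fintype.ofFinite (IrrCharacter C₁)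
  have key : ∀ (χ : IrrCharacter K) (ξ : IrrCharacter C), Inv (P : Set G) K χ →
      Inv (P : Set G) C ξ → (mlt (h2.trans h1) χ ξ : ZMod p) =
      ∑ η : IrrCharacter C₁ with Inv (P : Set G) C₁ η, (mlt h1 χ η : ZMod p) * mlt h2 η ξ := by
    intro χ ξ hχ hξ
    have hχ1 := (inv_iff hPK χ).mp hχ
    have hξ1 := (inv_iff hPC ξ).mp hξ
    rw [mlt_comp h1 h2]
    push_cast
    letI := irrAct P C₁ hP1
    rw [sum_fixed_zmod hp hP (fun η : IrrCharacter C₁ => (mlt h1 χ η : ZMod p) * mlt h2 η ξ) (by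
      intro u a
      have e := mlt_conj hPK hP1 h1 u χ a
      rw [hχ1 u] at e
      have e' := mlt_conj hP1 hPC h2 u a ξ
      rw [hξ1 u] at e'
      show (mlt h1 χ ((irrAct P C₁ hP1).toSMul.smul u a) : ZMod p) *
        (mlt h2 ((irrAct P C₁ hP1).toSMul.smul u a) ξ : ZMod p) = _
      rw [e, e'])]
    apply Finset.sum_congr _ (fun _ _ => rfl)
    ext η
    rw [Finset.mem_filter, Finset.mem_filter, inv_iff hP1]
    rfl
  have key2 : ∀ (χ : IrrCharacter K) (ξ : IrrCharacter C) (η : IrrCharacter C₁),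
      Inv (P : Set G) K χ → Inv (P : Set G) C ξ → Inv (P : Set G) C₁ η →
      (∀ η', Inv (P : Set G) C₁ η' → η' ≠ η → (mlt h1 χ η' : ZMod p) * mlt h2 η' ξ = 0) →
      (mlt (h2.trans h1) χ ξ : ZMod p) = (mlt h1 χ η : ZMod p) * mlt h2 η ξ := by
    intro χ ξ η hχ hξ hη h0
    rw [key χ ξ hχ hξ]
    apply Finset.sum_eq_single
    · intro η' hη' hne
      exact h0 η' (Finset.mem_filter.mp hη').2 hne
    · intro hη'
      exact absurd (Finset.mem_filter.mpr ⟨Finset.mem_univ _, hη⟩) hη'
  constructor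
  · intro χ hχ
    obtain ⟨η, a1, a2, a3⟩ := hg1.1 χ hχ
    obtain ⟨ξ, b1, b2, b3⟩ := hg2.1 η a1
    refine ⟨ξ, b1, ?_, ?_⟩
    · rw [key2 χ ξ η hχ b1 a1 (fun η' hη' hne => by rw [a3 η' hη' hne, zero_mul]), mul_pow, a2, b2,
        one_mul]
    · intro ξ' hξ' hne'
      rw [key2 χ ξ' η hχ hξ' a1 (fun η' hη' hne => by rw [a3 η' hη' hne, zero_mul]), b3 ξ' hξ' hne',
        mul_zero]
  · intro ξ hξ
    obtain ⟨η, a1, a2, a3⟩ := hg2.2 ξ hξ
    obtain ⟨χ, b1, b2, b3⟩ := hg1.2 η a1
    refine ⟨χ, b1, ?_, ?_⟩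
    · rw [key2 χ ξ η b1 hξ a1 (fun η' hη' hne => by rw [a3 η' hη' hne, mul_zero]), mul_pow, a2, b2,
        one_mul]
    · intro χ' hχ' hne'
      rw [key2 χ' ξ η hχ' hξ a1 (fun η' hη' hne => by rw [a3 η' hη' hne, mul_zero]), b3 χ' hχ' hne',
        zero_mul]

/-- the degree congruence -/
theorem degree_zmod (hp : p.Prime) {P K C : Subgroup G} (hP : IsPGroup p P)
    (hPK : P ≤ normalizer (K : Set G)) (hPC : P ≤ normalizer (C : Set G)) (h : C ≤ K)
    (χ : IrrCharacter K) (hχ : Inv (P : Set G) K χ) (ξ : IrrCharacter C)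
    (hξ : Inv (P : Set G) C ξ)
    (h0 : ∀ η, Inv (P : Set G) C η → η ≠ ξ → (mlt h χ η : ZMod p) = 0) :
    (charDegree (χ : K → ℂ) : ZMod p) = mlt h χ ξ * charDegree (ξ : C → ℂ) := by
  classical
  have := Fintype.ofFinite (IrrCharacter C)
  have hχ1 := (inv_iff hPK χ).mp hχ
  have e1 : charDegree (χ : K → ℂ) = ∑ η : IrrCharacter C, mlt h χ η * charDegree (η : C → ℂ) := by
    have e2 := restr_expand h χ 1
    rw [map_one, (charDegree_spec χ.2).1] at e2
    have e3 : ((charDegree (χ : K → ℂ) : ℕ) : ℂ) =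
        ((∑ η : IrrCharacter C, mlt h χ η * charDegree (η : C → ℂ) : ℕ) : ℂ) := by
      push_cast
      rw [e2]
      exact Finset.sum_congr rfl fun η _ => by rw [(charDegree_spec η.2).1]
    exact_mod_cast e3
  rw [e1]
  push_cast
  letI := irrAct P C hPC
  rw [sum_fixed_zmod hp hP (fun η : IrrCharacter C => (mlt h χ η : ZMod p) *
    charDegree (η : C → ℂ)) (by
      intro u a
      have e := mlt_conj hPK hPC h u χ a
      rw [hχ1 u] at e
      have e4 : charDegree (((irrAct P C hPC).toSMul.smul u a : IrrCharacter C) : C → ℂ) =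
          charDegree (a : C → ℂ) := by
        have e5 := irrAct_apply hPC u a 1 1 (by simp)
        rw [(charDegree_spec a.2).1,
          (charDegree_spec ((irrAct P C hPC).toSMul.smul u a : IrrCharacter C).2).1] at e5
        exact_mod_cast e5
      show (mlt h χ ((irrAct P C hPC).toSMul.smul u a) : ZMod p) *
        (charDegree (((irrAct P C hPC).toSMul.smul u a : IrrCharacter C) : C → ℂ) : ZMod p) = _
      rw [e, e4])]
  apply Finset.sum_eq_single
  · intro η hη hne
    rw [h0 η ((inv_iff hPC η).mpr (Finset.mem_filter.mp hη).2) hne, zero_mul]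
  · intro hη
    exact absurd (Finset.mem_filter.mpr ⟨Finset.mem_univ _, (inv_iff hPC ξ).mp hξ⟩) hη

end Cfsg.Agent.H27
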