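import Cfsg.Agent.H27.Gagola
import Cfsg.Agent.H3.Clifford
import Cfsg.Agent.H3.BrauerC

set_option autoImplicit false
set_option linter.all false

/-! # Characters with a given normal subgroup in the kernel (helper27) -/

namespace Cfsg.Agent.H27

open Subgroup Cfsg.Agent.H3
open scoped ComplexConjugate commutatorElement

section KC

variable {G : Type*} [Group G] [Finite G] (N : Subgroup G) [N.Normal]

open Classical in
theorem sum_ker [Fintype (IrrCharacter G)]
    [DecidablePred (fun ψ : IrrCharacter G => ∀ n ∈ N, (ψ : G → ℂ) n = (ψ : G → ℂ) 1)] (g h : G) :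
    ∑ ψ ∈ Finset.univ.filter (fun ψ : IrrCharacter G => ∀ n ∈ N, (ψ : G → ℂ) n = (ψ : G → ℂ) 1),
      (ψ : G → ℂ) g * conj ((ψ : G → ℂ) h) =
      if IsConj (g : G ⧸ N) (h : G ⧸ N) then
        (Nat.card (centralizer ({(g : G ⧸ N)} : Set (G ⧸ N))) : ℂ) else 0 := by
  haveI := Fintype.ofFinite (IrrCharacter (G ⧸ N))
  have h1 := column_orth (G := G ⧸ N) (g : G ⧸ N) (h : G ⧸ N)
  rw [← h1]
  have h2 := Finset.sum_subtype (p := fun ψ : IrrCharacter G => ∀ n ∈ N, (ψ : G → ℂ) n = (ψ : G → ℂ) 1)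
    (F := inferInstance)
    (Finset.univ.filter fun ψ : IrrCharacter G => ∀ n ∈ N, (ψ : G → ℂ) n = (ψ : G → ℂ) 1)
    (fun x => by simp) (fun ψ : IrrCharacter G => (ψ : G → ℂ) g * conj ((ψ : G → ℂ) h))
  rw [h2, ← Equiv.sum_comp (irrQuotEquiv N)]
  rfl

theorem sum_ker_one [Fintype (IrrCharacter G)]
    [DecidablePred (fun ψ : IrrCharacter G => ∀ n ∈ N, (ψ : G → ℂ) n = (ψ : G → ℂ) 1)] {n : G} (hn : n ∈ N) :
    ∑ ψ ∈ Finset.univ.filter (fun ψ : IrrCharacter G => ∀ n ∈ N, (ψ : G → ℂ) n = (ψ : G → ℂ) 1),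
      (ψ : G → ℂ) 1 * conj ((ψ : G → ℂ) n) = (Nat.card (G ⧸ N) : ℂ) := by
  rw [sum_ker N 1 n]
  have h1 : (n : G ⧸ N) = ((1 : G) : G ⧸ N) := by
    rw [QuotientGroup.mk_one]; exact (QuotientGroup.eq_one_iff n).mpr hn
  rw [h1, if_pos (IsConj.refl _)]
  have h2 : centralizer ({((1 : G) : G ⧸ N)} : Set (G ⧸ N)) = ⊤ := by
    rw [eq_top_iff]; intro y _
    rw [mem_centralizer_singleton_iff, QuotientGroup.mk_one, mul_one, one_mul]
  rw [h2, card_top]

theorem sum_ker_self [Fintype (IrrCharacter G)]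
    [DecidablePred (fun ψ : IrrCharacter G => ∀ n ∈ N, (ψ : G → ℂ) n = (ψ : G → ℂ) 1)] {n : G} (hn : n ∈ N) :
    ∑ ψ ∈ Finset.univ.filter (fun ψ : IrrCharacter G => ∀ n ∈ N, (ψ : G → ℂ) n = (ψ : G → ℂ) 1),
      (ψ : G → ℂ) n * conj ((ψ : G → ℂ) n) = (Nat.card (G ⧸ N) : ℂ) := by
  rw [← sum_ker_one N hn]
  refine Finset.sum_congr rfl fun ψ hψ => ?_
  rw [(Finset.mem_filter.mp hψ).2 n hn]

theorem sum_ker_zero [Fintype (IrrCharacter G)]
    [DecidablePred (fun ψ : IrrCharacter G => ∀ n ∈ N, (ψ : G → ℂ) n = (ψ : G → ℂ) 1)] {g : G} (hg : g ∉ N) :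
    ∑ ψ ∈ Finset.univ.filter (fun ψ : IrrCharacter G => ∀ n ∈ N, (ψ : G → ℂ) n = (ψ : G → ℂ) 1),
      (ψ : G → ℂ) 1 * conj ((ψ : G → ℂ) g) = 0 := by
  rw [sum_ker N 1 g, if_neg]
  intro h
  rw [QuotientGroup.mk_one, isConj_one_right] at h
  exact hg ((QuotientGroup.eq_one_iff g).mp h)

variable {N}

/-- a normal subgroup lying in the kernels of all irreducible characters except one -/
theorem unique_ker {χ : IrrCharacter G} (hN : N ≠ ⊥)
    (h : ∀ ψ : IrrCharacter G, ψ ≠ χ → ∀ n ∈ N, (ψ : G → ℂ) n = (ψ : G → ℂ) 1) :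
    ((χ : G → ℂ) 1 * (χ : G → ℂ) 1 = (Nat.card (G ⧸ N) : ℂ) * ((Nat.card N : ℂ) - 1)) ∧
    (∀ n ∈ N, n ≠ 1 → (χ : G → ℂ) 1 * (χ : G → ℂ) n = -(Nat.card (G ⧸ N) : ℂ)) ∧
    (∀ g, g ∉ N → (χ : G → ℂ) g = 0) ∧
    (∀ n ∈ N, n ≠ 1 → Nat.card (centralizer ({n} : Set G)) * (Nat.card N - 1) = Nat.card G) := by
  classical
  haveI := Fintype.ofFinite (IrrCharacter G)
  haveI := Fintype.ofFinite G
  have hne : ¬ ∀ n ∈ N, (χ : G → ℂ) n = (χ : G → ℂ) 1 := by
    intro hχ
    apply hN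
    rw [eq_bot_iff]
    intro n hn
    rw [mem_bot, ← isConj_one_left, isConj_iff_irr]
    intro ψ
    by_cases hψ : ψ = χ
    · subst hψ; exact hχ n hn
    · exact h ψ hψ n hn
  have hfil : (Finset.univ.filter fun ψ : IrrCharacter G => ¬ ∀ n ∈ N, (ψ : G → ℂ) n = (ψ : G → ℂ) 1) =
      {χ} := by
    ext ψ
    rw [Finset.mem_filter, Finset.mem_singleton]
    constructor
    · rintro ⟨-, h1⟩
      by_contra h2
      exact h1 (h ψ h2)
    · rintro rfl
      exact ⟨Finset.mem_univ _, hne⟩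
  have hsplit : ∀ F : IrrCharacter G → ℂ, ∑ ψ : IrrCharacter G, F ψ =
      ∑ ψ ∈ Finset.univ.filter (fun ψ : IrrCharacter G => ∀ n ∈ N, (ψ : G → ℂ) n = (ψ : G → ℂ) 1), F ψ + F χ := by
    intro F
    have h1 := Finset.sum_filter_add_sum_filter_not (Finset.univ : Finset (IrrCharacter G))
      (fun ψ : IrrCharacter G => ∀ n ∈ N, (ψ : G → ℂ) n = (ψ : G → ℂ) 1) F
    rw [hfil, Finset.sum_singleton] at h1
    exact h1.symm
  have hc1 : conj ((χ : G → ℂ) 1) = (χ : G → ℂ) 1 := conj_one_val (irr_isChar χ.2)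
  have hχ1 : (χ : G → ℂ) 1 ≠ 0 := irr_one_ne_zero χ.2
  have hcG : (Nat.card G : ℂ) = (Nat.card (G ⧸ N) : ℂ) * Nat.card N := by
    exact_mod_cast Subgroup.card_eq_card_quotient_mul_card_subgroup N
  have hcol : ∀ g : G, g ≠ 1 → ∑ ψ : IrrCharacter G, (ψ : G → ℂ) 1 * conj ((ψ : G → ℂ) g) = 0 := by
    intro g hg
    rw [column_orth, if_neg]
    intro h
    rw [isConj_one_right] at h
    exact hg h
  have e1 : (χ : G → ℂ) 1 * (χ : G → ℂ) 1 = (Nat.card (G ⧸ N) : ℂ) * ((Nat.card N : ℂ) - 1) := by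
    have h1 := column_orth (G := G) 1 1
    rw [if_pos (IsConj.refl _), hsplit, sum_ker_one N (one_mem N), hc1] at h1
    have h2 : centralizer ({(1 : G)} : Set G) = ⊤ := by
      rw [eq_top_iff]; intro y _
      rw [mem_centralizer_singleton_iff, mul_one, one_mul]
    rw [h2, card_top, hcG] at h1
    linear_combination h1
  have e2 : ∀ n ∈ N, n ≠ 1 → (χ : G → ℂ) 1 * (χ : G → ℂ) n = -(Nat.card (G ⧸ N) : ℂ) := by
    intro n hn hn1
    have h1 := hcol n hn1
    rw [hsplit, sum_ker_one N hn] at h1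
    have h2 : (χ : G → ℂ) 1 * conj ((χ : G → ℂ) n) = -(Nat.card (G ⧸ N) : ℂ) := by
      linear_combination h1
    have h3 := congrArg conj h2
    rw [map_mul, hc1, Complex.conj_conj, map_neg, Complex.conj_natCast] at h3
    exact h3
  have e3 : ∀ g, g ∉ N → (χ : G → ℂ) g = 0 := by
    intro g hg
    have h1 := hcol g (fun h => hg (h ▸ one_mem N))
    rw [hsplit, sum_ker_zero N hg, zero_add] at h1
    have h2 := (mul_eq_zero.mp h1).resolve_left hχ1
    have h3 := congrArg conj h2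
    rwa [Complex.conj_conj, map_zero] at h3
  refine ⟨e1, e2, e3, ?_⟩
  intro n hn hn1
  have hN1 : 1 < Nat.card N := by
    haveI : Nontrivial N := (Subgroup.nontrivial_iff_ne_bot N).mpr hN
    exact Finite.one_lt_card
  have h1 := column_orth (G := G) n n
  rw [if_pos (IsConj.refl _), hsplit, sum_ker_self N hn] at h1
  have h2 := e2 n hn hn1
  have h3 : conj ((χ : G → ℂ) n) = (χ : G → ℂ) n := by
    have h4 := congrArg conj h2
    rw [map_mul, hc1, map_neg, Complex.conj_natCast, ← h2] at h4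
    exact mul_left_cancel₀ hχ1 h4
  rw [h3] at h1
  have hq : (Nat.card (G ⧸ N) : ℂ) ≠ 0 := by
    exact_mod_cast (Nat.card_pos (α := G ⧸ N)).ne'
  have h5 : ((Nat.card (centralizer ({n} : Set G)) : ℂ)) * ((Nat.card N : ℂ) - 1) = Nat.card G := by
    have h6 : (Nat.card (G ⧸ N) : ℂ) * (((Nat.card (centralizer ({n} : Set G)) : ℂ)) * ((Nat.card N : ℂ) - 1)) =
        (Nat.card (G ⧸ N) : ℂ) * Nat.card G := by
      rw [← h1, hcG]
      have h7 : ((χ : G → ℂ) 1 * (χ : G → ℂ) n) * ((χ : G → ℂ) 1 * (χ : G → ℂ) n) =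
          (Nat.card (G ⧸ N) : ℂ) * (Nat.card (G ⧸ N) : ℂ) := by rw [h2]; ring
      linear_combination h7 - ((χ : G → ℂ) n * (χ : G → ℂ) n) * e1
    exact mul_left_cancel₀ hq h6
  have h8 : ((Nat.card (centralizer ({n} : Set G)) * (Nat.card N - 1) : ℕ) : ℂ) = (Nat.card G : ℂ) := by
    rw [Nat.cast_mul, Nat.cast_sub hN1.le, Nat.cast_one]
    exact h5
  exact_mod_cast h8

end KC

section Syl

variable {G : Type*} [Group G] [Finite G] {p : ℕ} [hp : Fact p.Prime]

/-- for a normal Sylow subgroup `P`, the degree is divisible by `p` iff the commutator subgroup of `P`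
is not in the kernel -/
theorem dvd_iff_of_normal (P : Sylow p G) [hPn : (P : Subgroup G).Normal] (ψ : IrrCharacter G) :
    p ∣ charDegree (ψ : G → ℂ) ↔
      ¬ ∀ n ∈ ⁅(P : Subgroup G), (P : Subgroup G)⁆, (ψ : G → ℂ) n = (ψ : G → ℂ) 1 := by
  classical
  haveI := Fintype.ofFinite G
  haveI := Fintype.ofFinite (P : Subgroup G)
  set N : Subgroup G := ⁅(P : Subgroup G), (P : Subgroup G)⁆ with hN
  have hNP : N ≤ (P : Subgroup G) := commutator_le_self _
  haveI : N.Normal := commutator_normal _ _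
  have hdeg := charDegree_cast (irr_isChar ψ.2)
  constructor
  · intro hd hker
    obtain ⟨φ, hφ, hφψ⟩ := exists_quotient_irr ψ.2 hker
    let A : Subgroup (G ⧸ N) := (P : Subgroup G).map (QuotientGroup.mk' N)
    have hAn : A.Normal := hPn.map _ (QuotientGroup.mk'_surjective N)
    have hAc : ∀ a ∈ A, ∀ b ∈ A, a * b = b * a := by
      rintro _ ⟨a, ha, rfl⟩ _ ⟨b, hb, rfl⟩
      rw [← map_mul, ← map_mul]
      show ((a * b : G) : G ⧸ N) = ((b * a : G) : G ⧸ N)
      rw [eq_comm, QuotientGroup.eq]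
      have : (b * a)⁻¹ * (a * b) = ⁅a⁻¹, b⁻¹⁆ := by
        rw [commutatorElement_def]; group
      rw [this]
      exact commutator_mem_commutator (inv_mem ha) (inv_mem hb)
    have h1 : φ 1 = (charDegree (ψ : G → ℂ) : ℂ) := by
      rw [hdeg]
      exact (hφψ 1).symm
    have h2 := ito_degree_dvd hφ A hAn hAc h1
    have h3 : A.index ∣ (P : Subgroup G).index := index_map_dvd _ (QuotientGroup.mk'_surjective N)
    exact P.not_dvd_index (hd.trans (h2.trans h3))
  · intro hker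
    by_contra hd
    apply hker
    -- a constituent of the restriction
    have h0 : (fun x : (P : Subgroup G) => (ψ : G → ℂ) x) ≠ 0 := by
      intro h
      have := congrFun h 1
      exact irr_one_ne_zero ψ.2 this
    obtain ⟨θ, hθ⟩ := exists_constituent (isChar_restrict (P : Subgroup G) (irr_isChar ψ.2)) h0
    have h1 := clifford_degree hPn ψ.2 θ.2 hθ
    obtain ⟨e, he⟩ := classInner_char_nat (isChar_restrict (P : Subgroup G) (irr_isChar ψ.2))
      (irr_isChar θ.2)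
    have hθd := charDegree_cast (irr_isChar θ.2)
    have h2 : charDegree (ψ : G → ℂ) = e * (inertia hPn (θ : ↥(P : Subgroup G) → ℂ)).index *
        charDegree (θ : ↥(P : Subgroup G) → ℂ) := by
      have : (charDegree (ψ : G → ℂ) : ℂ) = ((e * (inertia hPn (θ : ↥(P : Subgroup G) → ℂ)).index *
        charDegree (θ : ↥(P : Subgroup G) → ℂ) : ℕ) : ℂ) := by
        push_cast
        rw [hdeg, h1, he, hθd]
      exact_mod_cast this
    have h3 : charDegree (θ : ↥(P : Subgroup G) → ℂ) = 1 := by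
      have h4 : charDegree (θ : ↥(P : Subgroup G) → ℂ) ∣ Nat.card (P : Subgroup G) := by
        have := charDegree_dvd_card θ.2
        exact this
      obtain ⟨k, hk⟩ := IsPGroup.iff_card.mp P.2
      rw [hk] at h4
      obtain ⟨j, -, hj⟩ := (Nat.dvd_prime_pow hp.out).mp h4
      rcases Nat.eq_zero_or_pos j with h5 | h5
      · rw [hj, h5, pow_zero]
      · exfalso
        apply hd
        rw [h2]
        exact dvd_mul_of_dvd_right (by rw [hj]; exact dvd_pow_self p h5.ne') _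
    have hθ1 : (θ : ↥(P : Subgroup G) → ℂ) 1 = 1 := by rw [← hθd, h3, Nat.cast_one]
    -- `θ` is trivial on `N`, and so are all its conjugates
    have hθN : ∀ x : (P : Subgroup G), (x : G) ∈ N → (θ : ↥(P : Subgroup G) → ℂ) x = 1 := by
      intro x hx
      have hx' : x ∈ commutator (P : Subgroup G) := by
        rw [hN, ← map_subtype_commutator] at hx
        obtain ⟨y, hy, hyx⟩ := hx
        have : y = x := Subtype.ext hyx
        rwa [← this]
      exact linear_commutator (irr_isChar θ.2) hθ1 hx'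
    intro n hn
    have h4 := clifford_sum hPn ψ.2 θ.2 hθ
    have h5 := congrFun h4 ⟨n, hNP hn⟩
    have h6 := congrFun h4 1
    simp only [Pi.smul_apply, Finset.sum_apply, smul_eq_mul] at h5 h6
    have h7 : ∀ x : G, cj hPn x (θ : ↥(P : Subgroup G) → ℂ) ⟨n, hNP hn⟩ =
        cj hPn x (θ : ↥(P : Subgroup G) → ℂ) 1 := by
      intro x
      rw [cj_one_apply, hθ1, cj_apply]
      apply hθN
      exact (inferInstance : N.Normal).conj_mem n hn x
    rw [Finset.sum_congr rfl fun x _ => h7 x, ← h6] at h5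
    have h8 : ((Nat.card (inertia hPn (θ : ↥(P : Subgroup G) → ℂ)) : ℂ)) ≠ 0 := by
      exact_mod_cast Nat.card_pos.ne'
    exact mul_left_cancel₀ h8 h5

end Syl

end Cfsg.Agent.H27
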