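import Mathlib
import Cfsg.Agent.H26.ResField

set_option autoImplicit false

/-!
# Matrices over the local ring: ranks of reductions
-/

namespace Cfsg.Agent.H27.Md

open Cfsg Cfsg.Agent.H11 Cfsg.Agent.H26 Matrix

variable (M : Ideal AlgInt) [hM : M.IsPrime]

/-- Residue map. -/
noncomputable abbrev rs : locRing M →+* KF M := IsLocalRing.residue (locRing M)

/-- Inclusion into the complex numbers. -/
abbrev ic : locRing M →+* ℂ := (locRing M).subtype

variable {M}

theorem ic_inj : Function.Injective (ic M) := Subtype.val_injective

theorem rs_surj : Function.Surjective (rs M) := IsLocalRing.residue_surjective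

theorem ic_ne_zero_of_rs {x : locRing M} (h : rs M x ≠ 0) : ic M x ≠ 0 := by
  intro h1
  apply h
  have : x = 0 := ic_inj (by rw [h1, map_zero])
  rw [this, map_zero]

theorem rd_eq_rs (x : locRing M) : rd M (ic M x) = rs M x := rd_coe x

variable {m n : Type*} [Fintype m] [Fintype n] [DecidableEq m] [DecidableEq n]

omit [DecidableEq n] in
/-- Injectivity of the reduction implies injectivity. -/
theorem inj_lift (V : Matrix n m (locRing M))
    (h : Function.Injective (V.map (rs M)).mulVec) :
    Function.Injective (V.map (ic M)).mulVec := by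
  -- a left inverse over the residue field
  obtain ⟨g, hg⟩ := ((V.map (rs M)).mulVecLin).exists_leftInverse_of_injective
    (LinearMap.ker_eq_bot.mpr h)
  classical
  let W : Matrix m n (KF M) := LinearMap.toMatrix' g
  have hW : W * V.map (rs M) = 1 := by
    have h1 := congrArg LinearMap.toMatrix' hg
    rw [LinearMap.toMatrix'_comp, LinearMap.toMatrix'_id] at h1
    have h2 : LinearMap.toMatrix' (V.map (rs M)).mulVecLin = V.map (rs M) := by
      rw [← Matrix.toLin'_apply', LinearMap.toMatrix'_toLin']
    rwa [h2] at h1
  choose w hw using fun i j => rs_surj (M := M) (W i j)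
  let W' : Matrix m n (locRing M) := Matrix.of w
  have hW' : W'.map (rs M) = W := by
    ext i j
    exact hw i j
  have hdet : rs M (W' * V).det = 1 := by
    rw [RingHom.map_det, RingHom.mapMatrix_apply, Matrix.map_mul, hW', hW, det_one]
  have hdet2 : ((W' * V).map (ic M)).det ≠ 0 := by
    rw [← RingHom.mapMatrix_apply, ← RingHom.map_det]
    exact ic_ne_zero_of_rs (by rw [hdet]; exact one_ne_zero)
  have hinj := Matrix.mulVec_injective_of_det_ne_zero hdet2
  rw [Matrix.map_mul] at hinj
  intro x y hxy
  apply hinj
  rw [← Matrix.mulVec_mulVec, ← Matrix.mulVec_mulVec, hxy]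

/-- The rank of the reduction is at most the rank. -/
theorem rank_le (E : Matrix n n (locRing M)) :
    (E.map (rs M)).rank ≤ (E.map (ic M)).rank := by
  classical
  set r := (E.map (rs M)).rank with hr
  let b := Module.finBasis (KF M) (LinearMap.range (E.map (rs M)).mulVecLin)
  have hb : ∀ j, ∃ w : n → KF M, (E.map (rs M)).mulVec w = (b j : n → KF M) := fun j => (b j).2
  choose w hw using hb
  choose w' hw' using fun j i => rs_surj (M := M) (w j i)
  let W : Matrix n (Fin (Module.finrank (KF M) (LinearMap.range (E.map (rs M)).mulVecLin)))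
    (locRing M) := Matrix.of fun i j => w' j i
  have hcol : ∀ j i, ((E * W).map (rs M)) i j = (b j : n → KF M) i := by
    intro j i
    rw [Matrix.map_mul, ← hw j]
    change ∑ k, (E.map (rs M)) i k * (W.map (rs M)) k j = ∑ k, (E.map (rs M)) i k * w j k
    apply Finset.sum_congr rfl
    intro k _
    congr 1
    exact hw' j k
  have hinj : Function.Injective ((E * W).map (rs M)).mulVec := by
    rw [Matrix.mulVec_injective_iff]
    have h1 : LinearIndependent (KF M) (fun j => (b j : n → KF M)) :=
      b.linearIndependent.map' (Submodule.subtype _) (Submodule.ker_subtype _)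
    have h2 : ((E * W).map (rs M)).col = fun j => (b j : n → KF M) := by
      funext j
      funext i
      exact hcol j i
    rw [h2]
    exact h1
  have h2 := inj_lift (E * W) hinj
  rw [Matrix.map_mul] at h2
  have h3 : (E.map (ic M) * W.map (ic M)).rank = r := by
    rw [Matrix.rank, LinearMap.finrank_range_of_inj h2]
    simp [hr, Matrix.rank]
  rw [← h3]
  exact Matrix.rank_mul_le_left _ _

theorem rank_add {K : Type*} [Field K] (E : Matrix n n K) (hE : E * E = E) :
    E.rank + (1 - E).rank = Fintype.card n := by
  have hker : LinearMap.range (1 - E).mulVecLin = LinearMap.ker E.mulVecLin := by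
    ext x
    rw [LinearMap.mem_range, LinearMap.mem_ker]
    constructor
    · rintro ⟨y, rfl⟩
      rw [Matrix.mulVecLin_apply, Matrix.mulVecLin_apply, Matrix.mulVec_mulVec, mul_sub, mul_one,
        hE, sub_self, Matrix.zero_mulVec]
    · intro h
      refine ⟨x, ?_⟩
      rw [Matrix.mulVecLin_apply] at h ⊢
      rw [Matrix.sub_mulVec, Matrix.one_mulVec, h, sub_zero]
  have h1 := LinearMap.finrank_range_add_finrank_ker E.mulVecLin
  rw [← hker] at h1
  rw [Module.finrank_fintype_fun_eq_card] at h1
  exact h1

/-- The rank of a reduction of an idempotent matrix. -/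
theorem rank_eq (E : Matrix n n (locRing M)) (hE : E * E = E) :
    (E.map (rs M)).rank = (E.map (ic M)).rank := by
  have h1 : E.map (rs M) * E.map (rs M) = E.map (rs M) := by rw [← Matrix.map_mul, hE]
  have h2 : E.map (ic M) * E.map (ic M) = E.map (ic M) := by rw [← Matrix.map_mul, hE]
  have h3 := rank_add _ h1
  have h4 := rank_add _ h2
  have h5 := rank_le E
  have h6 := rank_le (1 - E)
  have e1 : (1 - E).map (rs M) = 1 - E.map (rs M) := by
    have : (RingHom.mapMatrix (rs M)) (1 - E) = 1 - (RingHom.mapMatrix (rs M)) E := by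
      rw [map_sub, map_one]
    exact this
  have e2 : (1 - E).map (ic M) = 1 - E.map (ic M) := by
    have : (RingHom.mapMatrix (ic M)) (1 - E) = 1 - (RingHom.mapMatrix (ic M)) E := by
      rw [map_sub, map_one]
    exact this
  rw [e1, e2] at h6
  omega

/-- The rank of an idempotent matrix over a field of characteristic zero. -/
theorem rank_eq_trace (E : Matrix n n ℂ) (hE : E * E = E) : (E.rank : ℂ) = E.trace := by
  have h1 : IsIdempotentElem E.mulVecLin := by
    change E.mulVecLin ∘ₗ E.mulVecLin = E.mulVecLin
    rw [← Matrix.mulVecLin_mul, hE]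
  have h2 := (LinearMap.IsIdempotentElem.isProj_range _ h1).trace
  have h3 : LinearMap.trace ℂ (n → ℂ) E.mulVecLin = E.trace := by
    rw [← Matrix.toLin'_apply', Matrix.trace_toLin'_eq]
  rw [h3] at h2
  exact h2.symm

end Cfsg.Agent.H27.Md
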