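import Mathlib
import Cfsg.Agent.H26.ResField
import Cfsg.Agent.H11.Defect4
import Cfsg.Agent.H11.PPart
import Cfsg.Agent.H27.Util
import Cfsg.Agent.H26.RegPart

set_option autoImplicit false
set_option linter.style.haveILetI false

/-!
# The reductions of the irreducible characters span the p-regular class functions
-/

namespace Cfsg.Agent.H27.Md

open Cfsg Cfsg.Agent.H11 Cfsg.Agent.H26 Cfsg.Agent.H3
open scoped ComplexConjugate

variable {G : Type*} [Group G] [Finite G] {p : ℕ} {M : Ideal AlgInt} [hM : M.IsPrime]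

/-- Averages of character values over p-elements commuting with `y` are integral. -/
theorem avg_int {χ : G → ℂ} (hχ : IsCharacter G χ) (Q : Subgroup G) [Fintype Q] (y : G)
    (hQ : ∀ q ∈ Q, Commute q y) :
    IsIntegral ℤ ((Nat.card Q : ℂ)⁻¹ * ∑ q : Q, χ ((q : G) * y)) := by
  classical
  let φ : Q × Subgroup.zpowers y →* G :=
    { toFun := fun x => (x.1 : G) * (x.2 : G)
      map_one' := by simp
      map_mul' := by
        intro a b
        obtain ⟨⟨a1, ha1⟩, ⟨a2, ha2⟩⟩ := a
        obtain ⟨⟨b1, hb1⟩, ⟨b2, hb2⟩⟩ := b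
        obtain ⟨k, rfl⟩ := Subgroup.mem_zpowers_iff.mp ha2
        have h := (hQ b1 hb1).zpow_right k
        change (a1 * b1) * (y ^ k * b2) = (a1 * y ^ k) * (b1 * b2)
        rw [mul_assoc, mul_assoc, ← mul_assoc b1, h.eq, mul_assoc] }
  have h1 := isChar_comp hχ φ
  let N : Subgroup (Q × Subgroup.zpowers y) := (⊤ : Subgroup Q).prod ⊥
  haveI : N.Normal := Subgroup.prod_normal _ _
  haveI : Fintype (Q × Subgroup.zpowers y) := Fintype.ofFinite _
  haveI : Fintype N := Fintype.ofFinite N
  have h2 := isChar_avg h1 N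
  let e : Q ≃ N :=
    { toFun := fun q => ⟨(q, 1), by
        rw [Subgroup.mem_prod]
        exact ⟨Subgroup.mem_top _, rfl⟩⟩
      invFun := fun n => n.1.1
      left_inv := fun q => rfl
      right_inv := by
        rintro ⟨⟨q, z⟩, hn⟩
        have := (Subgroup.mem_prod.mp hn).2
        rw [Subgroup.mem_bot] at this
        simp only at this
        subst this
        rfl }
  have h3 := char_isIntegral h2 (1, ⟨y, Subgroup.mem_zpowers y⟩)
  beta_reduce at h3
  rw [← e.sum_comp, ← Nat.card_congr e] at h3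
  convert h3 using 4
  change _ = ((_ : Q) * 1 : Q) * ((1 : G) * y)
  simp [e]

variable (hMp : IsPModular p M)

theorem exists_sylow_cent [Fact p.Prime] (y : G) : ∃ Q : Subgroup G, (∀ q ∈ Q, Commute q y) ∧ IsPGroup p Q ∧
    ∃ m : ℕ, ¬ p ∣ m ∧ Nat.card (Subgroup.centralizer ({y} : Set G)) = Nat.card Q * m := by
  obtain ⟨P⟩ : Nonempty (Sylow p (Subgroup.centralizer ({y} : Set G))) := inferInstance
  refine ⟨(P : Subgroup ↥(Subgroup.centralizer ({y} : Set G))).map (Subgroup.subtype _), ?_, ?_,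
    (P : Subgroup ↥(Subgroup.centralizer ({y} : Set G))).index, ?_, ?_⟩
  · rintro q ⟨z, hz, rfl⟩
    exact (Subgroup.mem_centralizer_singleton_iff.mp z.2)
  · exact P.2.map _
  · exact P.not_dvd_index
  · rw [Subgroup.card_map_of_injective (Subgroup.subtype_injective _), Subgroup.card_mul_index]

include hMp in
theorem rd_chi_mul {χ : G → ℂ} (hχ : IsCharacter G χ) {x s : G} (h1 : Commute x s)
    (h2 : ∃ k : ℕ, orderOf x = p ^ k) : rd M (χ (x * s)) = rd M (χ s) := by
  haveI := Fintype.ofFinite G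
  rw [rd_eq_iff (lr_isChar hM hχ _) (lr_isChar hM hχ _)]
  exact li_char_mul_sub hMp hχ h1 h2

/-- For a p-regular `y`, the function `g ↦ [g_{p'} ~ y]` is killed by functionals killing all
reductions of characters. -/
theorem delta_mem [Fact p.Prime] (L : (G → KF M) →ₗ[KF M] KF M) (hMp : IsPModular p M)
    (hL : ∀ χ : IrrCharacter G, L (fun g => rd M ((χ : G → ℂ) g)) = 0) (y : G) (hy : ¬ p ∣ orderOf y)
    (δ : G → KF M) (hδ : ∀ x s : G, Commute x s → (∃ k : ℕ, orderOf x = p ^ k) → ¬ p ∣ orderOf s →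
      ((IsConj s y → δ (x * s) = 1) ∧ (¬ IsConj s y → δ (x * s) = 0))) : L δ = 0 := by
  classical
  haveI := Fintype.ofFinite G
  haveI := Fintype.ofFinite (IrrCharacter G)
  obtain ⟨Q, hQ, hQp, m, hm, hcard⟩ := exists_sylow_cent (p := p) y
  haveI := Fintype.ofFinite Q
  let a : IrrCharacter G → ℂ := fun χ => (Nat.card Q : ℂ)⁻¹ * ∑ q : Q, conj ((χ : G → ℂ) ((q : G) * y))
  have ha : ∀ χ, MemLocalRing M (a χ) := by
    intro χ
    have h1 := (avg_int (irr_isChar χ.2) Q y hQ)
    have h2 : a χ = conj ((Nat.card Q : ℂ)⁻¹ * ∑ q : Q, (χ : G → ℂ) ((q : G) * y)) := by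
      simp [a, map_mul, map_sum]
    rw [h2]
    apply lr_int
    exact h1.map ((starRingEnd ℂ) : ℂ →+* ℂ).toIntAlgHom
  let f : G → ℂ := fun g => ∑ χ : IrrCharacter G, a χ * (χ : G → ℂ) g
  have hf : ∀ g, rd M (f g) = ∑ χ : IrrCharacter G, rd M (a χ) * rd M ((χ : G → ℂ) g) := by
    intro g
    rw [rd_sum]
    · apply Finset.sum_congr rfl
      intro χ _
      rw [rd_mul (ha χ) (lr_isChar hM (irr_isChar χ.2) _)]
    · intro χ _
      exact lr_mul (ha χ) (lr_isChar hM (irr_isChar χ.2) _)
  have hf2 : ∀ s : G, ¬ p ∣ orderOf s → f s = if IsConj s y then (m : ℂ) else 0 := by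
    intro s hs
    have e1 : f s = (Nat.card Q : ℂ)⁻¹ * ∑ q : Q, ∑ χ : IrrCharacter G,
        (χ : G → ℂ) s * conj ((χ : G → ℂ) ((q : G) * y)) := by
      simp only [f, a]
      rw [Finset.sum_comm, Finset.mul_sum]
      apply Finset.sum_congr rfl
      intro χ _
      rw [mul_assoc, Finset.sum_mul]
      congr 1
      apply Finset.sum_congr rfl
      intro q _
      ring
    rw [e1]
    have e2 : ∀ q : Q, ∑ χ : IrrCharacter G, (χ : G → ℂ) s * conj ((χ : G → ℂ) ((q : G) * y))
        = if q = 1 then (if IsConj s y then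
          (Nat.card (Subgroup.centralizer ({s} : Set G)) : ℂ) else 0) else 0 := by
      intro q
      rw [column_orth]
      by_cases hq : q = 1
      · rw [if_pos hq, hq]
        simp
      · rw [if_neg hq, if_neg]
        intro hc
        have h3 : ¬ p ∣ orderOf ((q : G) * y) := by
          obtain ⟨c, hc'⟩ := isConj_iff.mp hc
          rw [← hc', orderOf_conj']
          exact hs
        have h4 : IsPPart p ((q : G) * y) (q : G) :=
          ⟨y, rfl, hQ q q.2, by
            obtain ⟨k, hk⟩ := (IsPGroup.iff_orderOf.mp hQp) q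
            exact ⟨k, by rw [← hk, Subgroup.orderOf_coe]⟩, hy⟩
        have h5 := isPPart_unique (Fact.out : p.Prime) h4
          (isPPart_one_of_pRegular (Fact.out : p.Prime) h3)
        exact hq (Subtype.ext h5)
    rw [Finset.sum_congr rfl fun q _ => e2 q, Finset.sum_ite_eq' Finset.univ (1 : Q),
      if_pos (Finset.mem_univ _)]
    by_cases hc : IsConj s y
    · rw [if_pos hc, if_pos hc]
      have h6 : Nat.card (Subgroup.centralizer ({s} : Set G)) =
          Nat.card (Subgroup.centralizer ({y} : Set G)) := by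
        have h7 := column_orth s y
        have h8 := column_orth y s
        rw [if_pos hc] at h7
        rw [if_pos hc.symm] at h8
        have h9 : (Nat.card (Subgroup.centralizer ({s} : Set G)) : ℂ) =
            Nat.card (Subgroup.centralizer ({y} : Set G)) := by
          have h10 := congrArg (starRingEnd ℂ) h8
          rw [Complex.conj_natCast, map_sum] at h10
          rw [← h7, ← h10]
          apply Finset.sum_congr rfl
          intro χ _
          rw [map_mul, Complex.conj_conj]
          ring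
        exact_mod_cast h9
      rw [h6, hcard]
      have : (Nat.card Q : ℂ) ≠ 0 := by exact_mod_cast Nat.card_pos.ne'
      push_cast
      field_simp
    · rw [if_neg hc, if_neg hc, mul_zero]
  have hchar := charP_KF hMp
  have hm0 : (m : KF M) ≠ 0 := by
    rw [Ne, CharP.cast_eq_zero_iff (KF M) p]
    exact hm
  have hδf : δ = (m : KF M)⁻¹ • ∑ χ : IrrCharacter G, rd M (a χ) • (fun g => rd M ((χ : G → ℂ) g)) := by
    funext g
    obtain ⟨x, s, hxs, hcomm, hx, hs⟩ := exists_isPPart (Fact.out : p.Prime) g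
    have h1 := hδ x s hcomm hx hs
    rw [hxs] at h1
    have h2 : ∑ χ : IrrCharacter G, rd M (a χ) * rd M ((χ : G → ℂ) g) =
        ∑ χ : IrrCharacter G, rd M (a χ) * rd M ((χ : G → ℂ) s) := by
      apply Finset.sum_congr rfl
      intro χ _
      rw [← hxs, rd_chi_mul hMp (irr_isChar χ.2) hcomm hx]
    rw [← hf s, hf2 s hs] at h2
    simp only [Pi.smul_apply, Finset.sum_apply, smul_eq_mul]
    rw [h2]
    split_ifs with hc
    · rw [h1.1 hc, rd_natCast, inv_mul_cancel₀ hm0]
    · rw [h1.2 hc, rd_zero, mul_zero]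
  rw [hδf, map_smul, map_sum]
  simp only [map_smul, hL, smul_zero, Finset.sum_const_zero]

/-- A functional killing all reductions of characters kills the class functions depending only on
the p-regular part. -/
theorem L_tau [Fact p.Prime] (L : (G → KF M) →ₗ[KF M] KF M) (hMp : IsPModular p M)
    (hL : ∀ χ : IrrCharacter G, L (fun g => rd M ((χ : G → ℂ) g)) = 0) (τ : G → KF M)
    (hc : ∀ g h : G, IsConj g h → τ g = τ h)
    (hτ : ∀ x s : G, Commute x s → (∃ k : ℕ, orderOf x = p ^ k) → ¬ p ∣ orderOf s →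
      τ (x * s) = τ s) : L τ = 0 := by
  classical
  haveI := Fintype.ofFinite G
  haveI := Fintype.ofFinite (ConjClasses G)
  have hex : ∀ g : G, ∃ s : G, ¬ p ∣ orderOf s ∧ ∃ x : G, x * s = g ∧ Commute x s ∧
      ∃ k : ℕ, orderOf x = p ^ k := by
    intro g
    obtain ⟨x, s, hxs, hcomm, hx, hs⟩ := exists_isPPart (Fact.out : p.Prime) g
    exact ⟨s, hs, x, hxs, hcomm, hx⟩
  choose r hr hr2 using hex
  have hru : ∀ x s : G, Commute x s → (∃ k : ℕ, orderOf x = p ^ k) → ¬ p ∣ orderOf s →
      r (x * s) = s := by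
    intro x s h1 h2 h3
    obtain ⟨x', h4, h5, h6⟩ := hr2 (x * s)
    have h7 : IsPPart p (x * s) x := ⟨s, rfl, h1, h2, h3⟩
    have h8 : IsPPart p (x * s) x' := ⟨r (x * s), h4, h5, h6, hr _⟩
    have h9 := isPPart_unique (Fact.out : p.Prime) h7 h8
    rw [← h9] at h4
    exact mul_left_cancel h4
  let δ : ConjClasses G → G → KF M := fun c g => if ConjClasses.mk (r g) = c then 1 else 0
  have h1 : τ = ∑ c : ConjClasses G, τ (Quotient.out c) • δ c := by
    funext g
    simp only [Finset.sum_apply, Pi.smul_apply, smul_eq_mul, δ, mul_ite, mul_one, mul_zero,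
      Finset.sum_ite_eq, Finset.mem_univ, if_true]
    obtain ⟨x, h4, h5, h6⟩ := hr2 g
    have h2 : τ g = τ (r g) := by
      conv_lhs => rw [← h4]
      exact hτ x _ h5 h6 (hr g)
    rw [h2]
    apply hc
    have h3 : ConjClasses.mk (Quotient.out (ConjClasses.mk (r g))) = ConjClasses.mk (r g) :=
      Quotient.out_eq _
    exact (ConjClasses.mk_eq_mk_iff_isConj.mp h3).symm
  rw [h1, map_sum]
  apply Finset.sum_eq_zero
  intro c _
  rw [map_smul]
  by_cases hp : ∃ g, ConjClasses.mk (r g) = c
  · obtain ⟨g, hg⟩ := hp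
    rw [delta_mem L hMp hL (r g) (hr g) (δ c) ?_, smul_zero]
    intro x s h1 h2 h3
    simp only [δ, hru x s h1 h2 h3, ← hg, ConjClasses.mk_eq_mk_iff_isConj]
    exact ⟨fun h => if_pos h, fun h => if_neg h⟩
  · have h0 : δ c = 0 := by
      funext g
      simp only [δ]
      rw [if_neg fun h => hp ⟨g, h⟩]
      rfl
    rw [h0, map_zero, smul_zero]

end Cfsg.Agent.H27.Md
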