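import Mathlib

set_option autoImplicit false
set_option linter.style.haveILetI false

/-!
# Lifting matrix units
-/

namespace Cfsg.Agent.H27.Md

/-- Matrix units for the block idempotent `e` over the idempotent `ε`. -/
structure MU {R : Type*} [Ring R] (e ε : R) (s : ℕ) where
  a : Fin s → R
  b : Fin s → R
  ha : ∀ k, ε * a k = a k
  ha' : ∀ k, a k * e = a k
  hb : ∀ k, b k * ε = b k
  hb' : ∀ k, e * b k = b k
  hab : ∀ k l, a k * b l = if k = l then ε else 0
  hba : ∑ k, b k * a k = e

theorem eq_zero_of_nil_idem {R : Type*} [Ring R] {x : R} (h : x * x = x) (hn : IsNilpotent x) :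
    x = 0 := by
  obtain ⟨n, hn⟩ := hn
  have : ∀ m : ℕ, x ^ (m + 1) = x := by
    intro m
    induction m with
    | zero => simp
    | succ k ih => rw [pow_succ, ih, h]
  rcases n with _ | n
  · rw [pow_zero] at hn
    rw [← mul_one x, hn, mul_zero]
  · rw [← this n, hn]

theorem exists_mu {K R ι : Type*} [Field K] [Ring R] [Algebra K R] [DecidableEq ι]
    (d : ι → ℕ) (π : R →ₐ[K] (Π i, Matrix (Fin (d i)) (Fin (d i)) K))
    (hπ : Function.Surjective π) (hker : ∀ x, π x = 0 → IsNilpotent x)
    {e : R} (he : e * e = e) (hc : ∀ x, e * x = x * e) (i0 : ι) (h0 : π e = Pi.single i0 1)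
    (k0 : Fin (d i0)) :
    ∃ ε : R, ε * ε = ε ∧ e * ε = ε ∧ π ε = Pi.single i0 (Matrix.single k0 k0 1) ∧
      Nonempty (MU e ε (d i0)) := by
  let S := Π i, Matrix (Fin (d i)) (Fin (d i)) K
  let E : Fin (d i0) → Fin (d i0) → S := fun k l => Pi.single i0 (Matrix.single k l 1)
  have hE : ∀ k l m n, E k l * E m n = if l = m then E k n else 0 := by
    intro k l m n
    simp only [E]
    rw [← Pi.single_mul]
    split_ifs with h
    · subst h
      rw [Matrix.single_mul_single_same, one_mul]
    · rw [Matrix.single_mul_single_of_ne _ _ _ _ h, Pi.single_zero]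
  have hEsum : ∑ k, E k k = Pi.single i0 1 := by
    have h1 : ∑ k : Fin (d i0), (Matrix.single k k 1 : Matrix (Fin (d i0)) (Fin (d i0)) K) = 1 := by
      ext i j
      rw [Matrix.sum_apply]
      by_cases hij : i = j
      · subst hij
        rw [Matrix.one_apply_eq, Finset.sum_eq_single i]
        · simp
        · intro b _ hb
          simp [hb]
        · simp
      · rw [Matrix.one_apply_ne hij]
        apply Finset.sum_eq_zero
        intro b _
        rw [Matrix.single_apply, if_neg]
        rintro ⟨h1, h2⟩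
        exact hij (h1.symm.trans h2)
    rw [← h1]
    simp only [E]
    exact (map_sum (AddMonoidHom.single (fun i => Matrix (Fin (d i)) (Fin (d i)) K) i0) _ _).symm
  have hort : OrthogonalIdempotents (fun k => E k k) := by
    constructor
    · intro k
      change E k k * E k k = E k k
      rw [hE, if_pos rfl]
    · intro k l hkl
      change E k k * E l l = 0
      rw [hE, if_neg hkl]
  obtain ⟨E', hE1, hE2⟩ := OrthogonalIdempotents.lift_of_isNilpotent_ker (π : R →+* S)
    (fun x hx => hker x hx) hort (fun k => hπ _)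
  have hE3 : ∀ k, π (E' k) = E k k := fun k => congrFun hE2 k
  let εk : Fin (d i0) → R := fun k => E' k * e
  have hπe : ∀ k l, E k l * π e = E k l := by
    intro k l
    rw [h0]
    simp only [E]
    rw [← Pi.single_mul, mul_one]
  have hπe' : ∀ k l, π e * E k l = E k l := by
    intro k l
    rw [h0]
    simp only [E]
    rw [← Pi.single_mul, one_mul]
  have hεπ : ∀ k, π (εk k) = E k k := by
    intro k
    simp only [εk]
    rw [map_mul, hE3, hπe]
  have hεε : ∀ k l, εk k * εk l = if k = l then εk k else 0 := by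
    intro k l
    have h1 : εk k * εk l = (E' k * E' l) * e := by
      simp only [εk]
      rw [mul_assoc, ← mul_assoc e, hc (E' l), mul_assoc (E' l), he, ← mul_assoc]
    rw [h1]
    split_ifs with h
    · subst h
      rw [(hE1.idem k).eq]
    · rw [hE1.ortho h, zero_mul]
  have heε : ∀ k, e * εk k = εk k := by
    intro k
    simp only [εk]
    rw [← mul_assoc, hc, mul_assoc, he]
  have hεe : ∀ k, εk k * e = εk k := fun k => by rw [← hc, heε]
  have hsum : ∑ k, εk k = e := by
    have h1 : (e - ∑ k, εk k) * (e - ∑ k, εk k) = e - ∑ k, εk k := by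
      have h2 : (∑ k, εk k) * (∑ k, εk k) = ∑ k, εk k := by
        rw [Finset.sum_mul]
        apply Finset.sum_congr rfl
        intro k _
        rw [Finset.mul_sum]
        simp [hεε]
      have h3 : e * (∑ k, εk k) = ∑ k, εk k := by
        rw [Finset.mul_sum]
        exact Finset.sum_congr rfl fun k _ => heε k
      have h4 : (∑ k, εk k) * e = ∑ k, εk k := by rw [← hc, h3]
      rw [sub_mul, mul_sub, mul_sub, he, h3, h4, h2]
      abel
    have h2 : π (e - ∑ k, εk k) = 0 := by
      rw [map_sub, map_sum, h0, ← hEsum, sub_eq_zero]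
      exact (Finset.sum_congr rfl fun k _ => hεπ k).symm
    exact (sub_eq_zero.mp (eq_zero_of_nil_idem h1 (hker _ h2))).symm
  obtain ⟨ε, hεid, heε0, hεπ0⟩ : ∃ ε : R, ε * ε = ε ∧ e * ε = ε ∧ π ε = E k0 k0 :=
    ⟨εk k0, by rw [hεε, if_pos rfl], heε k0, hεπ k0⟩
  have hx : ∀ k, ∃ x, π x = E k0 k := fun k => hπ _
  have hy : ∀ k, ∃ x, π x = E k k0 := fun k => hπ _
  choose x hx using hx
  choose y hy using hy
  let a' : Fin (d i0) → R := fun k => ε * x k * εk k
  let b : Fin (d i0) → R := fun k => εk k * y k * ε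
  have hπa : ∀ k, π (a' k) = E k0 k := by
    intro k
    simp only [a']
    rw [map_mul, map_mul, hεπ0, hεπ, hx, hE, if_pos rfl, hE, if_pos rfl]
  have hπb : ∀ k, π (b k) = E k k0 := by
    intro k
    simp only [b]
    rw [map_mul, map_mul, hεπ, hεπ0, hy, hE, if_pos rfl, hE, if_pos rfl]
  -- the correcting factor
  have hcor : ∀ k, ∃ c : R, c * (a' k * b k) = ε ∧ c * ε = c ∧ ε * c = c ∧ π c = E k0 k0 := by
    intro k
    set n := ε - a' k * b k with hn
    have hεab : ε * (a' k * b k) = a' k * b k := by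
      have h1 : ε * a' k = a' k := by
        simp only [a']
        rw [← mul_assoc ε, ← mul_assoc ε, hεid]
      rw [← mul_assoc, h1]
    have habε : (a' k * b k) * ε = a' k * b k := by
      have h1 : b k * ε = b k := by
        simp only [b]
        rw [mul_assoc, hεid]
      rw [mul_assoc, h1]
    have hπn : π n = 0 := by
      rw [hn, map_sub, map_mul, hπa, hπb, hεπ0, hE, if_pos rfl, sub_self]
    have hnε : n * ε = n := by rw [hn, sub_mul, hεid, habε]
    have hεn : ε * n = n := by rw [hn, mul_sub, hεid, hεab]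
    obtain ⟨u, hu⟩ := (hker n hπn).isUnit_one_sub
    have hcomm : Commute ε (u : R) := by
      rw [hu]
      exact (Commute.one_right _).sub_right (show ε * n = n * ε by rw [hnε, hεn])
    have hcomm' : Commute ε ((u⁻¹ : Rˣ) : R) := hcomm.units_inv_right
    refine ⟨ε * (u⁻¹ : Rˣ), ?_, ?_, ?_, ?_⟩
    · have h1 : a' k * b k = (u : R) * ε := by
        rw [hu, sub_mul, one_mul, hnε, hn]
        abel
      rw [h1, mul_assoc, ← mul_assoc ((u⁻¹ : Rˣ) : R), Units.inv_mul, one_mul, hεid]
    · rw [mul_assoc, ← hcomm'.eq, ← mul_assoc, hεid]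
    · rw [← mul_assoc, hεid]
    · have h1 : π (u : R) = 1 := by rw [hu, map_sub, map_one, hπn, sub_zero]
      have h2 : π ((u⁻¹ : Rˣ) : R) = 1 := by
        have h3 : π ((u : R) * ((u⁻¹ : Rˣ) : R)) = 1 := by rw [Units.mul_inv, map_one]
        rwa [map_mul, h1, one_mul] at h3
      rw [map_mul, h2, mul_one, hεπ0]
  choose c hc1 hc2 hc3 hc4 using hcor
  let a : Fin (d i0) → R := fun k => c k * a' k
  have ha2 : ∀ k, a k * εk k = a k := by
    intro k
    simp only [a, a']
    rw [mul_assoc (c k), mul_assoc (ε * x k), hεε, if_pos rfl]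
  have hb2 : ∀ k, εk k * b k = b k := by
    intro k
    simp only [b]
    rw [← mul_assoc, ← mul_assoc, hεε, if_pos rfl]
  have hb3 : ∀ k, b k * ε = b k := by
    intro k
    simp only [b]
    rw [mul_assoc, hεid]
  have hab : ∀ k, a k * b k = ε := by
    intro k
    simp only [a]
    rw [mul_assoc]
    exact hc1 k
  have hba : ∀ k, b k * a k = εk k := by
    intro k
    have h1 : (b k * a k) * (b k * a k) = b k * a k := by
      rw [mul_assoc, ← mul_assoc (a k), hab, ← mul_assoc, hb3]
    have h2 : εk k * (b k * a k) = b k * a k := by rw [← mul_assoc, hb2]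
    have h3 : (b k * a k) * εk k = b k * a k := by rw [mul_assoc, ha2]
    have h4 : (εk k - b k * a k) * (εk k - b k * a k) = εk k - b k * a k := by
      rw [sub_mul, mul_sub, mul_sub, h1, h2, h3, hεε, if_pos rfl]
      abel
    have h5 : π (εk k - b k * a k) = 0 := by
      simp only [a]
      rw [map_sub, map_mul π (b k), map_mul π (c k), hπb, hc4, hπa, hεπ, hE, if_pos rfl, hE,
        if_pos rfl, sub_self]
    exact (sub_eq_zero.mp (eq_zero_of_nil_idem h4 (hker _ h5))).symm
  refine ⟨ε, hεid, heε0, hεπ0, ⟨⟨a, b, ?_, ?_, hb3, ?_, ?_, ?_⟩⟩⟩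
  · intro k
    simp only [a]
    rw [← mul_assoc, hc3]
  · intro k
    rw [← ha2, mul_assoc, hεe]
  · intro k
    rw [← hb2, ← mul_assoc, heε]
  · intro k l
    split_ifs with h
    · subst h
      exact hab k
    · rw [← ha2 k, ← hb2 l, mul_assoc, ← mul_assoc (εk k), hεε, if_neg h, zero_mul, mul_zero]
  · rw [← hsum]
    exact Finset.sum_congr rfl fun k _ => hba k

end Cfsg.Agent.H27.Md
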