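import Mathlib
import Cfsg.Agent.H27.Md3

set_option autoImplicit false
set_option linter.style.haveILetI false

/-!
# Corner algebras over matrix units
-/

namespace Cfsg.Agent.H27.Md

open Module

section one

variable {K R : Type*} [Field K] [Ring R] [Algebra K R]

variable (K) in
/-- The corner `xRy` as the set of elements fixed by `x` on the left and `y` on the right. -/
def crn (x y : R) : Submodule K R where
  carrier := {z | x * z = z ∧ z * y = z}
  add_mem' := by
    rintro a b ⟨h1, h2⟩ ⟨h3, h4⟩
    exact ⟨by rw [mul_add, h1, h3], by rw [add_mul, h2, h4]⟩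
  zero_mem' := ⟨mul_zero _, zero_mul _⟩
  smul_mem' := by
    rintro c a ⟨h1, h2⟩
    exact ⟨by rw [mul_smul_comm, h1], by rw [smul_mul_assoc, h2]⟩

theorem mem_crn {x y z : R} : z ∈ crn K x y ↔ x * z = z ∧ z * y = z := Iff.rfl

variable (K) in
/-- The center of the corner. -/
def zA (ε : R) : Submodule K R where
  carrier := {c | c ∈ crn K ε ε ∧ ∀ a ∈ crn K ε ε, c * a = a * c}
  add_mem' := by
    rintro a b ⟨h1, h2⟩ ⟨h3, h4⟩
    exact ⟨add_mem h1 h3, fun x hx => by rw [add_mul, mul_add, h2 x hx, h4 x hx]⟩
  zero_mem' := ⟨zero_mem _, fun x _ => by rw [zero_mul, mul_zero]⟩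
  smul_mem' := by
    rintro c a ⟨h1, h2⟩
    exact ⟨Submodule.smul_mem _ _ h1, fun x hx => by rw [smul_mul_assoc, mul_smul_comm, h2 x hx]⟩

variable (K) in
/-- The center of the block. -/
def zR (e : R) : Submodule K R where
  carrier := {z | e * z = z ∧ ∀ x, z * x = x * z}
  add_mem' := by
    rintro a b ⟨h1, h2⟩ ⟨h3, h4⟩
    exact ⟨by rw [mul_add, h1, h3], fun x => by rw [add_mul, mul_add, h2 x, h4 x]⟩
  zero_mem' := ⟨mul_zero _, fun x => by rw [zero_mul, mul_zero]⟩
  smul_mem' := by
    rintro c a ⟨h1, h2⟩
    exact ⟨by rw [mul_smul_comm, h1], fun x => by rw [smul_mul_assoc, mul_smul_comm, h2 x]⟩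

theorem mem_zA {ε c : R} : c ∈ zA K ε ↔ c ∈ crn K ε ε ∧ ∀ a ∈ crn K ε ε, c * a = a * c := Iff.rfl

theorem mem_zR {e z : R} : z ∈ zR K e ↔ e * z = z ∧ ∀ x, z * x = x * z := Iff.rfl

variable {e ε : R} {s : ℕ} (m : MU e ε s)

include m in
theorem finrank_crn_e [FiniteDimensional K R] :
    finrank K (crn K e e) = s * (s * finrank K (crn K ε ε)) := by
  classical
  let T : crn K e e ≃ₗ[K] (Fin s → Fin s → crn K ε ε) :=
    { toFun := fun z i j => ⟨m.a i * z * m.b j, by
        constructor
        · rw [← mul_assoc, ← mul_assoc, m.ha]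
        · rw [mul_assoc, m.hb]⟩
      invFun := fun f => ⟨∑ i, ∑ j, m.b i * (f i j : R) * m.a j, by
        constructor
        · rw [Finset.mul_sum]
          apply Finset.sum_congr rfl
          intro i _
          rw [Finset.mul_sum]
          apply Finset.sum_congr rfl
          intro j _
          rw [← mul_assoc, ← mul_assoc, m.hb']
        · rw [Finset.sum_mul]
          apply Finset.sum_congr rfl
          intro i _
          rw [Finset.sum_mul]
          apply Finset.sum_congr rfl
          intro j _
          rw [mul_assoc, m.ha']⟩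
      map_add' := by
        intro x y
        funext i j
        apply Subtype.ext
        change m.a i * (x + y : R) * m.b j = m.a i * x * m.b j + m.a i * y * m.b j
        rw [mul_add, add_mul]
      map_smul' := by
        intro c x
        funext i j
        apply Subtype.ext
        change m.a i * (c • (x : R)) * m.b j = c • (m.a i * x * m.b j)
        rw [mul_smul_comm, smul_mul_assoc]
      left_inv := by
        rintro ⟨z, hz1, hz2⟩
        apply Subtype.ext
        change ∑ i, ∑ j, m.b i * (m.a i * z * m.b j) * m.a j = z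
        have h1 : ∀ i j, m.b i * (m.a i * z * m.b j) * m.a j =
            (m.b i * m.a i) * z * (m.b j * m.a j) := by
          intro i j
          simp only [mul_assoc]
        simp only [h1, ← Finset.mul_sum, m.hba, ← Finset.sum_mul, hz1, hz2]
      right_inv := by
        intro f
        funext k l
        apply Subtype.ext
        change m.a k * (∑ i, ∑ j, m.b i * (f i j : R) * m.a j) * m.b l = f k l
        rw [Finset.mul_sum, Finset.sum_mul, Finset.sum_eq_single k]
        · rw [Finset.mul_sum, Finset.sum_mul, Finset.sum_eq_single l]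
          · have h1 : m.a k * (m.b k * (f k l : R) * m.a l) * m.b l =
              (m.a k * m.b k) * (f k l : R) * (m.a l * m.b l) := by simp only [mul_assoc]
            rw [h1, m.hab, m.hab, if_pos rfl, if_pos rfl, (f k l).2.1, (f k l).2.2]
          · intro j _ hj
            have h1 : m.a k * (m.b k * (f k j : R) * m.a j) * m.b l =
              (m.a k * m.b k) * (f k j : R) * (m.a j * m.b l) := by simp only [mul_assoc]
            rw [h1, m.hab j l, if_neg hj, mul_zero]
          · intro h
            exact absurd (Finset.mem_univ _) h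
        · intro i _ hi
          rw [Finset.mul_sum, Finset.sum_mul]
          apply Finset.sum_eq_zero
          intro j _
          have h1 : m.a k * (m.b i * (f i j : R) * m.a j) * m.b l =
              (m.a k * m.b i) * (f i j : R) * (m.a j * m.b l) := by simp only [mul_assoc]
          rw [h1, m.hab k i, if_neg (Ne.symm hi), zero_mul, zero_mul]
        · intro h
          exact absurd (Finset.mem_univ _) h }
  rw [T.finrank_eq]
  simp [Module.finrank_pi_fintype]

include m in
theorem finrank_crn_1 [FiniteDimensional K R] (heε : e * ε = ε)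
    (hc : ∀ x, e * x = x * e) :
    finrank K (crn K 1 ε) = s * finrank K (crn K ε ε) := by
  classical
  let T : crn K 1 ε ≃ₗ[K] (Fin s → crn K ε ε) :=
    { toFun := fun z i => ⟨m.a i * z, by
        constructor
        · rw [← mul_assoc, m.ha]
        · rw [mul_assoc, z.2.2]⟩
      invFun := fun f => ⟨∑ i, m.b i * (f i : R), by
        constructor
        · rw [one_mul]
        · rw [Finset.sum_mul]
          apply Finset.sum_congr rfl
          intro i _
          rw [mul_assoc, (f i).2.2]⟩
      map_add' := by
        intro x y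
        funext i
        apply Subtype.ext
        change m.a i * (x + y : R) = m.a i * x + m.a i * y
        rw [mul_add]
      map_smul' := by
        intro c x
        funext i
        apply Subtype.ext
        change m.a i * (c • (x : R)) = c • (m.a i * x)
        rw [mul_smul_comm]
      left_inv := by
        rintro ⟨z, hz1, hz2⟩
        apply Subtype.ext
        change ∑ i, m.b i * (m.a i * z) = z
        have h1 : ∀ i, m.b i * (m.a i * z) = (m.b i * m.a i) * z := by
          intro i
          simp only [mul_assoc]
        simp only [h1, ← Finset.sum_mul, m.hba]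
        rw [← hz2, ← mul_assoc, hc, mul_assoc, heε]
      right_inv := by
        intro f
        funext k
        apply Subtype.ext
        change m.a k * (∑ i, m.b i * (f i : R)) = f k
        rw [Finset.mul_sum, Finset.sum_eq_single k]
        · rw [← mul_assoc, m.hab, if_pos rfl, (f k).2.1]
        · intro i _ hi
          rw [← mul_assoc, m.hab, if_neg (Ne.symm hi), zero_mul]
        · intro h
          exact absurd (Finset.mem_univ _) h }
  rw [T.finrank_eq]
  simp [Module.finrank_pi_fintype]

include m in
/-- Central elements of the corner come from central elements of the block. -/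
theorem exists_central (hc : ∀ x, e * x = x * e) (k0 : Fin s) {c : R} (hcA : c ∈ zA K ε) :
    ∃ z ∈ zR K e, m.a k0 * z * m.b k0 = c ∧ (e * ε = ε → z * ε = c) := by
  have hz2 : ∀ x, (∑ k, m.b k * c * m.a k) * x = x * (∑ k, m.b k * c * m.a k) := by
    intro x
    have h1 : (∑ k, m.b k * c * m.a k) * x = ∑ k, ∑ l, m.b k * c * (m.a k * x * m.b l) * m.a l := by
      rw [Finset.sum_mul]
      apply Finset.sum_congr rfl
      intro k _
      have h2 : ∀ l, m.b k * c * (m.a k * x * m.b l) * m.a l =
          (m.b k * c * m.a k * x) * (m.b l * m.a l) := by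
        intro l
        simp only [mul_assoc]
      simp only [h2, ← Finset.mul_sum, m.hba]
      rw [mul_assoc _ x e, ← hc x, ← mul_assoc _ e x, mul_assoc _ _ e, m.ha']
    have h3 : x * (∑ k, m.b k * c * m.a k) = ∑ l, ∑ k, m.b k * (m.a k * x * m.b l) * c * m.a l := by
      rw [Finset.mul_sum]
      apply Finset.sum_congr rfl
      intro l _
      have h2 : ∀ k, m.b k * (m.a k * x * m.b l) * c * m.a l =
          (m.b k * m.a k) * (x * (m.b l * c * m.a l)) := by
        intro k
        simp only [mul_assoc]
      simp only [h2, ← Finset.sum_mul, m.hba]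
      rw [← mul_assoc e x, hc x, mul_assoc x e, ← mul_assoc e (m.b l * c), ← mul_assoc e (m.b l),
        m.hb']
    rw [h1, h3, Finset.sum_comm]
    apply Finset.sum_congr rfl
    intro l _
    apply Finset.sum_congr rfl
    intro k _
    have h4 : m.a k * x * m.b l ∈ crn K ε ε := by
      constructor
      · rw [← mul_assoc, ← mul_assoc, m.ha]
      · rw [mul_assoc, m.hb]
    rw [mul_assoc (m.b k), hcA.2 _ h4, ← mul_assoc (m.b k)]
  have hkey : m.a k0 * (∑ k, m.b k * c * m.a k) * m.b k0 = c := by
    rw [Finset.mul_sum, Finset.sum_mul, Finset.sum_eq_single k0]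
    · have h1 : m.a k0 * (m.b k0 * c * m.a k0) * m.b k0 =
          (m.a k0 * m.b k0) * c * (m.a k0 * m.b k0) := by simp only [mul_assoc]
      rw [h1, m.hab, if_pos rfl, hcA.1.1, hcA.1.2]
    · intro i _ hi
      have h1 : m.a k0 * (m.b i * c * m.a i) * m.b k0 =
          (m.a k0 * m.b i) * c * (m.a i * m.b k0) := by simp only [mul_assoc]
      rw [h1, m.hab i, if_neg hi, mul_zero]
    · intro h
      exact absurd (Finset.mem_univ _) h
  refine ⟨∑ k, m.b k * c * m.a k, ⟨?_, hz2⟩, hkey, ?_⟩
  · rw [Finset.mul_sum]
    apply Finset.sum_congr rfl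
    intro k _
    rw [← mul_assoc, ← mul_assoc, m.hb']
  · intro heε
    have h1 : m.a k0 * (∑ k, m.b k * c * m.a k) * m.b k0 =
        (∑ k, m.b k * c * m.a k) * ε := by
      rw [← hz2, mul_assoc, m.hab, if_pos rfl]
    rw [← h1, hkey]

include m in
theorem finrank_zA_le [FiniteDimensional K R] (hc : ∀ x, e * x = x * e) (hs : 0 < s) :
    finrank K (zA K ε) ≤ finrank K (zR K e) := by
  let T : zR K e →ₗ[K] R :=
    ((LinearMap.mulLeft K (m.a ⟨0, hs⟩)).comp (LinearMap.mulRight K (m.b ⟨0, hs⟩))).comp
      (zR K e).subtype
  have h1 : zA K ε ≤ LinearMap.range T := by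
    intro c hcA
    obtain ⟨z, hz, h2, -⟩ := exists_central (K := K) m hc ⟨0, hs⟩ hcA
    refine ⟨⟨z, hz⟩, ?_⟩
    change m.a ⟨0, hs⟩ * (z * m.b ⟨0, hs⟩) = c
    rw [← mul_assoc, h2]
  exact (Submodule.finrank_mono h1).trans (LinearMap.finrank_range_le T)

variable (K) in
/-- The span of the commutators in the corner. -/
def cm (ε : R) : Submodule K R :=
  Submodule.span K {w | ∃ a ∈ crn K ε ε, ∃ b ∈ crn K ε ε, w = a * b - b * a}

theorem finrank_le_zA_cm [FiniteDimensional K R] (hε : ε * ε = ε) (t : R →ₗ[K] K)
    (ht : ∀ x y, t (x * y) = t (y * x)) (hnd : ∀ x, (∀ y, t (x * y) = 0) → x = 0) :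
    finrank K (crn K ε ε) ≤ finrank K (zA K ε) + finrank K (cm K ε) := by
  let Φ : crn K ε ε →ₗ[K] Module.Dual K (cm K ε) :=
    { toFun := fun c => (t.comp (LinearMap.mulLeft K (c : R))).comp (cm K ε).subtype
      map_add' := by
        intro x y
        ext w
        change t ((x + y : R) * w) = t (x * w) + t (y * w)
        rw [add_mul, map_add]
      map_smul' := by
        intro c x
        ext w
        change t ((c • (x : R)) * w) = c * t (x * w)
        rw [smul_mul_assoc, map_smul, smul_eq_mul] }
  have h1 : (LinearMap.ker Φ).map (crn K ε ε).subtype ≤ zA K ε := by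
    rintro _ ⟨⟨c, hcA⟩, hc, rfl⟩
    refine ⟨hcA, ?_⟩
    intro a ha
    change c * a = a * c
    have h2 : ∀ b ∈ crn K ε ε, t ((c * a - a * c) * b) = 0 := by
      intro b hb
      have h3 := LinearMap.congr_fun hc ⟨a * b - b * a, Submodule.subset_span ⟨a, ha, b, hb, rfl⟩⟩
      change t (c * (a * b - b * a)) = 0 at h3
      rw [mul_sub, map_sub, ← mul_assoc, ← mul_assoc, ht (c * b) a, ← mul_assoc, ← map_sub,
        ← sub_mul] at h3
      exact h3
    have h4 : c * a - a * c = 0 := by
      apply hnd
      intro y
      have h5 : (c * a - a * c) = ε * (c * a - a * c) * ε := by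
        rw [mul_sub, sub_mul, ← mul_assoc, hcA.1, mul_assoc c, ha.2, ← mul_assoc, ha.1,
          mul_assoc a, hcA.2]
      have h6 : t ((c * a - a * c) * y) = t ((c * a - a * c) * (ε * y * ε)) := by
        conv_lhs => rw [h5]
        rw [mul_assoc, mul_assoc, ht, mul_assoc, mul_assoc]
      rw [h6]
      apply h2
      constructor
      · rw [← mul_assoc, ← mul_assoc, hε]
      · rw [mul_assoc, hε]
    exact sub_eq_zero.mp h4
  have h2 := LinearMap.finrank_range_add_finrank_ker Φ
  have h3 : finrank K (LinearMap.range Φ) ≤ finrank K (cm K ε) := by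
    have := Submodule.finrank_le (LinearMap.range Φ)
    rwa [Subspace.dual_finrank_eq] at this
  have h4 : finrank K (LinearMap.ker Φ) ≤ finrank K (zA K ε) := by
    have h5 := Submodule.finrank_mono h1
    rwa [Submodule.finrank_map_subtype_eq] at h5
  omega

end one

end Cfsg.Agent.H27.Md
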