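import Mathlib
import Cfsg.Agent.H27.Md4

set_option autoImplicit false
set_option linter.style.haveILetI false

/-!
# Dimensions of projective modules
-/

namespace Cfsg.Agent.H27.Md

open Module

section nil

variable {K V : Type*} [Field K] [AddCommGroup V] [Module K V] [FiniteDimensional K V]

theorem ker_pow_le (f : V →ₗ[K] V) (W : Submodule K V) (hW : ∀ w ∈ W, f w ∈ W) (k : ℕ) :
    finrank K (W ⊓ LinearMap.ker (f ^ k) : Submodule K V) ≤
      k * finrank K (W ⊓ LinearMap.ker f : Submodule K V) := by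
  induction k with
  | zero =>
    have h1 : (W ⊓ LinearMap.ker (f ^ 0) : Submodule K V) = ⊥ := by
      rw [eq_bot_iff]
      rintro x ⟨-, hx⟩
      simpa using hx
    rw [h1]
    simp
  | succ k ih =>
    set U : Submodule K V := W ⊓ LinearMap.ker (f ^ (k + 1)) with hU
    have h1 := LinearMap.finrank_range_add_finrank_ker (f.domRestrict U)
    have h2 : LinearMap.range (f.domRestrict U) ≤ W ⊓ LinearMap.ker (f ^ k) := by
      rintro _ ⟨⟨u, hu1, hu2⟩, rfl⟩
      refine ⟨hW u hu1, ?_⟩
      change (f ^ k) (f u) = 0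
      have h3 : (f ^ (k + 1)) u = 0 := hu2
      rwa [pow_succ] at h3
    have h3 : (LinearMap.ker (f.domRestrict U)).map U.subtype ≤ W ⊓ LinearMap.ker f := by
      rintro _ ⟨⟨u, hu1, hu2⟩, hu, rfl⟩
      exact ⟨hu1, hu⟩
    have h4 := Submodule.finrank_mono h2
    have h5 := Submodule.finrank_mono h3
    rw [Submodule.finrank_map_subtype_eq] at h5
    rw [add_mul, one_mul]
    omega

theorem finrank_le_of_pow (f : V →ₗ[K] V) (W : Submodule K V) (hW : ∀ w ∈ W, f w ∈ W) (k : ℕ)
    (hk : ∀ w ∈ W, (f ^ k) w = 0) :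
    finrank K W ≤ k * finrank K (W ⊓ LinearMap.ker f : Submodule K V) := by
  have h1 := ker_pow_le f W hW k
  have h2 : (W ⊓ LinearMap.ker (f ^ k) : Submodule K V) = W := by
    apply le_antisymm inf_le_left
    intro w hw
    exact ⟨hw, hk w hw⟩
  rwa [h2] at h1

end nil

section grp

variable {K V G : Type*} [Field K] [AddCommGroup V] [Module K V] [FiniteDimensional K V]
  [Group G] [Finite G] {p : ℕ} [hp : Fact p.Prime] [CharP K p]

/-- Fixed points. -/
def fxr (ρ : Representation K G V) (Q : Subgroup G) : Submodule K V where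
  carrier := {v | ∀ q ∈ Q, ρ q v = v}
  add_mem' := by
    intro a b ha hb q hq
    rw [map_add, ha q hq, hb q hq]
  zero_mem' := fun q _ => map_zero _
  smul_mem' := by
    intro c a ha q hq
    rw [map_smul, ha q hq]

theorem finrank_le_fxr (ρ : Representation K G V) (n : ℕ) : ∀ (Q : Subgroup G)
    (_ : Nat.card Q = p ^ n) (W : Submodule K V) (_ : ∀ g ∈ Q, ∀ w ∈ W, ρ g w ∈ W),
    finrank K W ≤ p ^ n * finrank K (W ⊓ fxr ρ Q : Submodule K V) := by
  induction n with
  | zero =>
    intro Q hQ W hW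
    rw [pow_zero, Subgroup.card_eq_one] at hQ
    have h1 : (W ⊓ fxr ρ Q : Submodule K V) = W := by
      apply le_antisymm inf_le_left
      intro w hw
      refine ⟨hw, ?_⟩
      intro q hq
      rw [hQ, Subgroup.mem_bot] at hq
      rw [hq, map_one]
      rfl
    rw [h1]
    simp
  | succ n ih =>
    intro Q hQ W hW
    obtain ⟨Q', hQ'⟩ : ∃ Q' : Subgroup Q, Nat.card Q' = p ^ n :=
      Sylow.exists_subgroup_card_pow_prime p (by rw [hQ]; exact pow_dvd_pow p (Nat.le_succ n))
    have hidx : Q'.index = p := by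
      have h1 := Q'.card_mul_index
      rw [hQ', hQ, pow_succ] at h1
      exact Nat.eq_of_mul_eq_mul_left (pow_pos hp.out.pos n) h1
    have hnorm : Q'.Normal := by
      apply Subgroup.normal_of_index_eq_minFac_card
      rw [hidx, hQ, Nat.pow_minFac (Nat.succ_ne_zero n), hp.out.minFac_eq]
    obtain ⟨z, hz⟩ : ∃ z : Q, z ∉ Q' := by
      by_contra hcon
      push Not at hcon
      have : Q' = ⊤ := eq_top_iff.mpr fun x _ => hcon x
      rw [this, Subgroup.index_top] at hidx
      exact hp.out.one_lt.ne hidx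
    have hzp : z ^ p ∈ Q' := by
      rw [← hidx]
      exact Q'.pow_index_mem z
    have hgen : ∀ x : Q, ∃ k : ℕ, ∃ y ∈ Q', x = z ^ k * y := by
      intro x
      have h1 : Nat.card (Q ⧸ Q') = p := hidx
      haveI : Fact (Nat.Prime p) := hp
      have hz1 : (z : Q ⧸ Q') ≠ 1 := by
        rw [Ne, QuotientGroup.eq_one_iff]
        exact hz
      have h2 : (x : Q ⧸ Q') ∈ Subgroup.zpowers (z : Q ⧸ Q') := mem_zpowers_of_prime_card h1 hz1
      obtain ⟨k, hk⟩ := mem_powers_iff_mem_zpowers.mpr h2
      beta_reduce at hk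
      refine ⟨k, (z ^ k)⁻¹ * x, ?_, by group⟩
      rw [← QuotientGroup.eq_one_iff, QuotientGroup.mk_mul, QuotientGroup.mk_inv,
        QuotientGroup.mk_pow, ← hk, inv_mul_cancel]
    let Q'' : Subgroup G := Q'.map Q.subtype
    have hQ''le : Q'' ≤ Q := by
      rintro _ ⟨y, -, rfl⟩
      exact y.2
    have h1 := ih Q'' (by rw [Subgroup.card_map_of_injective (Subgroup.subtype_injective _), hQ'])
      W (fun g hg w hw => hW g (hQ''le hg) w hw)
    -- the action of z on the fixed points of Q''
    set W' : Submodule K V := W ⊓ fxr ρ Q'' with hW'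
    have hzW' : ∀ w ∈ W', ρ z w ∈ W' := by
      rintro w ⟨hw1, hw2⟩
      refine ⟨hW z z.2 w hw1, ?_⟩
      rintro _ ⟨y, hy, rfl⟩
      have h2 : (z⁻¹ * y * z : Q) ∈ Q' := by
        have := hnorm.conj_mem y hy z⁻¹
        rwa [inv_inv] at this
      have h3 := hw2 ((z⁻¹ * y * z : Q) : G) ⟨_, h2, rfl⟩
      have h4 : ρ (y : G) (ρ z w) = ρ z (ρ ((z⁻¹ * y * z : Q) : G) w) := by
        rw [← Module.End.mul_apply, ← map_mul, ← Module.End.mul_apply, ← map_mul]
        congr 2
        push_cast
        group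
      change ρ (y : G) (ρ z w) = ρ z w
      rw [h4, h3]
    have h2 := finrank_le_of_pow (ρ z - 1) W' (fun w hw => sub_mem (hzW' w hw) hw) p (by
      intro w hw
      rcases subsingleton_or_nontrivial V with hV | hV
      · exact Subsingleton.elim _ _
      haveI : CharP (V →ₗ[K] V) p :=
        charP_of_injective_algebraMap (algebraMap K (Module.End K V)).injective p
      have h3 : (ρ z - 1) ^ p = ρ (z ^ p : Q) - 1 := by
        rw [sub_pow_char_of_commute p (Commute.one_right _), one_pow]
        push_cast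
        rw [map_pow]
      have h4 : ρ ((z ^ p : Q) : G) w = w := hw.2 _ ⟨z ^ p, hzp, rfl⟩
      rw [h3, LinearMap.sub_apply, h4]
      exact sub_self _)
    have h3 : (W' ⊓ LinearMap.ker (ρ z - 1) : Submodule K V) ≤ W ⊓ fxr ρ Q := by
      rintro w ⟨⟨hw1, hw2⟩, hw3⟩
      refine ⟨hw1, ?_⟩
      have hzw : ρ z w = w := by
        have : ρ z w - w = 0 := hw3
        exact sub_eq_zero.mp this
      have hzk : ∀ k : ℕ, ρ ((z : G) ^ k) w = w := by
        intro k
        induction k with
        | zero => rw [pow_zero, map_one]; rfl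
        | succ k ihk => rw [pow_succ, map_mul, Module.End.mul_apply, hzw, ihk]
      intro q hq
      obtain ⟨k, y, hy, hqk⟩ := hgen ⟨q, hq⟩
      have h4 : q = (z : G) ^ k * y := by
        have := congrArg Subtype.val hqk
        simpa using this
      rw [h4, map_mul, Module.End.mul_apply, hw2 y ⟨y, hy, rfl⟩, hzk]
    have h4 := Submodule.finrank_mono h3
    calc finrank K W ≤ p ^ n * finrank K W' := h1
      _ ≤ p ^ n * (p * finrank K (W' ⊓ LinearMap.ker (ρ z - 1) : Submodule K V)) :=
          Nat.mul_le_mul_left _ h2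
      _ ≤ p ^ n * (p * finrank K (W ⊓ fxr ρ Q : Submodule K V)) :=
          Nat.mul_le_mul_left _ (Nat.mul_le_mul_left _ h4)
      _ = p ^ (n + 1) * finrank K (W ⊓ fxr ρ Q : Submodule K V) := by ring

end grp

section reg

variable {K G : Type*} [Field K] [Group G] [Finite G] {p : ℕ} [hp : Fact p.Prime] [CharP K p]

variable (K G) in
/-- Left regular representation. -/
noncomputable def lreg : Representation K G (MonoidAlgebra K G) where
  toFun g := LinearMap.mulLeft K (MonoidAlgebra.single g 1)
  map_one' := by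
    refine LinearMap.ext fun x => ?_
    change MonoidAlgebra.single 1 1 * x = x
    rw [← MonoidAlgebra.one_def, one_mul]
  map_mul' := by
    intro g h
    refine LinearMap.ext fun x => ?_
    change MonoidAlgebra.single (g * h) 1 * x =
      MonoidAlgebra.single g 1 * (MonoidAlgebra.single h 1 * x)
    rw [← mul_assoc, MonoidAlgebra.single_mul_single, one_mul]

theorem lreg_apply (g : G) (x : MonoidAlgebra K G) :
    lreg K G g x = MonoidAlgebra.single g 1 * x := rfl

instance instFinMA : FiniteDimensional K (MonoidAlgebra K G) := by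
  infer_instance

variable (K G) in
/-- Coefficients as a linear equivalence. -/
noncomputable def maEquiv : MonoidAlgebra K G ≃ₗ[K] (G → K) where
  toFun x g := x.coeff g
  invFun f := MonoidAlgebra.ofCoeff (Finsupp.equivFunOnFinite.symm f)
  map_add' := by
    intro x y
    funext c
    simp
  map_smul' := by
    intro r x
    funext c
    simp
  left_inv := by
    intro x
    ext g
    simp
  right_inv := by
    intro f
    funext g
    simp

omit hp in
theorem finrank_MA : finrank K (MonoidAlgebra K G) = Nat.card G := by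
  haveI := Fintype.ofFinite G
  rw [Nat.card_eq_fintype_card, (maEquiv K G).finrank_eq, Module.finrank_fintype_fun_eq_card]

theorem finrank_fxr_lreg (P : Subgroup G) :
    finrank K (fxr (lreg K G) P) ≤ P.index := by
  classical
  haveI := Fintype.ofFinite (Quotient (QuotientGroup.rightRel P))
  let Ψ : fxr (lreg K G) P →ₗ[K] (Quotient (QuotientGroup.rightRel P) → K) :=
    { toFun := fun x c => (x : MonoidAlgebra K G).coeff c.out
      map_add' := by
        intro x y
        funext c
        simp
      map_smul' := by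
        intro r x
        funext c
        simp }
  have hinj : Function.Injective Ψ := by
    rw [← LinearMap.ker_eq_bot, LinearMap.ker_eq_bot']
    rintro ⟨x, hx⟩ h
    apply Subtype.ext
    ext g
    have h1 := congrFun h (Quotient.mk _ g)
    change x.coeff (Quotient.out (Quotient.mk (QuotientGroup.rightRel P) g)) = 0 at h1
    have h2 : (QuotientGroup.rightRel P) (Quotient.out (Quotient.mk (QuotientGroup.rightRel P) g)) g :=
      Quotient.mk_out g
    rw [QuotientGroup.rightRel_apply] at h2
    have h3 := hx _ h2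
    rw [lreg_apply] at h3
    have h4 := congrArg (fun y : MonoidAlgebra K G => y.coeff g) h3
    simp only [MonoidAlgebra.coeff_single_mul_apply, one_mul] at h4
    change x.coeff g = 0
    rw [← h4]
    have h5 : (g * (Quotient.out (Quotient.mk (QuotientGroup.rightRel P) g))⁻¹)⁻¹ * g =
      Quotient.out (Quotient.mk (QuotientGroup.rightRel P) g) := by group
    rw [h5, h1]
  have h1 := LinearMap.finrank_le_finrank_of_injective hinj
  rw [Module.finrank_fintype_fun_eq_card, ← Nat.card_eq_fintype_card] at h1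
  refine h1.trans (le_of_eq ?_)
  rw [Subgroup.index]
  exact Nat.card_congr (QuotientGroup.quotientRightRelEquivQuotientLeftRel P)

theorem sylow_dvd (P : Subgroup G) {n : ℕ} (hP : Nat.card P = p ^ n) {ε : MonoidAlgebra K G}
    (hε : ε * ε = ε) : p ^ n ∣ finrank K (crn K 1 ε) := by
  have hst : ∀ δ : MonoidAlgebra K G, ∀ g ∈ P, ∀ w ∈ crn K 1 δ, lreg K G g w ∈ crn K 1 δ := by
    rintro δ g - w ⟨-, hw⟩
    refine ⟨one_mul _, ?_⟩
    rw [lreg_apply, mul_assoc, hw]
  have h1 := finrank_le_fxr (p := p) (lreg K G) n P hP (crn K 1 ε) (hst ε)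
  have h2 := finrank_le_fxr (p := p) (lreg K G) n P hP (crn K 1 (1 - ε)) (hst (1 - ε))
  have hsup : crn K 1 ε ⊔ crn K 1 (1 - ε) = ⊤ := by
    rw [eq_top_iff]
    intro x _
    have : x = x * ε + x * (1 - ε) := by rw [mul_sub, mul_one]; abel
    rw [this]
    apply Submodule.add_mem_sup
    · exact ⟨one_mul _, by rw [mul_assoc, hε]⟩
    · refine ⟨one_mul _, ?_⟩
      rw [mul_assoc, mul_sub, mul_one, sub_mul, one_mul, hε, sub_self, sub_zero]
  have hinf : crn K 1 ε ⊓ crn K 1 (1 - ε) = ⊥ := by
    rw [eq_bot_iff]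
    rintro x ⟨⟨-, h3⟩, ⟨-, h4⟩⟩
    rw [mul_sub, mul_one, h3, sub_self] at h4
    exact h4.symm ▸ zero_mem _
  have h3 := Submodule.finrank_sup_add_finrank_inf_eq (crn K 1 ε) (crn K 1 (1 - ε))
  rw [hsup, hinf, finrank_bot, finrank_top, finrank_MA, add_zero] at h3
  have hinf2 : (crn K 1 ε ⊓ fxr (lreg K G) P) ⊓ (crn K 1 (1 - ε) ⊓ fxr (lreg K G) P) = ⊥ := by
    rw [eq_bot_iff, ← hinf]
    exact le_inf (inf_le_left.trans inf_le_left) (inf_le_right.trans inf_le_left)
  have h4 := Submodule.finrank_sup_add_finrank_inf_eq (crn K 1 ε ⊓ fxr (lreg K G) P)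
    (crn K 1 (1 - ε) ⊓ fxr (lreg K G) P)
  rw [hinf2, finrank_bot, add_zero] at h4
  have h5 : finrank K ((crn K 1 ε ⊓ fxr (lreg K G) P) ⊔ (crn K 1 (1 - ε) ⊓ fxr (lreg K G) P) :
      Submodule K (MonoidAlgebra K G)) ≤ P.index :=
    (Submodule.finrank_mono (sup_le inf_le_right inf_le_right)).trans (finrank_fxr_lreg P)
  have h6 := P.card_mul_index
  rw [hP] at h6
  have h7 : p ^ n * (finrank K (crn K 1 ε ⊓ fxr (lreg K G) P : Submodule K (MonoidAlgebra K G)) +
      finrank K (crn K 1 (1 - ε) ⊓ fxr (lreg K G) P : Submodule K (MonoidAlgebra K G))) ≤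
      p ^ n * P.index := Nat.mul_le_mul_left _ (by omega)
  rw [mul_add] at h7
  have h8 : finrank K (crn K 1 ε) = p ^ n *
      finrank K (crn K 1 ε ⊓ fxr (lreg K G) P : Submodule K (MonoidAlgebra K G)) := by omega
  exact ⟨_, h8⟩

end reg

end Cfsg.Agent.H27.Md
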