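import Mathlib
import Cfsg.Agent.H27.Md1
import Cfsg.Agent.H27.Md6
import Cfsg.Agent.H26.MinMax
import Cfsg.Agent.H27.CentralChar
import Cfsg.Agent.H26.Star3

set_option autoImplicit false
set_option linter.style.haveILetI false

/-!
# Dimensions of block algebras and of their centers
-/

namespace Cfsg.Agent.H27.Md

open Module Cfsg Cfsg.Agent.H11 Cfsg.Agent.H26 Cfsg.Agent.H3 Matrix
open scoped ComplexConjugate

universe u

variable {G : Type u} [Group G] [Fintype G] {p : ℕ} {M : Ideal AlgInt} [hM : M.IsPrime]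
  {B : Set (IrrCharacter G)} (hB : IsPBlock M B)

/-- The block coefficients as elements of the local ring. -/
noncomputable def bc (x : G) : locRing M := ⟨blockCoeff B x, lr_blockCoeff hB x⟩

theorem ic_bc (x : G) : ic M (bc hB x) = blockCoeff B x := rfl

theorem rs_bc (x : G) : rs M (bc hB x) = (EG M B).coeff x := by
  rw [coeff_EG, ← ic_bc hB, rd_eq_rs]

theorem sum_blockCoeff_mul (x g : G) :
    ∑ h : G, blockCoeff B (x * h⁻¹) * blockCoeff B (h * g⁻¹) = blockCoeff B (x * g⁻¹) := by
  have h1 := fIdem_mul_self B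
  have h2 := congrArg (fun a : MonoidAlgebra ℂ G => a.coeff (x * g⁻¹)) h1
  beta_reduce at h2
  rw [coeff_mul_fintype, coeff_fIdem] at h2
  rw [← h2]
  refine Fintype.sum_equiv (Equiv.divLeft x) _ _ fun h => ?_
  rw [coeff_fIdem, coeff_fIdem]
  change _ = blockCoeff B (x / h) * blockCoeff B ((x / h)⁻¹ * (x * g⁻¹))
  congr 2
  · rw [div_eq_mul_inv]
  · rw [div_eq_mul_inv]
    group

theorem sum_bc_mul (x g : G) :
    ∑ h : G, bc hB (x * h⁻¹) * bc hB (h * g⁻¹) = bc hB (x * g⁻¹) := by
  apply ic_inj
  rw [map_sum]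
  simp only [map_mul, ic_bc]
  exact sum_blockCoeff_mul x g

/-- left multiplication by the block idempotent in coordinates -/
theorem coeff_EG_mul (z : MonoidAlgebra (KF M) G) (x : G) :
    (EG M B * z).coeff x = ∑ h : G, (EG M B).coeff (x * h⁻¹) * z.coeff h := by
  rw [coeff_mul_fintype, ← (Equiv.divLeft x).sum_comp]
  apply Finset.sum_congr rfl
  intro y _
  congr 2
  · simp [div_eq_mul_inv]
  · simp [div_eq_mul_inv]

theorem blockCoeff_one [Fintype (IrrCharacter G)] [DecidablePred (· ∈ B)] :
    (Nat.card G : ℂ) * blockCoeff B 1 = ∑ χ : IrrCharacter G with χ ∈ B, ((charDegree (χ : G → ℂ)) ^ 2 : ℂ) := by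
  unfold blockCoeff
  rw [finsum_mem_irr, ← mul_assoc, mul_inv_cancel₀ (by exact_mod_cast Nat.card_pos.ne'), one_mul]
  apply Finset.sum_congr rfl
  intro χ _
  rw [← charDegree_cast (irr_isChar χ.2), Complex.conj_natCast]
  ring

include hB in
theorem finrank_e [Fintype (IrrCharacter G)] [DecidablePred (· ∈ B)] :
    finrank (KF M) (crn (KF M) (EG M B) (EG M B)) =
      ∑ χ : IrrCharacter G with χ ∈ B, (charDegree (χ : G → ℂ)) ^ 2 := by
  classical
  let E : Matrix G G (locRing M) := Matrix.of fun x h => bc hB (x * h⁻¹)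
  have hE : E * E = E := by
    ext x g
    rw [Matrix.mul_apply]
    exact congrArg _ (sum_bc_mul hB x g)
  have h1 := rank_eq E hE
  have hE2 : E.map (ic M) * E.map (ic M) = E.map (ic M) := by rw [← Matrix.map_mul, hE]
  have h2 := rank_eq_trace _ hE2
  have h3 : (E.map (ic M)).trace = (Nat.card G : ℂ) * blockCoeff B 1 := by
    rw [Matrix.trace]
    have h4 : ∀ x : G, (E.map (ic M)).diag x = blockCoeff B 1 := by
      intro x
      change blockCoeff B (x * x⁻¹) = _
      rw [mul_inv_cancel]
    rw [Finset.sum_congr rfl fun x _ => h4 x, Finset.sum_const, Finset.card_univ, nsmul_eq_mul,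
      Nat.card_eq_fintype_card]
  rw [h3, blockCoeff_one] at h2
  have h5 : (crn (KF M) (EG M B) (EG M B)).map (maEquiv (KF M) G).toLinearMap =
      LinearMap.range (E.map (rs M)).mulVecLin := by
    ext v
    constructor
    · rintro ⟨z, hz, rfl⟩
      refine ⟨maEquiv (KF M) G z, ?_⟩
      funext x
      change ∑ h : G, rs M (bc hB (x * h⁻¹)) * z.coeff h = z.coeff x
      simp only [rs_bc]
      rw [← coeff_EG_mul, hz.1]
    · rintro ⟨w, rfl⟩
      refine ⟨EG M B * (maEquiv (KF M) G).symm w, ?_, ?_⟩
      · have h6 : EG M B * EG M B = EG M B := (isBlk_EG hB).idem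
        constructor
        · rw [← mul_assoc, h6]
        · have h7 : ∀ a : MonoidAlgebra (KF M) G, EG M B * a = a * EG M B :=
            fun a => (Zc_commute (isBlk_EG hB).mem (isSup_top a)).eq
          rw [mul_assoc, ← h7, ← mul_assoc, h6]
      · funext x
        change (EG M B * (maEquiv (KF M) G).symm w).coeff x = ∑ h : G, rs M (bc hB (x * h⁻¹)) * w h
        rw [coeff_EG_mul]
        simp only [rs_bc]
        apply Finset.sum_congr rfl
        intro h _
        congr 1
  have h6 : finrank (KF M) (crn (KF M) (EG M B) (EG M B)) = (E.map (rs M)).rank := by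
    rw [Matrix.rank, ← h5]
    exact (LinearEquiv.finrank_map_eq (maEquiv (KF M) G) _).symm
  rw [h6, h1]
  exact_mod_cast h2

theorem EG_comm (a : MonoidAlgebra (KF M) G) : EG M B * a = a * EG M B :=
  (Zc_commute (EG_mem_Zc B) (isSup_top a)).eq

theorem blockCoeff_conj' {x y : G} (h : IsConj x y) : blockCoeff B x = blockCoeff B y :=
  blockCoeff_conj h

open Classical in
/-- The matrix of multiplication by the block idempotent on class functions. -/
noncomputable def Zm : Matrix (ConjClasses G) (ConjClasses G) (locRing M) :=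
  Matrix.of fun l c => ∑ h : G with ConjClasses.mk h = c, bc hB (Quotient.out l * h⁻¹)

theorem mk_out (c : ConjClasses G) : ConjClasses.mk (Quotient.out c) = c := Quotient.out_eq c

open Classical in
theorem sum_class {R : Type*} [AddCommMonoid R] (F : ConjClasses G → G → R) :
    ∑ c : ConjClasses G, ∑ h : G with ConjClasses.mk h = c, F c h =
      ∑ h : G, F (ConjClasses.mk h) h := by
  have h1 := Finset.sum_fiberwise (Finset.univ : Finset G) (fun h => ConjClasses.mk h)
    (fun h => F (ConjClasses.mk h) h)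
  rw [← h1]
  apply Finset.sum_congr rfl
  intro c _
  apply Finset.sum_congr rfl
  intro h hh
  rw [(Finset.mem_filter.mp hh).2]

open Classical in
/-- The class-summed idempotent coefficient is a class function. -/
theorem sum_bc_class (c : ConjClasses G) {x y : G} (hxy : IsConj x y) :
    ∑ h : G with ConjClasses.mk h = c, bc hB (x * h⁻¹) =
      ∑ h : G with ConjClasses.mk h = c, bc hB (y * h⁻¹) := by
  obtain ⟨a, rfl⟩ := isConj_iff.mp hxy
  apply Finset.sum_bij (fun h _ => a * h * a⁻¹)
  · intro h hh
    rw [Finset.mem_filter] at hh ⊢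
    refine ⟨Finset.mem_univ _, ?_⟩
    rw [← hh.2, ConjClasses.mk_eq_mk_iff_isConj]
    exact (isConj_iff.mpr ⟨a, rfl⟩).symm
  · intro h _ k _ hk
    exact mul_left_cancel (mul_right_cancel hk)
  · intro h hh
    refine ⟨a⁻¹ * h * a, ?_, by group⟩
    rw [Finset.mem_filter] at hh ⊢
    refine ⟨Finset.mem_univ _, ?_⟩
    rw [← hh.2, ConjClasses.mk_eq_mk_iff_isConj]
    exact isConj_iff.mpr ⟨a, by group⟩
  · intro h _
    apply Subtype.ext
    change blockCoeff B _ = blockCoeff B _
    apply blockCoeff_conj'
    exact isConj_iff.mpr ⟨a, by group⟩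

open Classical in
theorem Zm_mul : Zm hB * Zm hB = Zm hB := by
  ext l m : 1
  rw [Matrix.mul_apply]
  change ∑ c, (∑ h : G with ConjClasses.mk h = c, bc hB (Quotient.out l * h⁻¹)) *
    (∑ k : G with ConjClasses.mk k = m, bc hB (Quotient.out c * k⁻¹)) =
      ∑ k : G with ConjClasses.mk k = m, bc hB (Quotient.out l * k⁻¹)
  have h1 : ∀ c : ConjClasses G, (∑ h : G with ConjClasses.mk h = c, bc hB (Quotient.out l * h⁻¹)) *
    (∑ k : G with ConjClasses.mk k = m, bc hB (Quotient.out c * k⁻¹)) =
      ∑ h : G with ConjClasses.mk h = c, bc hB (Quotient.out l * h⁻¹) *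
        (∑ k : G with ConjClasses.mk k = m, bc hB (h * k⁻¹)) := by
    intro c
    rw [Finset.sum_mul]
    apply Finset.sum_congr rfl
    intro h hh
    congr 1
    apply sum_bc_class
    rw [← ConjClasses.mk_eq_mk_iff_isConj, (Finset.mem_filter.mp hh).2, mk_out]
  rw [Finset.sum_congr rfl fun c _ => h1 c, sum_class (fun c h => bc hB (Quotient.out l * h⁻¹) *
        (∑ k : G with ConjClasses.mk k = m, bc hB (h * k⁻¹)))]
  simp only [Finset.mul_sum]
  rw [Finset.sum_comm]
  apply Finset.sum_congr rfl
  intro k _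
  exact sum_bc_mul hB _ k

open Classical in
theorem Zm_trace : ((Zm hB).map (ic M)).trace = Nat.card B := by
  haveI := Fintype.ofFinite (IrrCharacter G)
  have h1 : ((Zm hB).map (ic M)).trace = ∑ l : ConjClasses G, ∑ h : G with ConjClasses.mk h = l,
      blockCoeff B (Quotient.out l * h⁻¹) := by
    rw [Matrix.trace]
    apply Finset.sum_congr rfl
    intro l _
    change ic M (∑ h : G with ConjClasses.mk h = l, bc hB (Quotient.out l * h⁻¹)) = _
    rw [map_sum]
    rfl
  -- average over conjugates
  have h2 : ∀ g : G,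
      ∑ k : G with ConjClasses.mk k = ConjClasses.mk g,
          blockCoeff B (Quotient.out (ConjClasses.mk g) * k⁻¹) =
        ∑ k : G with IsConj g k, blockCoeff B (g * k⁻¹) := by
    intro g
    have h3 := congrArg (ic M) (sum_bc_class hB (ConjClasses.mk g)
      (x := Quotient.out (ConjClasses.mk g)) (y := g) (by
        rw [← ConjClasses.mk_eq_mk_iff_isConj, mk_out]))
    rw [map_sum, map_sum] at h3
    refine h3.trans ?_
    apply Finset.sum_congr
    · ext k
      simp only [Finset.mem_filter, Finset.mem_univ, true_and]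
      rw [ConjClasses.mk_eq_mk_iff_isConj]
      exact ⟨IsConj.symm, IsConj.symm⟩
    · intro k _
      rfl
  have hG : (Nat.card G : ℂ) ≠ 0 := by exact_mod_cast Nat.card_pos.ne'
  have h4 := sum_conjClasses_eq (G := G) (fun l => ∑ h : G with ConjClasses.mk h = l,
      blockCoeff B (Quotient.out l * h⁻¹))
  beta_reduce at h4
  rw [← h1] at h4
  have h5 : ∀ g : G, (Nat.card (Subgroup.centralizer ({g} : Set G)) : ℂ) *
      ∑ k : G with ConjClasses.mk k = ConjClasses.mk g,
          blockCoeff B (Quotient.out (ConjClasses.mk g) * k⁻¹) =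
      ∑ χ : IrrCharacter G with χ ∈ B, (χ : G → ℂ) g⁻¹ * conj ((χ : G → ℂ) g⁻¹) := by
    intro g
    rw [h2, ← nsmul_eq_mul, ← H3.sum_conj_eq (fun k => blockCoeff B (g * k⁻¹)) g]
    have h6 := sum_blockCoeff_conj B g⁻¹ g⁻¹
    rw [kr_eq] at h6
    rw [← h6]
    apply Finset.sum_congr rfl
    intro c _
    congr 1
    group
  rw [Finset.sum_congr rfl fun g _ => h5 g, Finset.sum_comm] at h4
  have h7 : ∀ χ : IrrCharacter G, ∑ g : G, (χ : G → ℂ) g⁻¹ * conj ((χ : G → ℂ) g⁻¹) =
      Nat.card G := by
    intro χ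
    have h8 := (classInner_irr' χ χ)
    rw [if_pos rfl, classInner] at h8
    rw [← Equiv.sum_comp (Equiv.inv G)]
    simp only [Equiv.inv_apply, inv_inv]
    field_simp at h8
    exact h8
  rw [Finset.sum_congr rfl fun χ _ => h7 χ, Finset.sum_const, nsmul_eq_mul, mul_comm] at h4
  have h9 := mul_left_cancel₀ hG h4
  rw [← h9, Nat.card_eq_card_toFinset]
  congr 2
  ext χ
  simp

include hB in
/-- The dimension of the center of the block algebra is the number of characters. -/
theorem finrank_zR : finrank (KF M) (zR (KF M) (EG M B)) = Nat.card B := by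
  classical
  have h1 := rank_eq (Zm hB) (Zm_mul hB)
  have hE2 : (Zm hB).map (ic M) * (Zm hB).map (ic M) = (Zm hB).map (ic M) := by
    rw [← Matrix.map_mul, Zm_mul]
  have h2 := rank_eq_trace _ hE2
  rw [Zm_trace] at h2
  have h3 : (((Zm hB).map (ic M)).rank) = Nat.card B := by exact_mod_cast h2
  -- coordinates
  let Γ : zR (KF M) (EG M B) →ₗ[KF M] (ConjClasses G → KF M) :=
    { toFun := fun z c => (z : MonoidAlgebra (KF M) G).coeff (Quotient.out c)
      map_add' := by
        intro x y
        funext c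
        simp
      map_smul' := by
        intro r x
        funext c
        simp }
  have hcent : ∀ z : MonoidAlgebra (KF M) G, (∀ x, z * x = x * z) → ∀ g h : G, IsConj g h →
      z.coeff g = z.coeff h := by
    intro z hz g h hgh
    obtain ⟨a, rfl⟩ := isConj_iff.mp hgh
    have h4 := hz (MonoidAlgebra.single a 1)
    have h5 := congrArg (fun y : MonoidAlgebra (KF M) G => y.coeff (a * g)) h4
    simp only [MonoidAlgebra.coeff_mul_single_apply, MonoidAlgebra.coeff_single_mul_apply, one_mul,
      mul_one] at h5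
    rw [inv_mul_cancel_left] at h5
    exact h5.symm
  have hcent' : ∀ z : MonoidAlgebra (KF M) G, (∀ x, z * x = x * z) → ∀ g : G,
      z.coeff (Quotient.out (ConjClasses.mk g)) = z.coeff g := by
    intro z hz g
    apply hcent z hz
    rw [← ConjClasses.mk_eq_mk_iff_isConj, mk_out]
  have hinj : Function.Injective Γ := by
    rw [← LinearMap.ker_eq_bot, LinearMap.ker_eq_bot']
    rintro ⟨z, hz1, hz2⟩ h
    apply Subtype.ext
    ext g
    have h4 := congrFun h (ConjClasses.mk g)
    change z.coeff (Quotient.out (ConjClasses.mk g)) = 0 at h4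
    rw [hcent' z hz2] at h4
    exact h4
  -- the action of the matrix
  have hact : ∀ (v : ConjClasses G → KF M) (l : ConjClasses G),
      ((Zm hB).map (rs M)).mulVec v l = ∑ h : G, (EG M B).coeff (Quotient.out l * h⁻¹) *
        v (ConjClasses.mk h) := by
    intro v l
    change ∑ c : ConjClasses G, rs M (∑ h : G with ConjClasses.mk h = c,
      bc hB (Quotient.out l * h⁻¹)) * v c = _
    rw [← sum_class (fun c h => (EG M B).coeff (Quotient.out l * h⁻¹) * v c)]
    apply Finset.sum_congr rfl
    intro c _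
    rw [map_sum, Finset.sum_mul]
    apply Finset.sum_congr rfl
    intro h _
    rw [rs_bc]
  have hrange : LinearMap.range Γ = LinearMap.range ((Zm hB).map (rs M)).mulVecLin := by
    ext v
    constructor
    · rintro ⟨⟨z, hz1, hz2⟩, rfl⟩
      refine ⟨fun c => z.coeff (Quotient.out c), ?_⟩
      funext l
      rw [Matrix.mulVecLin_apply, hact]
      simp only [hcent' z hz2]
      rw [← coeff_EG_mul]
      exact congrArg (fun y : MonoidAlgebra (KF M) G => y.coeff (Quotient.out l)) hz1
    · rintro ⟨w, rfl⟩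
      let z : MonoidAlgebra (KF M) G := (maEquiv (KF M) G).symm fun g => w (ConjClasses.mk g)
      have hzc : ∀ g, z.coeff g = w (ConjClasses.mk g) := by
        intro g
        exact congrFun ((maEquiv (KF M) G).apply_symm_apply fun g => w (ConjClasses.mk g)) g
      have hz2 : ∀ x, z * x = x * z := by
        intro x
        have h4 : z ∈ Zc (KF M) (⊤ : Subgroup G) := by
          refine ⟨isSup_top _, ?_⟩
          rw [isFx_iff_coeff]
          intro g _ y
          rw [hzc, hzc]
          congr 1
          rw [ConjClasses.mk_eq_mk_iff_isConj]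
          exact (isConj_iff.mpr ⟨g, rfl⟩).symm
        exact (Zc_commute h4 (isSup_top x)).eq
      refine ⟨⟨EG M B * z, ?_, ?_⟩, ?_⟩
      · rw [← mul_assoc, (isBlk_EG hB).idem]
      · intro x
        rw [mul_assoc, hz2, ← mul_assoc, EG_comm, mul_assoc]
      · funext l
        rw [Matrix.mulVecLin_apply, hact]
        change (EG M B * z).coeff (Quotient.out l) = _
        rw [coeff_EG_mul]
        simp only [hzc]
  rw [← LinearMap.finrank_range_of_inj hinj, hrange]
  change ((Zm hB).map (rs M)).rank = _
  rw [h1, h3]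

end Cfsg.Agent.H27.Md
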