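import Mathlib
import Cfsg.Agent.H27.Md4

set_option autoImplicit false
set_option linter.style.haveILetI false

/-!
# Local corner algebras with one generator
-/

namespace Cfsg.Agent.H27.Md

open Module

variable {K R : Type*} [Field K] [Ring R] [Algebra K R]

theorem comm_of_gen {N : Submodule K R} {m : ℕ} (hm : N ^ m = ⊥) (hmul : N * N ≤ N) {x : R}
    (hx : x ∈ N) (hN : N ≤ Submodule.span K {x} ⊔ N * N) {a b : R} (ha : a ∈ N) (hb : b ∈ N) :
    a * b = b * a := by
  have hxj : ∀ j, x ^ j ∈ N ^ j := by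
    intro j
    exact Submodule.pow_mem_pow N hx j
  have h1 : ∀ j, N ^ (j + 1) ≤ Submodule.span K {x ^ (j + 1)} ⊔ N ^ (j + 2) := by
    intro j
    induction j with
    | zero => simpa [pow_two] using hN
    | succ j ih =>
      have h2 : N ^ (j + 1 + 1) ≤
          (Submodule.span K {x ^ (j + 1)} ⊔ N ^ (j + 2)) * (Submodule.span K {x} ⊔ N * N) := by
        rw [pow_succ N (j + 1)]
        exact mul_le_mul' ih hN
      refine h2.trans ?_
      rw [Submodule.sup_mul, Submodule.mul_sup, Submodule.mul_sup]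
      have hsx : Submodule.span K {x} ≤ N := by
        rw [Submodule.span_le]
        simpa using hx
      have hsxj : Submodule.span K {x ^ (j + 1)} ≤ N ^ (j + 1) := by
        rw [Submodule.span_le]
        simpa using hxj (j + 1)
      refine sup_le (sup_le ?_ ?_) (sup_le ?_ ?_)
      · rw [Submodule.span_mul_span]
        apply le_sup_of_le_left
        simp [pow_succ]
      · apply le_sup_of_le_right
        have : N ^ (j + 1 + 2) = N ^ (j + 1) * (N * N) := by
          rw [pow_add N (j + 1) 2, pow_two]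
        rw [this]
        exact mul_le_mul' hsxj le_rfl
      · apply le_sup_of_le_right
        have : N ^ (j + 1 + 2) = N ^ (j + 2) * N := by
          rw [← pow_succ]
        rw [this]
        exact mul_le_mul' le_rfl hsx
      · apply le_sup_of_le_right
        have : N ^ (j + 1 + 2) = N ^ (j + 2) * N := by
          rw [← pow_succ]
        rw [this]
        exact mul_le_mul' le_rfl hmul
  let S := Subalgebra.toSubmodule (Algebra.adjoin K {x})
  have hS : ∀ j, Submodule.span K {x ^ j} ≤ S := by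
    intro j
    rw [Submodule.span_le, Set.singleton_subset_iff]
    exact (Algebra.adjoin K {x}).pow_mem (Algebra.self_mem_adjoin_singleton K x) j
  have h2 : ∀ j, N ≤ S ⊔ N ^ (j + 1) := by
    intro j
    induction j with
    | zero => simp
    | succ j ih =>
      refine ih.trans (sup_le le_sup_left ((h1 j).trans (sup_le ?_ le_sup_right)))
      exact le_sup_of_le_left (hS _)
  have h3 : N ≤ S := by
    have h4 := h2 m
    rw [pow_succ, hm, Submodule.bot_mul, sup_bot_eq] at h4
    exact h4
  have ha' : a ∈ Algebra.adjoin K {x} := h3 ha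
  have hb' : b ∈ Algebra.adjoin K {x} := h3 hb
  rw [Algebra.adjoin_singleton_eq_range_aeval] at ha' hb'
  obtain ⟨f, rfl⟩ := ha'
  obtain ⟨g, rfl⟩ := hb'
  change Polynomial.aeval x f * Polynomial.aeval x g = Polynomial.aeval x g * Polynomial.aeval x f
  rw [← map_mul, ← map_mul, mul_comm]

theorem exists_gen [FiniteDimensional K R] {N : Submodule K R} (hmul : N * N ≤ N)
    (hd : finrank K N ≤ finrank K (N * N : Submodule K R) + 1) :
    ∃ x ∈ N, N ≤ Submodule.span K {x} ⊔ N * N := by
  by_cases h : N ≤ N * N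
  · exact ⟨0, zero_mem _, le_sup_of_le_right h⟩
  · obtain ⟨x, hx, hx2⟩ := Set.not_subset.mp h
    refine ⟨x, hx, ?_⟩
    have h1 : Submodule.span K {x} ⊔ N * N ≤ N := by
      refine sup_le ?_ hmul
      rw [Submodule.span_le, Set.singleton_subset_iff]
      exact hx
    have h2 : finrank K (N * N : Submodule K R) < finrank K (Submodule.span K {x} ⊔ N * N : Submodule K R) := by
      apply Submodule.finrank_lt_finrank_of_lt
      refine lt_of_le_of_ne le_sup_right ?_
      intro h3
      apply hx2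
      have : x ∈ Submodule.span K {x} ⊔ N * N :=
        Submodule.mem_sup_left (Submodule.mem_span_singleton_self x)
      rw [← h3] at this
      exact this
    exact (Submodule.eq_of_le_of_finrank_le h1 (by omega)).ge

variable {ε : R} {N : Submodule K R}

theorem finrank_corner [FiniteDimensional K R] (hεA : ε ∈ crn K ε ε) (hNA : N ≤ crn K ε ε)
    (hεN : ε ∉ N) (hdec : ∀ a ∈ crn K ε ε, ∃ c : K, a - c • ε ∈ N) :
    finrank K (crn K ε ε) = finrank K N + 1 := by
  have h1 : crn K ε ε = N ⊔ Submodule.span K {ε} := by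
    apply le_antisymm
    · intro a ha
      obtain ⟨c, hc⟩ := hdec a ha
      have : a = (a - c • ε) + c • ε := by abel
      rw [this]
      exact Submodule.add_mem_sup hc (Submodule.smul_mem _ _ (Submodule.mem_span_singleton_self ε))
    · refine sup_le hNA ?_
      rw [Submodule.span_le, Set.singleton_subset_iff]
      exact hεA
  have h2 : N ⊓ Submodule.span K {ε} = ⊥ := by
    rw [eq_bot_iff]
    rintro y ⟨h3, h4⟩
    obtain ⟨c, rfl⟩ := Submodule.mem_span_singleton.mp h4
    by_cases hc : c = 0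
    · rw [hc, zero_smul]
      exact zero_mem _
    · exfalso
      apply hεN
      have := N.smul_mem c⁻¹ h3
      rwa [smul_smul, inv_mul_cancel₀ hc, one_smul] at this
  have h3 := Submodule.finrank_sup_add_finrank_inf_eq N (Submodule.span K {ε})
  have hε0 : ε ≠ 0 := fun h => hεN (h ▸ zero_mem _)
  rw [h2, finrank_bot, finrank_span_singleton hε0, ← h1, add_zero] at h3
  exact h3

theorem cm_le (hε : ε * ε = ε) (hNA : N ≤ crn K ε ε)
    (hdec : ∀ a ∈ crn K ε ε, ∃ c : K, a - c • ε ∈ N) : cm K ε ≤ N * N := by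
  rw [cm, Submodule.span_le]
  rintro w ⟨a, ha, b, hb, rfl⟩
  obtain ⟨c, hc⟩ := hdec a ha
  obtain ⟨d, hd⟩ := hdec b hb
  have h1 : a * b - b * a = (a - c • ε) * (b - d • ε) - (b - d • ε) * (a - c • ε) := by
    simp only [mul_sub, sub_mul, smul_mul_assoc, mul_smul_comm, hε, ha.1, ha.2, hb.1, hb.2]
    module
  rw [h1]
  exact sub_mem (Submodule.mul_mem_mul hc hd) (Submodule.mul_mem_mul hd hc)

theorem corner_comm [FiniteDimensional K R] (hε : ε * ε = ε) (hNA : N ≤ crn K ε ε)
    (hdec : ∀ a ∈ crn K ε ε, ∃ c : K, a - c • ε ∈ N) {m : ℕ} (hm : N ^ m = ⊥)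
    (hmul : N * N ≤ N)
    (hd : finrank K N ≤ finrank K (N * N : Submodule K R) + 1) :
    ∀ a ∈ crn K ε ε, ∀ b ∈ crn K ε ε, a * b = b * a := by
  intro a ha b hb
  obtain ⟨x, hx, hN⟩ := exists_gen hmul hd
  obtain ⟨c, hc⟩ := hdec a ha
  obtain ⟨d, hd⟩ := hdec b hb
  have h2 := comm_of_gen hm hmul hx hN hc hd
  have h1 : a * b - b * a = (a - c • ε) * (b - d • ε) - (b - d • ε) * (a - c • ε) := by
    simp only [mul_sub, sub_mul, smul_mul_assoc, mul_smul_comm, hε, ha.1, ha.2, hb.1, hb.2]
    module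
  rw [h2, sub_self] at h1
  exact sub_eq_zero.mp h1

/-- If the center of the block is at most two-dimensional, then so is the corner. -/
theorem corner_le_two [FiniteDimensional K R] {e : R} {s : ℕ} (mu : MU e ε s) (hs : 0 < s)
    (hc : ∀ x, e * x = x * e)
    (t : R →ₗ[K] K)
    (ht : ∀ x y, t (x * y) = t (y * x)) (hnd : ∀ x, (∀ y, t (x * y) = 0) → x = 0)
    (hε : ε * ε = ε) (hNA : N ≤ crn K ε ε) (hεN : ε ∉ N)
    (hdec : ∀ a ∈ crn K ε ε, ∃ c : K, a - c • ε ∈ N) {m : ℕ} (hm : N ^ m = ⊥)
    (hmul : N * N ≤ N) (h2 : finrank K (zR K e) ≤ 2) : finrank K (crn K ε ε) ≤ 2 := by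
  have h3 := finrank_corner (K := K) ⟨hε, hε⟩ hNA hεN hdec
  have h4 := Submodule.finrank_mono (cm_le hε hNA hdec)
  have h5 := finrank_zA_le (K := K) mu hc hs
  have h6 := finrank_le_zA_cm hε t ht hnd
  have h7 := corner_comm hε hNA hdec hm hmul (by omega)
  have h8 : crn K ε ε ≤ zA K ε := fun c hc => ⟨hc, fun a ha => h7 c hc a ha⟩
  have h9 := Submodule.finrank_mono h8
  omega

end Cfsg.Agent.H27.Md
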