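import Mathlib
import Cfsg.Agent.H27.Md5

set_option autoImplicit false
set_option linter.style.haveILetI false

/-!
# The semisimple quotient of a finite-dimensional algebra
-/

namespace Cfsg.Agent.H27.Md

open Module

variable {K R : Type*} [Field K] [IsAlgClosed K] [Ring R] [Algebra K R] [FiniteDimensional K R]

theorem pow_sub_le (I : Ideal R) [I.IsTwoSided] (n : ℕ) :
    (I.restrictScalars K : Submodule K R) ^ (n + 1) ≤ (I ^ (n + 1)).restrictScalars K := by
  induction n with
  | zero =>
    rw [zero_add, pow_one]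
    intro x hx
    change x ∈ I ^ 1
    rw [Submodule.pow_one]
    exact hx
  | succ n ih =>
    rw [pow_succ]
    rw [Submodule.mul_le]
    intro a ha b hb
    change a * b ∈ I ^ (n + 1 + 1)
    rw [Submodule.pow_succ]
    exact Ideal.mul_mem_mul (ih ha) hb

variable (K R) in
theorem exists_pi : ∃ (n : ℕ) (d : Fin n → ℕ)
    (π : R →ₐ[K] (Π i : Fin n, Matrix (Fin (d i)) (Fin (d i)) K)),
    Function.Surjective π ∧ (∀ i, 0 < d i) ∧
      ∃ m, (LinearMap.ker π.toLinearMap : Submodule K R) ^ m = ⊥ := by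
  haveI : IsArtinianRing R := IsArtinianRing.of_finite K R
  haveI : IsSemisimpleRing (R ⧸ Ring.jacobson R) := IsSemiprimaryRing.isSemisimpleRing
  obtain ⟨k, hk⟩ : IsNilpotent (Ring.jacobson R) := IsSemiprimaryRing.isNilpotent
  obtain ⟨n, d, hd, ⟨eqv⟩⟩ := IsSemisimpleRing.exists_algEquiv_pi_matrix_of_isAlgClosed K
    (R ⧸ Ring.jacobson R)
  refine ⟨n, d, eqv.toAlgHom.comp (Ideal.Quotient.mkₐ K (Ring.jacobson R)), ?_, ?_, k + 1, ?_⟩
  · exact eqv.surjective.comp (Ideal.Quotient.mkₐ_surjective K _)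
  · intro i
    exact Nat.pos_of_ne_zero (hd i).out
  · have h1 : (LinearMap.ker (eqv.toAlgHom.comp
        (Ideal.Quotient.mkₐ K (Ring.jacobson R))).toLinearMap : Submodule K R) =
        (Ring.jacobson R).restrictScalars K := by
      ext x
      rw [LinearMap.mem_ker, Submodule.restrictScalars_mem]
      change eqv (Ideal.Quotient.mk (Ring.jacobson R) x) = 0 ↔ _
      rw [map_eq_zero_iff _ eqv.injective, Ideal.Quotient.eq_zero_iff_mem]
    rw [h1, eq_bot_iff]
    refine (pow_sub_le (K := K) (Ring.jacobson R) k).trans ?_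
    rw [Submodule.pow_succ, hk]
    intro x hx
    have h2 : x ∈ (0 : Ideal R) * Ring.jacobson R := hx
    have h3 : (0 : Ideal R) * Ring.jacobson R = 0 := Submodule.bot_mul _
    rw [h3] at h2
    exact h2

end Cfsg.Agent.H27.Md
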