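import Mathlib
import Cfsg.Agent.H27.Md2
import Cfsg.Agent.H27.Md7
import Cfsg.Agent.H27.Md8
import Cfsg.Agent.H26.Small2

set_option autoImplicit false
set_option linter.style.haveILetI false

/-!
# Blocks with one irreducible Brauer character: the simple quotient
-/

namespace Cfsg.Agent.H27.Md

open Module Cfsg Cfsg.Agent.H11 Cfsg.Agent.H26 Cfsg.Agent.H3 Matrix
open scoped ComplexConjugate

universe u

variable {G : Type u} [Group G] [Fintype G] {p : ℕ} {M : Ideal AlgInt} [hM : M.IsPrime]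

/-- The evaluation of an element of the group algebra at a function. -/
noncomputable def ev (x : MonoidAlgebra (KF M) G) : (G → KF M) →ₗ[KF M] KF M where
  toFun f := ∑ g : G, x.coeff g * f g
  map_add' := by
    intro f g
    simp [mul_add, Finset.sum_add_distrib]
  map_smul' := by
    intro c f
    simp only [Pi.smul_apply, smul_eq_mul, RingHom.id_apply, Finset.mul_sum]
    apply Finset.sum_congr rfl
    intro g _
    ring

theorem ev_apply (x : MonoidAlgebra (KF M) G) (f : G → KF M) :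
    ev x f = ∑ g : G, x.coeff g * f g := rfl

theorem ev_add (x y : MonoidAlgebra (KF M) G) (f : G → KF M) : ev (x + y) f = ev x f + ev y f := by
  simp [ev_apply, add_mul, Finset.sum_add_distrib]

theorem ev_smul (c : KF M) (x : MonoidAlgebra (KF M) G) (f : G → KF M) :
    ev (c • x) f = c * ev x f := by
  simp [ev_apply, Finset.mul_sum, mul_assoc]

theorem ev_sub (x y : MonoidAlgebra (KF M) G) (f : G → KF M) : ev (x - y) f = ev x f - ev y f := by
  simp [ev_apply, sub_mul, Finset.sum_sub_distrib]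

/-- The reduction of a character. -/
noncomputable abbrev rdc (M : Ideal AlgInt) [M.IsPrime] (χ : G → ℂ) : G → KF M := fun g => rd M (χ g)

open Classical in
/-- Multiplication by the block idempotent projects on the block. -/
theorem ev_EG_mul {B : Set (IrrCharacter G)} (hB : IsPBlock M B) (x : MonoidAlgebra (KF M) G)
    (χ : IrrCharacter G) :
    ev (EG M B * x) (rdc M (χ : G → ℂ)) = if χ ∈ B then ev x (rdc M (χ : G → ℂ)) else 0 := by
  have hex : ∀ g : G, ∃ z : ℂ, MemLocalRing M z ∧ rd M z = x.coeff g := fun g => rd_surjective _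
  choose X hX hX2 using hex
  have h1 : lin (χ : G → ℂ) (fIdem B * toAlg X) = if χ ∈ B then lin (χ : G → ℂ) (toAlg X) else 0 := by
    split_ifs with h
    · exact lin_fIdem_mul_of_mem h _
    · exact lin_fIdem_mul_of_not_mem h _
  rw [lin_apply, lin_apply] at h1
  have hc : ∀ g : G, MemLocalRing M ((fIdem B * toAlg X).coeff g) ∧
      rd M ((fIdem B * toAlg X).coeff g) = (EG M B * x).coeff g := by
    intro g
    rw [coeff_mul_fintype, coeff_mul_fintype]
    have h2 : ∀ y : G, MemLocalRing M ((fIdem B).coeff y * (toAlg X).coeff (y⁻¹ * g)) := by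
      intro y
      exact lr_mul (lr_blockCoeff hB y) (hX _)
    refine ⟨lr_sum _ _ fun y _ => h2 y, ?_⟩
    rw [rd_sum _ _ fun y _ => h2 y]
    apply Finset.sum_congr rfl
    intro y _
    rw [coeff_fIdem, coeff_toAlg, rd_mul (lr_blockCoeff hB y) (hX _), hX2, coeff_EG]
  have h3 := congrArg (rd M) h1
  have h4 : rd M (∑ g : G, (fIdem B * toAlg X).coeff g * (χ : G → ℂ) g) =
      ev (EG M B * x) (rdc M (χ : G → ℂ)) := by
    rw [rd_sum _ _ fun y _ => lr_mul (hc y).1 (lr_isChar hM (irr_isChar χ.2) _), ev_apply]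
    apply Finset.sum_congr rfl
    intro y _
    rw [rd_mul (hc y).1 (lr_isChar hM (irr_isChar χ.2) _), (hc y).2]
  have h5 : rd M (∑ g : G, (toAlg X).coeff g * (χ : G → ℂ) g) =
      ev x (rdc M (χ : G → ℂ)) := by
    simp only [coeff_toAlg]
    rw [rd_sum _ _ fun y _ => lr_mul (hX y) (lr_isChar hM (irr_isChar χ.2) _), ev_apply]
    apply Finset.sum_congr rfl
    intro y _
    rw [rd_mul (hX y) (lr_isChar hM (irr_isChar χ.2) _), hX2]
  rw [h4] at h3
  rw [h3]
  split_ifs with h
  · exact h5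
  · exact rd_zero

/-- A single function carries the reductions in a block with one Brauer character. -/
theorem exists_unit_char [hp : Fact p.Prime] (hMp : IsPModular p M) {B : Set (IrrCharacter G)}
    (hB : IsPBlock M B) (P : Subgroup G) (hP : IsDefectGroup p M B P) (hl : blockRank p B = 1) :
    ∃ f : G → KF M, (∃ n : IrrCharacter G → KF M, ∃ S : Finset (IrrCharacter G),
        (∀ χ ∈ S, χ ∈ B) ∧ f = ∑ χ ∈ S, n χ • rdc M (χ : G → ℂ)) ∧
      ∀ χ ∈ B, ∃ c : KF M, rdc M (χ : G → ℂ) = c • f := by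
  classical
  haveI := Fintype.ofFinite (IrrCharacter G)
  obtain ⟨φ, d, ⟨n, hn⟩, hd, -⟩ := st4675 p M hMp B hB P hP hl
  let f : G → KF M := ∑ χ : IrrCharacter G with χ ∈ B, (n χ : KF M) • rdc M (χ : G → ℂ)
  refine ⟨f, ⟨fun χ => (n χ : KF M), Finset.univ.filter (· ∈ B), fun χ hχ =>
    (Finset.mem_filter.mp hχ).2, rfl⟩, ?_⟩
  intro χ hχ
  refine ⟨(d χ : KF M), ?_⟩
  funext g
  obtain ⟨x, s, hxs, hcomm, hx, hs⟩ := exists_isPPart hp.out g
  have hred : ∀ ψ : IrrCharacter G, rd M ((ψ : G → ℂ) g) = rd M ((ψ : G → ℂ) s) := by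
    intro ψ
    rw [← hxs]
    exact rd_chi_mul hMp (irr_isChar ψ.2) hcomm hx
  change rd M ((χ : G → ℂ) g) = (d χ : KF M) * f g
  rw [hred, hd χ hχ s hs, hn s hs, finsum_mem_irr]
  have h1 : ∀ ψ : IrrCharacter G, MemLocalRing M ((n ψ : ℂ) * (ψ : G → ℂ) s) := fun ψ =>
    lr_mul (lr_intCast M _) (lr_isChar hM (irr_isChar ψ.2) _)
  rw [rd_mul (lr_natCast M _) (lr_sum _ _ fun ψ _ => h1 ψ), rd_natCast,
    rd_sum _ _ fun ψ _ => h1 ψ]
  congr 1
  simp only [f, Finset.sum_apply, Pi.smul_apply, smul_eq_mul]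
  apply Finset.sum_congr rfl
  intro ψ _
  rw [rd_mul (lr_intCast M _) (lr_isChar hM (irr_isChar ψ.2) _), rd_intCast, ← hred]

/-- The trace on the `i`-th simple component. -/
noncomputable def tra {n : ℕ} {d : Fin n → ℕ}
    (π : MonoidAlgebra (KF M) G →ₐ[KF M] (Π i : Fin n, Matrix (Fin (d i)) (Fin (d i)) (KF M)))
    (i : Fin n) (g : G) : KF M := (π (MonoidAlgebra.single g 1) i).trace

theorem ev_tra {n : ℕ} {d : Fin n → ℕ}
    (π : MonoidAlgebra (KF M) G →ₐ[KF M] (Π i : Fin n, Matrix (Fin (d i)) (Fin (d i)) (KF M)))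
    (i : Fin n) (x : MonoidAlgebra (KF M) G) : ev x (tra π i) = (π x i).trace := by
  have h1 : x = ∑ g : G, x.coeff g • MonoidAlgebra.single g (1 : KF M) := by
    conv_lhs => rw [← MonoidAlgebra.sum_coeff_single x]
    rw [Finsupp.sum_fintype]
    · apply Finset.sum_congr rfl
      intro g _
      rw [MonoidAlgebra.smul_single, smul_eq_mul, mul_one]
    · intro g
      exact MonoidAlgebra.single_zero _
  conv_rhs => rw [h1]
  rw [map_sum, Finset.sum_apply, Matrix.trace_sum, ev_apply]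
  apply Finset.sum_congr rfl
  intro g _
  rw [map_smul, Pi.smul_apply, Matrix.trace_smul, smul_eq_mul, tra]

theorem tra_conj {n : ℕ} {d : Fin n → ℕ}
    (π : MonoidAlgebra (KF M) G →ₐ[KF M] (Π i : Fin n, Matrix (Fin (d i)) (Fin (d i)) (KF M)))
    (i : Fin n) {g h : G} (hgh : IsConj g h) : tra π i g = tra π i h := by
  obtain ⟨a, rfl⟩ := isConj_iff.mp hgh
  unfold tra
  have h1 : MonoidAlgebra.single (a * g * a⁻¹) (1 : KF M) =
      MonoidAlgebra.single a 1 * MonoidAlgebra.single g 1 * MonoidAlgebra.single a⁻¹ 1 := by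
    simp [MonoidAlgebra.single_mul_single]
  rw [h1, map_mul, map_mul, Pi.mul_apply, Pi.mul_apply, Matrix.trace_mul_comm, ← mul_assoc,
    ← Pi.mul_apply, ← map_mul, MonoidAlgebra.single_mul_single, inv_mul_cancel, mul_one,
    ← MonoidAlgebra.one_def, map_one, Pi.one_apply, one_mul]

theorem tra_reg [hp : Fact p.Prime] (hMp : IsPModular p M) {n : ℕ} {d : Fin n → ℕ}
    (π : MonoidAlgebra (KF M) G →ₐ[KF M] (Π i : Fin n, Matrix (Fin (d i)) (Fin (d i)) (KF M)))
    (i : Fin n) {x s : G} (hcomm : Commute x s) (hx : ∃ k : ℕ, orderOf x = p ^ k) :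
    tra π i (x * s) = tra π i s := by
  haveI := charP_KF hMp
  obtain ⟨k, hk⟩ := hx
  have hd : 0 < d i ∨ d i = 0 := by omega
  rcases hd with hd | hd
  · unfold tra
    set X : Matrix (Fin (d i)) (Fin (d i)) (KF M) := π (MonoidAlgebra.single x 1) i with hX
    set S : Matrix (Fin (d i)) (Fin (d i)) (KF M) := π (MonoidAlgebra.single s 1) i with hS
    haveI : Nonempty (Fin (d i)) := ⟨⟨0, hd⟩⟩
    have h1 : π (MonoidAlgebra.single (x * s) 1) i = X * S := by
      rw [hX, hS, ← Pi.mul_apply, ← map_mul, MonoidAlgebra.single_mul_single, one_mul]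
    have h2 : X * S = S * X := by
      rw [← h1, hcomm.eq, hX, hS, ← Pi.mul_apply, ← map_mul, MonoidAlgebra.single_mul_single,
        one_mul]
    have h3 : X ^ (p ^ k) = 1 := by
      rw [hX, ← Pi.pow_apply, ← map_pow, MonoidAlgebra.single_pow, one_pow, ← hk,
        pow_orderOf_eq_one, ← MonoidAlgebra.one_def, map_one, Pi.one_apply]
    have h4 : (X - 1) ^ (p ^ k) = 0 := by
      haveI : CharP (Matrix (Fin (d i)) (Fin (d i)) (KF M)) p := inferInstance
      rw [sub_pow_char_pow_of_commute p k (Commute.one_right _), h3, one_pow, sub_self]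
    have h5 : Commute (X - 1) S := Commute.sub_left h2 (Commute.one_left _)
    have h6 : IsNilpotent ((X - 1) * S) := by
      refine ⟨p ^ k, ?_⟩
      rw [h5.mul_pow, h4, zero_mul]
    have h7 := Matrix.isNilpotent_trace_of_isNilpotent h6
    have h8 := h7.eq_zero
    rw [h1]
    rw [sub_mul, one_mul, Matrix.trace_sub, sub_eq_zero] at h8
    exact h8
  · unfold tra
    haveI : IsEmpty (Fin (d i)) := by rw [hd]; infer_instance
    simp [Matrix.trace]

/-- If all characters vanish at `x` then all simple traces vanish. -/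
theorem tr_eq_zero [hp : Fact p.Prime] (hMp : IsPModular p M) {n : ℕ} {d : Fin n → ℕ}
    (π : MonoidAlgebra (KF M) G →ₐ[KF M] (Π i : Fin n, Matrix (Fin (d i)) (Fin (d i)) (KF M)))
    {x : MonoidAlgebra (KF M) G} (h : ∀ χ : IrrCharacter G, ev x (rdc M (χ : G → ℂ)) = 0)
    (i : Fin n) : (π x i).trace = 0 := by
  rw [← ev_tra]
  exact L_tau (ev x) hMp h (tra π i) (fun g h hgh => tra_conj π i hgh)
    (fun x s hc hx _ => tra_reg hMp π i hc hx)

theorem pi_idem {n : ℕ} {d : Fin n → ℕ}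
    (π : MonoidAlgebra (KF M) G →ₐ[KF M] (Π i : Fin n, Matrix (Fin (d i)) (Fin (d i)) (KF M)))
    (hπ : Function.Surjective π) (hd : ∀ i, 0 < d i) {e : MonoidAlgebra (KF M) G} (he : e * e = e)
    (hc : ∀ x, e * x = x * e) (i : Fin n) : π e i = 0 ∨ π e i = 1 := by
  classical
  have h1 : ∀ j k : Fin (d i), Commute (Matrix.single j k (1 : KF M)) (π e i) := by
    intro j k
    obtain ⟨x, hx⟩ := hπ (Pi.single i (Matrix.single j k 1))
    have h2 := congrArg (fun y => π y i) (hc x)
    simp only [map_mul, Pi.mul_apply, hx, Pi.single_eq_same] at h2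
    exact h2.symm
  obtain ⟨c, hc'⟩ := Matrix.mem_range_scalar_iff_commute_single'.mpr h1
  have h3 : π e i * π e i = π e i := by rw [← Pi.mul_apply, ← map_mul, he]
  rw [← hc', ← map_mul] at h3
  haveI : Nonempty (Fin (d i)) := ⟨⟨0, hd i⟩⟩
  have h4 : c * c = c := Matrix.scalar_inj.mp h3
  rw [← hc']
  by_cases hc0 : c = 0
  · left
    rw [hc0, map_zero]
  · right
    have : c = 1 := mul_left_cancel₀ hc0 (by rw [h4, mul_one])
    rw [this, map_one]

/-- A block with one Brauer character has exactly one simple component. -/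
theorem block_single [hp : Fact p.Prime] (hMp : IsPModular p M) {B : Set (IrrCharacter G)}
    (hB : IsPBlock M B) (P : Subgroup G) (hP : IsDefectGroup p M B P) (hl : blockRank p B = 1)
    {n : ℕ} {d : Fin n → ℕ}
    (π : MonoidAlgebra (KF M) G →ₐ[KF M] (Π i : Fin n, Matrix (Fin (d i)) (Fin (d i)) (KF M)))
    (hπ : Function.Surjective π) (hd : ∀ i, 0 < d i) (hker : ∀ x, π x = 0 → IsNilpotent x) :
    ∃ i, π (EG M B) = Pi.single i 1 := by
  classical
  have he := (isBlk_EG hB).idem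
  have hne := (isBlk_EG hB).ne_zero
  have hc : ∀ x, EG M B * x = x * EG M B := EG_comm
  obtain ⟨f, -, hf⟩ := exists_unit_char hMp hB P hP hl
  have h1 : ∃ i, π (EG M B) i = 1 := by
    by_contra hcon
    push Not at hcon
    apply hne
    apply eq_zero_of_nil_idem he
    apply hker
    funext i
    rcases pi_idem π hπ hd he hc i with h | h
    · exact h
    · exact absurd h (hcon i)
  obtain ⟨i, hi⟩ := h1
  refine ⟨i, ?_⟩
  funext j
  by_cases hij : j = i
  · subst hij
    rw [Pi.single_eq_same, hi]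
  rw [Pi.single_eq_of_ne hij]
  rcases pi_idem π hπ hd he hc j with h | h
  · exact h
  exfalso
  obtain ⟨x, hx⟩ := hπ (Pi.single i (Matrix.single ⟨0, hd i⟩ ⟨0, hd i⟩ 1))
  obtain ⟨y, hy⟩ := hπ (Pi.single j (Matrix.single ⟨0, hd j⟩ ⟨0, hd j⟩ 1))
  have hx2 : π (EG M B * x) = Pi.single i (Matrix.single ⟨0, hd i⟩ ⟨0, hd i⟩ 1) := by
    rw [map_mul, hx]
    funext k
    rw [Pi.mul_apply]
    by_cases hk : k = i
    · subst hk
      rw [hi, one_mul]
    · rw [Pi.single_eq_of_ne hk, mul_zero]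
  have hy2 : π (EG M B * y) = Pi.single j (Matrix.single ⟨0, hd j⟩ ⟨0, hd j⟩ 1) := by
    rw [map_mul, hy]
    funext k
    rw [Pi.mul_apply]
    by_cases hk : k = j
    · subst hk
      rw [h, one_mul]
    · rw [Pi.single_eq_of_ne hk, mul_zero]
  have hz : ∀ χ : IrrCharacter G, ev (ev (EG M B * y) f • (EG M B * x) -
      ev (EG M B * x) f • (EG M B * y)) (rdc M (χ : G → ℂ)) = 0 := by
    intro χ
    rw [ev_sub, ev_smul, ev_smul, ev_EG_mul hB, ev_EG_mul hB]
    split_ifs with h2
    · obtain ⟨c, hc2⟩ := hf χ h2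
      have h3 := ev_EG_mul hB x χ
      have h4 := ev_EG_mul hB y χ
      rw [if_pos h2] at h3 h4
      rw [← h3, ← h4, hc2, map_smul, map_smul, smul_eq_mul, smul_eq_mul]
      ring
    · simp
  have h2 := tr_eq_zero hMp π hz i
  have h3 := tr_eq_zero hMp π hz j
  rw [map_sub, map_smul, map_smul, hx2, hy2, Pi.sub_apply, Pi.smul_apply, Pi.smul_apply,
    Pi.single_eq_same, Pi.single_eq_of_ne (Ne.symm hij), smul_zero, sub_zero, Matrix.trace_smul,
    Matrix.trace_single_eq_same, smul_eq_mul, mul_one] at h2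
  have h4 : ∀ χ : IrrCharacter G, ev (EG M B * y) (rdc M (χ : G → ℂ)) = 0 := by
    intro χ
    have h5 := ev_EG_mul hB y χ
    by_cases h6 : χ ∈ B
    · obtain ⟨c, hc2⟩ := hf χ h6
      rw [hc2, map_smul, h2, smul_zero]
    · rw [h5, if_neg h6]
  have h5 := tr_eq_zero hMp π h4 j
  rw [hy2, Pi.single_eq_same, Matrix.trace_single_eq_same] at h5
  exact one_ne_zero h5

end Cfsg.Agent.H27.Md
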