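import Mathlib
import Cfsg.Agent.H27.Md9

set_option autoImplicit false
set_option linter.style.haveILetI false

/-!
# The basic algebra of a block with one Brauer character
-/

namespace Cfsg.Agent.H27.Md

open Module Cfsg Cfsg.Agent.H11 Cfsg.Agent.H26 Cfsg.Agent.H3 Matrix
open scoped ComplexConjugate

universe u

variable {G : Type u} [Group G] [Fintype G] {p : ℕ} {M : Ideal AlgInt} [hM : M.IsPrime]

/-- The `p`-part of the dimension of a block algebra with one Brauer character. -/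
theorem dim_block_fact [hp : Fact p.Prime] (hMp : IsPModular p M) {B : Set (IrrCharacter G)}
    (hB : IsPBlock M B) (P : Subgroup G) (hP : IsDefectGroup p M B P) (hl : blockRank p B = 1) :
    ∃ f : ℕ, finrank (KF M) (crn (KF M) (EG M B) (EG M B)) = f * f * p ^ blockDefect p B ∧
      ∃ χ ∈ B, f ∣ charDegree (χ : G → ℂ) ∧ 0 < f ∧ (charDegree (χ : G → ℂ)).factorization p =
        (Nat.card G).factorization p - blockDefect p B := by
  classical
  haveI := Fintype.ofFinite (IrrCharacter G)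
  obtain ⟨φ, d, ⟨n, hn⟩, hd, hsum⟩ := st4675 p M hMp B hB P hP hl
  obtain ⟨χ₀, hχ₀, h0⟩ := exists_height_zero hMp hB
  have h1reg : IsPRegular p (1 : G) := by
    unfold IsPRegular
    rw [orderOf_one]
    exact fun h => hp.out.one_lt.ne' (Nat.dvd_one.mp h)
  have hφ1 : φ 1 = ((∑ χ : IrrCharacter G with χ ∈ B, n χ * (charDegree (χ : G → ℂ) : ℤ) : ℤ) : ℂ) := by
    rw [hn 1 h1reg, finsum_mem_irr]
    push_cast
    apply Finset.sum_congr rfl
    intro χ _
    rw [charDegree_cast (irr_isChar χ.2)]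
  set f1 : ℤ := ∑ χ : IrrCharacter G with χ ∈ B, n χ * (charDegree (χ : G → ℂ) : ℤ) with hf1
  have hD : ∀ χ ∈ B, (charDegree (χ : G → ℂ) : ℤ) = d χ * f1 := by
    intro χ hχ
    have h2 := hd χ hχ 1 h1reg
    rw [hφ1, ← charDegree_cast (irr_isChar χ.2)] at h2
    exact_mod_cast h2
  have hpos : 0 < f1 := by
    have h2 := hD χ₀ hχ₀
    have h3 := (charDegree_spec χ₀.2).2
    by_contra hcon
    push Not at hcon
    have h4 : (d χ₀ : ℤ) * f1 ≤ 0 := mul_nonpos_of_nonneg_of_nonpos (by positivity) hcon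
    rw [← h2] at h4
    have : (0 : ℤ) < charDegree (χ₀ : G → ℂ) := by exact_mod_cast Nat.pos_of_ne_zero h3
    omega
  obtain ⟨f, hf⟩ : ∃ f : ℕ, (f : ℤ) = f1 := ⟨f1.toNat, Int.toNat_of_nonneg hpos.le⟩
  have hD' : ∀ χ ∈ B, charDegree (χ : G → ℂ) = d χ * f := by
    intro χ hχ
    have h2 := hD χ hχ
    rw [← hf] at h2
    exact_mod_cast h2
  refine ⟨f, ?_, χ₀, hχ₀, ⟨d χ₀, by rw [hD' χ₀ hχ₀, mul_comm]⟩, by
    have : (0 : ℤ) < f := by rw [hf]; exact hpos
    exact_mod_cast this, ?_⟩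
  · rw [finrank_e hB]
    rw [finsum_mem_irr, card_defect hMp hB hP] at hsum
    rw [← hsum, Finset.mul_sum]
    apply Finset.sum_congr rfl
    intro χ hχ
    rw [hD' χ (Finset.mem_filter.mp hχ).2]
    ring
  · have h2 := (fact_degree hMp hχ₀).1
    rw [h0, add_zero] at h2
    exact h2

/-- The basic algebra data of a block with one Brauer character. -/
theorem exists_data [hp : Fact p.Prime] (hMp : IsPModular p M) {B : Set (IrrCharacter G)}
    (hB : IsPBlock M B) (P : Subgroup G) (hP : IsDefectGroup p M B P) (hl : blockRank p B = 1) :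
    ∃ (s m : ℕ) (ε : MonoidAlgebra (KF M) G) (N : Submodule (KF M) (MonoidAlgebra (KF M) G))
      (T : MonoidAlgebra (KF M) G →ₗ[KF M] KF M),
      0 < s ∧ ε * ε = ε ∧ EG M B * ε = ε ∧ Nonempty (MU (EG M B) ε s) ∧
      N ≤ crn (KF M) ε ε ∧ ε ∉ N ∧ (∀ a ∈ crn (KF M) ε ε, ∃ c : KF M, a - c • ε ∈ N) ∧
      N ^ m = ⊥ ∧ N * N ≤ N ∧ Nat.card P ∣ finrank (KF M) (crn (KF M) ε ε) ∧
      (∀ x y, T (x * y) = T (y * x)) ∧ T ε = 1 ∧ (∀ x ∈ N, T x = 0) ∧
      (∀ χ ∈ B, ∃ c : KF M, ∀ x, EG M B * x = x → ev x (rdc M (χ : G → ℂ)) = c * T x) := by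
  classical
  obtain ⟨n, d, π, hπ, hd, m, hm⟩ := exists_pi (KF M) (MonoidAlgebra (KF M) G)
  set J : Submodule (KF M) (MonoidAlgebra (KF M) G) := LinearMap.ker π.toLinearMap with hJ
  have hJmem : ∀ x, x ∈ J ↔ π x = 0 := fun x => LinearMap.mem_ker
  have hker : ∀ x, π x = 0 → IsNilpotent x := by
    intro x hx
    refine ⟨m, ?_⟩
    have h1 := Submodule.pow_mem_pow J ((hJmem x).mpr hx) m
    rw [hm] at h1
    exact h1
  obtain ⟨i, hi⟩ := block_single hMp hB P hP hl π hπ hd hker
  have he := (isBlk_EG hB).idem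
  have hc : ∀ x, EG M B * x = x * EG M B := EG_comm
  obtain ⟨ε, hε, heε, hεπ, ⟨mu⟩⟩ := exists_mu d π hπ hker he hc i hi ⟨0, hd i⟩
  let T : MonoidAlgebra (KF M) G →ₗ[KF M] KF M :=
    { toFun := fun x => (π x i).trace
      map_add' := by
        intro x y
        rw [map_add, Pi.add_apply, Matrix.trace_add]
      map_smul' := by
        intro c x
        rw [map_smul, Pi.smul_apply, Matrix.trace_smul]
        rfl }
  have hTε : T ε = 1 := by
    change (π ε i).trace = 1
    rw [hεπ, Pi.single_eq_same, Matrix.trace_single_eq_same]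
  have hTT : ∀ x y, T (x * y) = T (y * x) := by
    intro x y
    change (π (x * y) i).trace = (π (y * x) i).trace
    rw [map_mul, map_mul, Pi.mul_apply, Pi.mul_apply, Matrix.trace_mul_comm]
  have hε0 : ε ≠ 0 := by
    intro h
    rw [h, map_zero] at hTε
    exact zero_ne_one hTε
  refine ⟨d i, m, ε, crn (KF M) ε ε ⊓ J, T, hd i, hε, heε, ⟨mu⟩, inf_le_left, ?_, ?_, ?_, ?_, ?_,
    hTT, hTε, ?_, ?_⟩
  · rintro ⟨-, h1⟩
    have h2 : π ε = 0 := (hJmem ε).mp h1
    have h3 : T ε = 0 := by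
      change (π ε i).trace = 0
      rw [h2, Pi.zero_apply, Matrix.trace_zero]
    rw [hTε] at h3
    exact one_ne_zero h3
  · intro a ha
    refine ⟨π a i ⟨0, hd i⟩ ⟨0, hd i⟩, ?_, ?_⟩
    · exact sub_mem ha (Submodule.smul_mem _ _ ⟨hε, hε⟩)
    · rw [SetLike.mem_coe, hJmem, map_sub, map_smul, hεπ, sub_eq_zero]
      have h1 : π a = π ε * π a * π ε := by
        rw [← map_mul, ← map_mul, ha.1, ha.2]
      rw [h1, hεπ]
      funext j
      by_cases hj : j = i
      · subst hj
        rw [Pi.mul_apply, Pi.mul_apply, Pi.single_eq_same, Pi.smul_apply, Pi.single_eq_same,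
          Matrix.single_mul_mul_single, one_mul, mul_one]
        rw [Matrix.smul_single, smul_eq_mul, mul_one, Matrix.single_apply_same]
      · rw [Pi.mul_apply, Pi.mul_apply, Pi.single_eq_of_ne hj, mul_zero, Pi.smul_apply,
          Pi.single_eq_of_ne hj, smul_zero]
  · rw [eq_bot_iff, ← hm]
    exact pow_le_pow_left' inf_le_right m
  · rw [Submodule.mul_le]
    rintro a ⟨ha1, ha2⟩ b ⟨hb1, hb2⟩
    refine ⟨⟨by rw [← mul_assoc, ha1.1], by rw [mul_assoc, hb1.2]⟩, ?_⟩
    rw [SetLike.mem_coe, hJmem, map_mul, (hJmem a).mp ha2, zero_mul]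
  · -- divisibility
    obtain ⟨f, hf1, χ₀, hχ₀, hf2, hf3, hf4⟩ := dim_block_fact hMp hB P hP hl
    haveI := charP_KF hMp
    obtain ⟨Q⟩ : Nonempty (Sylow p G) := inferInstance
    have h1 := sylow_dvd (Q : Subgroup G) (Sylow.card_eq_multiplicity Q) hε
      (K := KF M) (p := p)
    rw [finrank_crn_1 mu heε hc] at h1
    have h2 := finrank_crn_e (K := KF M) mu
    rw [hf1] at h2
    set D := finrank (KF M) (crn (KF M) ε ε) with hDdef
    have hD0 : D ≠ 0 := by
      intro h3
      have h4 := Submodule.finrank_eq_zero.mp h3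
      apply hε0
      have : ε ∈ crn (KF M) ε ε := ⟨hε, hε⟩
      rw [h4] at this
      exact this
    have hs0 : d i ≠ 0 := (hd i).ne'
    rw [card_defect hMp hB hP]
    have hb := (fact_degree hMp hχ₀).2
    have h5 : (Nat.card G).factorization p ≤ (d i).factorization p + D.factorization p := by
      have h6 := (hp.out.pow_dvd_iff_le_factorization (mul_ne_zero hs0 hD0)).mp h1
      rwa [Nat.factorization_mul hs0 hD0, Finsupp.add_apply] at h6
    have h6 := congrArg (fun k => k.factorization p) h2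
    beta_reduce at h6
    rw [Nat.factorization_mul (mul_ne_zero hf3.ne' hf3.ne') (pow_ne_zero _ hp.out.ne_zero),
      Nat.factorization_mul hf3.ne' hf3.ne', Nat.factorization_mul hs0 (mul_ne_zero hs0 hD0),
      Nat.factorization_mul hs0 hD0, Finsupp.add_apply, Finsupp.add_apply, Finsupp.add_apply,
      Finsupp.add_apply, hp.out.factorization_pow, Finsupp.single_eq_same] at h6
    have h7 : f.factorization p ≤ (Nat.card G).factorization p - blockDefect p B := by
      rw [← hf4]
      exact (Nat.factorization_le_iff_dvd hf3.ne' (charDegree_spec χ₀.2).2).mpr hf2 p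
    rw [hp.out.pow_dvd_iff_le_factorization hD0]
    omega
  · rintro x ⟨-, hx⟩
    change (π x i).trace = 0
    rw [(hJmem x).mp hx, Pi.zero_apply, Matrix.trace_zero]
  · obtain ⟨f, -, hf⟩ := exists_unit_char hMp hB P hP hl
    have hkey : ∀ x, EG M B * x = x → ev x f = 0 → T x = 0 := by
      intro x hx h1
      apply tr_eq_zero hMp π _ i
      intro χ
      by_cases hχ : χ ∈ B
      · obtain ⟨c, hc2⟩ := hf χ hχ
        rw [hc2, map_smul, h1, smul_zero]
      · have h2 := ev_EG_mul hB x χ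
        rw [hx, if_neg hχ] at h2
        exact h2
    have hfT : ∀ x, EG M B * x = x → ev x f = ev ε f * T x := by
      intro x hx
      have h1 := hkey (ev ε f • x - ev x f • ε) (by
        rw [mul_sub, mul_smul_comm, mul_smul_comm, hx, heε]) (by
        rw [ev_sub, ev_smul, ev_smul]; ring)
      rw [map_sub, map_smul, map_smul, hTε, smul_eq_mul, smul_eq_mul, mul_one, sub_eq_zero] at h1
      exact h1.symm
    intro χ hχ
    obtain ⟨c, hc2⟩ := hf χ hχ
    refine ⟨c * ev ε f, ?_⟩
    intro x hx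
    rw [hc2, map_smul, hfT x hx, smul_eq_mul, mul_assoc]

/-- The coefficient at the identity. -/
noncomputable def coeffOne : MonoidAlgebra (KF M) G →ₗ[KF M] KF M where
  toFun x := x.coeff 1
  map_add' := by
    intro x y
    simp
  map_smul' := by
    intro c x
    simp

theorem coeffOne_comm (x y : MonoidAlgebra (KF M) G) : coeffOne (x * y) = coeffOne (y * x) := by
  change (x * y).coeff 1 = (y * x).coeff 1
  rw [coeff_mul_fintype, coeff_mul_fintype]
  refine Fintype.sum_equiv (Equiv.inv G) _ _ fun g => ?_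
  simp [mul_comm]

theorem coeffOne_single (x : MonoidAlgebra (KF M) G) (g : G) :
    coeffOne (x * MonoidAlgebra.single g⁻¹ 1) = x.coeff g := by
  change (x * MonoidAlgebra.single g⁻¹ 1).coeff 1 = _
  rw [MonoidAlgebra.coeff_mul_single_apply]
  simp

theorem coeffOne_nondeg (x : MonoidAlgebra (KF M) G) (h : ∀ y, coeffOne (x * y) = 0) : x = 0 := by
  ext g
  rw [← coeffOne_single, h]
  rfl

end Cfsg.Agent.H27.Md
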