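import Cfsg.Agent.H23.MaxClass3
import Cfsg.Agent.H3.Inflate

set_option autoImplicit false
set_option linter.all false

/-! # Commutator subgroups of groups with an abelian normal subgroup of cyclic index (helper27) -/

namespace Cfsg.Agent.H27

open Subgroup
open scoped commutatorElement

theorem card_commutator_mul_eq {X : Type*} [Group X] [Finite X] {U : Subgroup X} [hUn : U.Normal]
    (hUc : ∀ a ∈ U, ∀ b ∈ U, a * b = b * a) {x : X} (hgen : U ⊔ zpowers x = ⊤) :
    Nat.card (commutator X) * Nat.card (U ⊓ centralizer ({x} : Set X) : Subgroup X) = Nat.card U := by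
  refine le_antisymm (Cfsg.Agent.H23.card_commutator_mul_le hUc hgen) ?_
  have hconj : ∀ v ∈ U, x * v * x⁻¹ ∈ U := fun v hv => hUn.conj_mem v hv x
  let φ : U →* U :=
    { toFun := fun v => ⟨x * v * x⁻¹ * (v : X)⁻¹, mul_mem (hconj v v.2) (inv_mem v.2)⟩
      map_one' := Subtype.ext (by simp)
      map_mul' := by
        intro v w
        apply Subtype.ext
        show x * ((v : X) * w) * x⁻¹ * ((v : X) * w)⁻¹ = (x * v * x⁻¹ * (v : X)⁻¹) * (x * w * x⁻¹ * (w : X)⁻¹)
        have h1 := hUc (v : X)⁻¹ (inv_mem v.2) (x * w * x⁻¹ * (w : X)⁻¹) (mul_mem (hconj w w.2) (inv_mem w.2))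
        calc x * ((v : X) * w) * x⁻¹ * ((v : X) * w)⁻¹
            = (x * v * x⁻¹) * ((x * w * x⁻¹ * (w : X)⁻¹) * (v : X)⁻¹) := by group
          _ = (x * v * x⁻¹) * ((v : X)⁻¹ * (x * w * x⁻¹ * (w : X)⁻¹)) := by rw [h1]
          _ = _ := by group }
  have hφ : ∀ v : U, (φ v : X) = x * v * x⁻¹ * (v : X)⁻¹ := fun v => rfl
  have hle : φ.range.map U.subtype ≤ commutator X := by
    rintro _ ⟨_, ⟨v, rfl⟩, rfl⟩
    show (φ v : X) ∈ commutator X
    rw [hφ]
    exact commutator_mem_commutator (mem_top x) (mem_top (v : X))
  have h1 : Nat.card (φ.range.map U.subtype : Subgroup X) = Nat.card φ.range := H1.card_map_subtype _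
  have h2 : Nat.card φ.ker = Nat.card (U ⊓ centralizer ({x} : Set X) : Subgroup X) := by
    have h3 : φ.ker.map U.subtype = U ⊓ centralizer ({x} : Set X) := by
      ext v
      constructor
      · rintro ⟨w, hw, rfl⟩
        refine mem_inf.mpr ⟨w.2, ?_⟩
        rw [mem_centralizer_singleton_iff]
        have h4 := congrArg Subtype.val (MonoidHom.mem_ker.mp hw)
        rw [hφ] at h4
        have h5 : x * (w : X) * x⁻¹ * (w : X)⁻¹ = 1 := h4
        rw [mul_inv_eq_one, mul_inv_eq_iff_eq_mul] at h5
        exact h5.symm
      · intro hv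
        obtain ⟨hvU, hvx⟩ := mem_inf.mp hv
        rw [mem_centralizer_singleton_iff] at hvx
        refine ⟨⟨v, hvU⟩, ?_, rfl⟩
        rw [SetLike.mem_coe, MonoidHom.mem_ker]
        apply Subtype.ext
        show x * v * x⁻¹ * v⁻¹ = 1
        rw [← hvx]; group
    rw [← h3, H1.card_map_subtype]
  have h3 := card_mul_index φ.ker
  rw [index_ker] at h3
  calc Nat.card U = Nat.card (φ.range.map U.subtype : Subgroup X) *
        Nat.card (U ⊓ centralizer ({x} : Set X) : Subgroup X) := by rw [h1, ← h2, ← h3, mul_comm]
    _ ≤ _ := Nat.mul_le_mul_right _ (card_le_of_le hle)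

theorem normal_of_idx {X : Type*} [Group X] [Finite X] {p : ℕ} [Fact p.Prime] (hX : IsPGroup p X)
    {N : Subgroup X} (hN : N.index = p) : N.Normal := by
  haveI := hX.isNilpotent
  exact NormalizerCondition.normal_of_coatom N Group.normalizerCondition_of_isNilpotent
    (H2.isCoatom_of_index_prime hN)

theorem sup_zpowers_of_index {X : Type*} [Group X] {p : ℕ} [Fact p.Prime] {N : Subgroup X}
    (hN : N.index = p) {x : X} (hx : x ∉ N) : N ⊔ zpowers x = ⊤ := by
  apply Cfsg.Agent.H23.eq_top_of_lt_of_index_prime hN
  refine lt_of_le_of_ne le_sup_left ?_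
  intro h
  apply hx
  rw [h]
  exact mem_sup_right (mem_zpowers x)

/-- the key formula for `S4586` -/
theorem index_commutator_mul {P : Type*} [Group P] [Finite P] (p : ℕ) [Fact p.Prime]
    (N : Subgroup P) [hNn : N.Normal] (hN : N.index = p) {x : P} (hx : x ∉ N) :
    (commutator P).index * Nat.card (commutator N) =
      p * Nat.card {n : N // x * n * x⁻¹ * (n : P)⁻¹ ∈ (commutator N).map N.subtype} := by
  set M : Subgroup P := (commutator N).map N.subtype with hM
  have hMeq : M = ⁅N, N⁆ := by
    rw [hM, map_subtype_commutator]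
  haveI hMn : M.Normal := by rw [hMeq]; exact commutator_normal N N
  have hMN : M ≤ N := map_subtype_le _
  have hMcard : Nat.card M = Nat.card (commutator N) := H1.card_map_subtype _
  let f := QuotientGroup.mk' M
  have hf : Function.Surjective f := QuotientGroup.mk'_surjective M
  have hker : f.ker = M := QuotientGroup.ker_mk' M
  haveI := Fintype.ofFinite P
  haveI : Fintype (P ⧸ M) := Fintype.ofFinite _
  set U : Subgroup (P ⧸ M) := N.map f with hU
  haveI : U.Normal := hNn.map f hf
  have hUc : ∀ a ∈ U, ∀ b ∈ U, a * b = b * a := by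
    rintro _ ⟨a, ha, rfl⟩ _ ⟨b, hb, rfl⟩
    rw [← map_mul, ← map_mul, ← mul_inv_eq_one, ← map_inv, ← map_mul]
    rw [← MonoidHom.mem_ker, hker, hMeq]
    have : a * b * (b * a)⁻¹ = ⁅a, b⁆ := by rw [commutatorElement_def]; group
    rw [this]
    exact commutator_mem_commutator ha hb
  have hgen : U ⊔ zpowers (f x) = ⊤ := by
    have h1 := sup_zpowers_of_index hN hx
    have h2 := congrArg (Subgroup.map f) h1
    rw [Subgroup.map_sup, MonoidHom.map_zpowers, ← MonoidHom.range_eq_map,
      MonoidHom.range_eq_top.mpr hf] at h2
    exact h2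
  have key := card_commutator_mul_eq hUc hgen
  -- cardinalities
  have h1 : Nat.card N = Nat.card M * Nat.card U := by
    have h := Cfsg.Agent.H3.card_comap_surjective f hf U
    rw [hker, hU, comap_map_eq_self (by rw [hker]; exact hMN)] at h
    exact h
  have h2 : Nat.card (commutator P) = Nat.card M * Nat.card (commutator (P ⧸ M)) := by
    have h := Cfsg.Agent.H3.card_comap_surjective f hf (commutator (P ⧸ M))
    have h3 : (commutator P).map f = commutator (P ⧸ M) := by
      rw [commutator_def, map_commutator, ← MonoidHom.range_eq_map, MonoidHom.range_eq_top.mpr hf]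
      rfl
    rw [hker, ← h3, comap_map_eq_self (by
      rw [hker, hMeq]; exact commutator_mono le_top le_top)] at h
    rw [h3] at h
    exact h
  have h4 : Nat.card {n : N // x * n * x⁻¹ * (n : P)⁻¹ ∈ M} =
      Nat.card M * Nat.card (U ⊓ centralizer ({f x} : Set (P ⧸ M)) : Subgroup (P ⧸ M)) := by
    have h := Cfsg.Agent.H3.card_comap_surjective f hf (U ⊓ centralizer ({f x} : Set (P ⧸ M)))
    rw [hker] at h
    rw [← h]
    have hkey : ∀ n : P, x * n * x⁻¹ * n⁻¹ ∈ M ↔ f n ∈ centralizer ({f x} : Set (P ⧸ M)) := by
      intro n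
      rw [mem_centralizer_singleton_iff]
      have h8 : x * n * x⁻¹ * n⁻¹ ∈ M ↔ f (x * n * x⁻¹ * n⁻¹) = 1 :=
        (QuotientGroup.eq_one_iff _).symm
      rw [h8, map_mul, map_mul, map_mul, map_inv, map_inv, mul_inv_eq_one,
        mul_inv_eq_iff_eq_mul]
      exact eq_comm
    have hkey2 : ∀ n : P, n ∈ U.comap f ↔ n ∈ N := by
      intro n
      rw [hU, comap_map_eq_self (by rw [hker]; exact hMN)]
    refine Nat.card_congr
      { toFun := fun n => ⟨(n.1 : P), ?_⟩
        invFun := fun y => ⟨⟨(y : P), ?_⟩, ?_⟩
        left_inv := fun n => rfl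
        right_inv := fun y => rfl }
    · rw [mem_comap, mem_inf]
      exact ⟨mem_map_of_mem f n.1.2, (hkey _).mp n.2⟩
    · have h5 := y.2
      rw [mem_comap, mem_inf] at h5
      exact (hkey2 _).mp h5.1
    · have h5 := y.2
      rw [mem_comap, mem_inf] at h5
      exact (hkey _).mpr h5.2
  have h5 := card_mul_index (commutator P)
  have h6 := card_mul_index N
  rw [hN] at h6
  have hpos : 0 < Nat.card (commutator P) := Nat.card_pos
  apply Nat.eq_of_mul_eq_mul_left hpos
  rw [← hMcard, h4]
  calc Nat.card (commutator P) * ((commutator P).index * Nat.card M)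
      = (Nat.card (commutator P) * (commutator P).index) * Nat.card M := by ring
    _ = (Nat.card N * p) * Nat.card M := by rw [h5, ← h6]
    _ = (Nat.card M * (Nat.card (commutator (P ⧸ M)) *
          Nat.card (U ⊓ centralizer ({f x} : Set (P ⧸ M)) : Subgroup (P ⧸ M)))) * p * Nat.card M := by
        rw [h1, key]
    _ = _ := by rw [h2]; ring

/-- a nonabelian `p`-group of order `p ^ 4` with centre of index `p ^ 2` has `|P'| = p` -/
theorem card_commutator_of_index_center {P : Type*} [Group P] [Finite P] (p : ℕ) [hp : Fact p.Prime]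
    {k : ℕ} (hP : Nat.card P = p ^ k) (hZ : (center P).index = p ^ 2) :
    Nat.card (commutator P) = p := by
  have hPG : IsPGroup p P := IsPGroup.of_card hP
  have hne : center P ≠ ⊤ := by
    intro h
    rw [h, index_top] at hZ
    have := Nat.one_lt_pow (two_ne_zero) hp.out.one_lt
    omega
  obtain ⟨y, hy⟩ : ∃ y, y ∉ center P := by
    by_contra hcon
    push Not at hcon
    exact hne (eq_top_iff.mpr fun z _ => hcon z)
  set A := center P ⊔ zpowers y with hA
  have hlt : center P < A := by
    refine lt_of_le_of_ne le_sup_left fun h => hy ?_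
    rw [h]; exact mem_sup_right (mem_zpowers y)
  have hAc : ∀ a ∈ A, ∀ b ∈ A, a * b = b * a := by
    have h1 : A ≤ centralizer ({y} : Set P) := by
      refine sup_le (center_le_centralizer _) ?_
      rw [zpowers_le, mem_centralizer_singleton_iff]
    have h2 : A ≤ centralizer (A : Set P) := by
      refine sup_le (center_le_centralizer _) ?_
      rw [zpowers_le, mem_centralizer_iff]
      intro b hb
      exact mem_centralizer_singleton_iff.mp (h1 hb)
    intro a ha b hb
    exact (mem_centralizer_iff.mp (h2 ha) b hb).symm
  have hAne : A ≠ ⊤ := by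
    intro h
    apply hy
    rw [mem_center_iff]
    intro g
    exact hAc g (by rw [h]; exact mem_top g) y (mem_sup_right (mem_zpowers y))
  have hcardP : Nat.card (center P) * p ^ 2 = Nat.card P := by
    rw [← hZ, card_mul_index]
  have h1 := Cfsg.Agent.H23.mul_card_le_of_lt (hPG.to_subgroup A) hlt
  have h2 := Cfsg.Agent.H23.mul_card_le_of_lt (hPG.to_subgroup ⊤) (lt_top_iff_ne_top.mpr hAne)
  rw [card_top, ← hcardP] at h2
  have hppos := hp.out.pos
  have hAcard : Nat.card A = p * Nat.card (center P) := by
    refine le_antisymm ?_ h1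
    have : p * Nat.card A ≤ p * (p * Nat.card (center P)) := by
      calc p * Nat.card A ≤ Nat.card (center P) * p ^ 2 := h2
        _ = _ := by ring
    exact Nat.le_of_mul_le_mul_left this hppos
  have hZpos : 0 < Nat.card (center P) := Nat.card_pos
  have hAi : A.index = p := by
    have h3 := card_mul_index A
    rw [hAcard, ← hcardP] at h3
    have : (p * Nat.card (center P)) * A.index = (p * Nat.card (center P)) * p := by rw [h3]; ring
    exact Nat.eq_of_mul_eq_mul_left (Nat.mul_pos hppos hZpos) this
  haveI : A.Normal := normal_of_idx hPG hAi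
  obtain ⟨x, hx⟩ : ∃ x, x ∉ A := by
    by_contra hcon
    push Not at hcon
    exact hAne (eq_top_iff.mpr fun z _ => hcon z)
  have hgen := sup_zpowers_of_index hAi hx
  have key := card_commutator_mul_eq hAc hgen
  have hC : A ⊓ centralizer ({x} : Set P) = center P := by
    apply le_antisymm
    · intro z hz
      rw [mem_inf, mem_centralizer_singleton_iff] at hz
      have h3 : (⊤ : Subgroup P) ≤ centralizer ({z} : Set P) := by
        rw [← hgen]
        refine sup_le ?_ ?_
        · intro a ha
          rw [mem_centralizer_singleton_iff]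
          exact hAc a ha z hz.1
        · rw [zpowers_le, mem_centralizer_singleton_iff]
          exact hz.2.symm
      rw [mem_center_iff]
      intro g
      exact mem_centralizer_singleton_iff.mp (h3 (mem_top g))
    · exact le_inf le_sup_left (center_le_centralizer _)
  rw [hC, hAcard] at key
  exact Nat.eq_of_mul_eq_mul_right hZpos key

/-- order `p ^ 4`, `|P'| = p` implies `|P : Z(P)| = p ^ 2` -/
theorem index_center_of_card_commutator {P : Type*} [Group P] [Finite P] (p : ℕ) [hp : Fact p.Prime]
    (hP : Nat.card P = p ^ 4) (hc : Nat.card (commutator P) = p) :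
    (center P).index = p ^ 2 := by
  have hPG : IsPGroup p P := IsPGroup.of_card hP
  have hppos := hp.out.pos
  have hp1 := hp.out.one_lt
  have hna : ¬ IsMulCommutative P := by
    intro h
    have : commutator P = ⊥ := by
      rw [commutator_def, commutator_eq_bot_iff_le_centralizer]
      intro a _
      rw [mem_centralizer_iff]
      intro b _
      exact h.is_comm.comm b a
    rw [this, card_bot] at hc
    omega
  obtain ⟨k, hk⟩ := hPG.index (center P)
  have hcm := card_mul_index (center P)
  obtain ⟨j, hj⟩ := IsPGroup.iff_card.mp (hPG.to_subgroup (center P))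
  rw [hj, hk, hP, ← pow_add] at hcm
  have hjk : j + k = 4 := Nat.pow_right_injective hp.out.two_le hcm
  have hk2 : ¬ k ≤ 1 := by
    intro h
    apply hna
    apply Cfsg.Agent.H23.isMulCommutative_of_central_index hPG le_rfl
    rw [hk]
    calc p ^ k ≤ p ^ 1 := Nat.pow_le_pow_right hppos h
      _ = p := pow_one p
  haveI : Nontrivial P := by
    rw [← Finite.one_lt_card_iff_nontrivial, hP]
    exact Nat.one_lt_pow (by omega) hp1
  have hj0 : j ≠ 0 := by
    rintro rfl
    have := hPG.center_nontrivial
    rw [← Finite.one_lt_card_iff_nontrivial, hj] at this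
    simp at this
  -- exclude `k = 3`
  have hk3 : k ≠ 3 := by
    rintro rfl
    have hj1 : j = 1 := by omega
    subst hj1
    obtain ⟨y, hy⟩ : ∃ y, y ∉ center P := by
      by_contra hcon
      push Not at hcon
      have : center P = ⊤ := eq_top_iff.mpr fun z _ => hcon z
      rw [this, index_top] at hk
      have := Nat.one_lt_pow (n := 3) (by omega) hp1
      omega
    set A := centralizer ({y} : Set P) with hA
    have hcl := Cfsg.Agent.H3.card_isConj_mul_card_centralizer y
    have hclle : Nat.card {x : P // IsConj y x} ≤ p := by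
      rw [← hc]
      refine Nat.card_le_card_of_injective
        (fun x : {x : P // IsConj y x} => (⟨x.1 * y⁻¹, ?_⟩ : commutator P)) ?_
      · obtain ⟨x, hx⟩ := x
        rw [isConj_iff] at hx
        obtain ⟨c, rfl⟩ := hx
        exact commutator_mem_commutator (mem_top c) (mem_top y)
      · intro a b hab
        have := congrArg Subtype.val hab
        exact Subtype.ext (mul_right_cancel this)
    have hAne : A ≠ ⊤ := by
      intro h
      apply hy
      rw [mem_center_iff]
      intro g
      exact mem_centralizer_singleton_iff.mp (show g ∈ A by rw [h]; exact mem_top g)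
    have hAi : A.index = p := by
      have h1 : A.index = Nat.card {x : P // IsConj y x} := by
        have h2 := index_mul_card A
        rw [← hcl] at h2
        exact Nat.eq_of_mul_eq_mul_right Nat.card_pos h2
      obtain ⟨i, hi⟩ := hPG.index A
      rw [hi] at h1
      have hi1 : i ≤ 1 := by
        have : p ^ i ≤ p ^ 1 := by rw [h1, pow_one]; exact hclle
        exact (Nat.pow_le_pow_iff_right hp1).mp this
      interval_cases i
      · exfalso
        rw [pow_zero, index_eq_one] at hi
        exact hAne hi
      · rw [hi, pow_one]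
    have hAcard : Nat.card A = p ^ 3 := by
      have := card_mul_index A
      rw [hAi, hP] at this
      have h2 : Nat.card A * p = p ^ 3 * p := by rw [this]; ring
      exact Nat.eq_of_mul_eq_mul_right hppos h2
    -- `A` is abelian
    have hZA : center P < center P ⊔ zpowers y := by
      refine lt_of_le_of_ne le_sup_left fun h => hy ?_
      rw [h]; exact mem_sup_right (mem_zpowers y)
    have hle : center P ⊔ zpowers y ≤ A := by
      refine sup_le (center_le_centralizer _) ?_
      rw [zpowers_le, hA, mem_centralizer_singleton_iff]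
    have hAab : IsMulCommutative A := by
      refine Cfsg.Agent.H23.isMulCommutative_of_relIndex_le (hPG.to_subgroup A) hle ?_ ?_
      · intro a ha
        rw [mem_centralizer_iff]
        intro b hb
        have h3 : center P ⊔ zpowers y ≤ centralizer ({a} : Set P) := by
          refine sup_le (center_le_centralizer _) ?_
          rw [zpowers_le, mem_centralizer_singleton_iff]
          exact (mem_centralizer_singleton_iff.mp ha).symm
        exact mem_centralizer_singleton_iff.mp (h3 hb)
      · have h4 := Cfsg.Agent.H23.mul_card_le_of_lt (hPG.to_subgroup _) hZA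
        rw [hj, pow_one] at h4
        have h5 := H1.card_mul_relIndex hle
        rw [hAcard] at h5
        have h6 : p ^ 2 * (center P ⊔ zpowers y).relIndex A ≤ p ^ 2 * p := by
          calc p ^ 2 * (center P ⊔ zpowers y).relIndex A
              ≤ Nat.card (center P ⊔ zpowers y : Subgroup P) * (center P ⊔ zpowers y).relIndex A :=
                Nat.mul_le_mul_right _ (by rw [pow_two]; exact h4)
            _ = p ^ 2 * p := by rw [h5]; ring
        exact Nat.le_of_mul_le_mul_left h6 (by positivity)
    have hAc : ∀ a ∈ A, ∀ b ∈ A, a * b = b * a := fun a ha b hb =>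
      congrArg Subtype.val (hAab.is_comm.comm ⟨a, ha⟩ ⟨b, hb⟩)
    haveI : A.Normal := normal_of_idx hPG hAi
    obtain ⟨x, hx⟩ : ∃ x, x ∉ A := by
      by_contra hcon
      push Not at hcon
      exact hAne (eq_top_iff.mpr fun z _ => hcon z)
    have hgen := sup_zpowers_of_index hAi hx
    have key := card_commutator_mul_eq hAc hgen
    have hC : A ⊓ centralizer ({x} : Set P) ≤ center P := by
      intro z hz
      obtain ⟨hz1, hz2⟩ := mem_inf.mp hz
      rw [mem_centralizer_singleton_iff] at hz2
      have h3 : (⊤ : Subgroup P) ≤ centralizer ({z} : Set P) := by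
        rw [← hgen]
        refine sup_le ?_ ?_
        · intro a ha
          rw [mem_centralizer_singleton_iff]
          exact hAc a ha z hz1
        · rw [zpowers_le, mem_centralizer_singleton_iff]
          exact hz2.symm
      rw [mem_center_iff]
      intro g
      exact mem_centralizer_singleton_iff.mp (h3 (mem_top g))
    have h7 := card_le_of_le hC
    rw [hj, pow_one] at h7
    rw [hc, hAcard] at key
    have h8 : p ^ 3 ≤ p * p := by
      rw [← key]; exact Nat.mul_le_mul_left _ h7
    have h9 : p ^ 2 < p ^ 3 := Nat.pow_lt_pow_right hp1 (by omega)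
    rw [← pow_two] at h8
    omega
  have hk4 : k ≠ 4 := by omega
  have : k = 2 := by omega
  rw [hk, this]

theorem class_three_of_index {P : Type*} [Group P] [Finite P] (p : ℕ) [hp : Fact p.Prime]
    (hP : Nat.card P = p ^ 4) (hc : (commutator P).index = p ^ 2) :
    Group.nilpotencyClass P = 3 := by
  have hPG : IsPGroup p P := IsPGroup.of_card hP
  have hppos := hp.out.pos
  have hp1 := hp.out.one_lt
  haveI := hPG.isNilpotent
  have hcc : Nat.card (commutator P) = p ^ 2 := by
    have := card_mul_index (commutator P)
    rw [hc, hP] at this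
    have h2 : Nat.card (commutator P) * p ^ 2 = p ^ 2 * p ^ 2 := by rw [this]; ring
    exact Nat.eq_of_mul_eq_mul_right (by positivity) h2
  have h1 : (⊤ : Subgroup P).lowerCentralSeries 3 = ⊥ := by
    by_contra h
    have h2 := Cfsg.Agent.H23.card_lcs_ge hPG 3 h 2 (by omega)
    rw [show 3 - 2 = 1 from rfl, Subgroup.top_lowerCentralSeries_one, hcc] at h2
    have := Nat.pow_lt_pow_right hp1 (show 2 < 2 + 1 by omega)
    omega
  have h2 : (⊤ : Subgroup P).lowerCentralSeries 2 ≠ ⊥ := by
    intro h
    rw [show (2 : ℕ) = 1 + 1 from rfl, Subgroup.lowerCentralSeries_succ,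
      Subgroup.top_lowerCentralSeries_one] at h
    have h3 : commutator P ≤ center P := by
      intro a ha
      rw [mem_center_iff]
      intro g
      have h4 : ⁅a, g⁆ ∈ (⊥ : Subgroup P) := by
        rw [← h]
        exact commutator_mem_commutator ha (mem_top g)
      rw [mem_bot, commutatorElement_eq_one_iff_mul_comm] at h4
      exact h4.symm
    -- index of centre at most `p ^ 2`
    obtain ⟨k, hk⟩ := hPG.index (center P)
    have h5 : (center P).index ≤ p ^ 2 := by
      rw [← hc]
      exact Nat.le_of_dvd (Nat.pos_of_ne_zero index_ne_zero_of_finite) (index_dvd_of_le h3)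
    have hna : ¬ IsMulCommutative P := by
      intro h
      have : commutator P = ⊥ := by
        rw [commutator_def, commutator_eq_bot_iff_le_centralizer]
        intro a _
        rw [mem_centralizer_iff]
        intro b _
        exact h.is_comm.comm b a
      rw [this, card_bot] at hcc
      have := Nat.one_lt_pow (n := 2) (by omega) hp1
      omega
    have hk2 : ¬ k ≤ 1 := by
      intro h
      apply hna
      apply Cfsg.Agent.H23.isMulCommutative_of_central_index hPG le_rfl
      rw [hk]
      calc p ^ k ≤ p ^ 1 := Nat.pow_le_pow_right hppos h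
        _ = p := pow_one p
    have hk3 : k = 2 := by
      rw [hk] at h5
      have := (Nat.pow_le_pow_iff_right hp1).mp h5
      omega
    have h6 := card_commutator_of_index_center p hP (by rw [hk, hk3])
    rw [h6] at hcc
    have := Nat.pow_lt_pow_right hp1 (show 1 < 2 by omega)
    rw [pow_one] at this
    omega
  have h3 : Group.nilpotencyClass P ≤ 3 :=
    Subgroup.lowerCentralSeries_eq_bot_iff_nilpotencyClass_le.mp h1
  have h4 : ¬ Group.nilpotencyClass P ≤ 2 := fun h =>
    h2 (Subgroup.lowerCentralSeries_eq_bot_iff_nilpotencyClass_le.mpr h)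
  omega

end Cfsg.Agent.H27
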