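import Cfsg.Agent.H16.SL2Deg
import Cfsg.Agent.H16.DL2
import Cfsg.Agent.H16.SpMin
import Cfsg.Agent.H27.Ch12D
import Cfsg.Prelude.Def_DegreeGraph

set_option autoImplicit false
set_option linter.style.haveILetI false

/-! # Character degrees of SL(2,q) and PSL(2,q) -/

universe u v

namespace Cfsg.Agent.H27

open Cfsg Cfsg.Agent.H3 Cfsg.Agent.H16 Subgroup

theorem charDegrees_congr {A : Type u} {B : Type v} [Group A] [Group B] [Finite A] [Finite B]
    (e : A ≃* B) : charDegrees A = charDegrees B := by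
  have key : ∀ {A : Type u} {B : Type v} [Group A] [Group B] [Finite A] [Finite B]
      (e : A ≃* B) (d : ℕ), d ∈ charDegrees B → d ∈ charDegrees A := by
    intro A B _ _ _ _ e d hd
    obtain ⟨χ, rfl⟩ := hd
    refine ⟨⟨fun a => (χ : B → ℂ) (e a), (isIrr_comp_equiv_iff e).mpr χ.2⟩, ?_⟩
    unfold charDegree
    simp
  have key' : ∀ {A : Type v} {B : Type u} [Group A] [Group B] [Finite A] [Finite B]
      (e : A ≃* B) (d : ℕ), d ∈ charDegrees B → d ∈ charDegrees A := by
    intro A B _ _ _ _ e d hd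
    obtain ⟨χ, rfl⟩ := hd
    refine ⟨⟨fun a => (χ : B → ℂ) (e a), (isIrr_comp_equiv_iff e).mpr χ.2⟩, ?_⟩
    unfold charDegree
    simp
  exact Set.ext fun d => ⟨key' e.symm d, key e d⟩

section

variable (F : Type u) [Field F] [Fintype F] [DecidableEq F]

local notation "SL₂" => Matrix.SpecialLinearGroup (Fin 2) F

theorem sl2_deg (χ : IrrCharacter SL₂) :
    charDegree (χ : SL₂ → ℂ) = 1 ∨ charDegree (χ : SL₂ → ℂ) = Fintype.card F ∨
    charDegree (χ : SL₂ → ℂ) = Fintype.card F + 1 ∨ 2 * charDegree (χ : SL₂ → ℂ) = Fintype.card F + 1 ∨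
    charDegree (χ : SL₂ → ℂ) + 1 = Fintype.card F ∨ 2 * charDegree (χ : SL₂ → ℂ) + 1 = Fintype.card F := by
  rcases sl2_odd_deg χ.2 (charDegree_cast (irr_isChar χ.2)).symm with h | h | h | h | h | h
  · exact Or.inl h.2
  · exact Or.inr (Or.inl h.2)
  · exact Or.inr (Or.inr (Or.inl h.2))
  · exact Or.inr (Or.inr (Or.inr (Or.inl h.2)))
  · exact Or.inr (Or.inr (Or.inr (Or.inr (Or.inl h.2))))
  · exact Or.inr (Or.inr (Or.inr (Or.inr (Or.inr h.2))))

theorem sl2_center {z : SL₂} (hz : z ∈ center SL₂) : ∃ a : F, a * a = 1 ∧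
    (z : Matrix (Fin 2) (Fin 2) F) = a • (1 : Matrix (Fin 2) (Fin 2) F) := by
  rw [Matrix.SpecialLinearGroup.mem_center_iff] at hz
  obtain ⟨r, hr, h⟩ := hz
  refine ⟨r, ?_, ?_⟩
  · rw [← pow_two]; simpa using hr
  · rw [← h, Matrix.scalar_apply, Matrix.smul_one_eq_diagonal]

/-- the Steinberg character -/
theorem exists_sl2_q : ∃ χ : IrrCharacter SL₂, (∀ z ∈ center SL₂, (χ : SL₂ → ℂ) z = (χ : SL₂ → ℂ) 1) ∧
    charDegree (χ : SL₂ → ℂ) = Fintype.card F ∧ (χ : SL₂ → ℂ) = StS F := by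
  refine ⟨⟨StS F, StS_irr⟩, ?_, ?_, rfl⟩
  · intro z hz
    obtain ⟨a, ha, hza⟩ := sl2_center F hz
    have ha0 : a ≠ 0 := by rintro rfl; simp at ha
    show StS F z = StS F 1
    rw [StS_apply, StS_apply, PS_scal _ _ _ hza, PS_one]
    rw [show (1 : MulChar F ℂ) a = 1 from MulChar.one_apply (isUnit_iff_ne_zero.mpr ha0), mul_one]
  · have h := charDegree_cast (irr_isChar (StS_irr (F := F)))
    rw [StS_one] at h
    exact_mod_cast h

theorem exists_sl2_q_add_one (h4 : 4 ≤ Fintype.card F) (h5 : Fintype.card F ≠ 5) :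
    ∃ χ : IrrCharacter SL₂, (∀ z ∈ center SL₂, (χ : SL₂ → ℂ) z = (χ : SL₂ → ℂ) 1) ∧
    charDegree (χ : SL₂ → ℂ) = Fintype.card F + 1 := by
  classical
  obtain ⟨g, hg⟩ := IsCyclic.exists_generator (α := Fˣ)
  have hord : orderOf g = Fintype.card F - 1 := by
    rw [orderOf_eq_card_of_forall_mem_zpowers hg, Nat.card_eq_fintype_card, Fintype.card_units]
  have hg4 : g ^ 4 ≠ 1 := by
    intro h
    have h1 := orderOf_dvd_of_pow_eq_one h
    rw [hord] at h1
    have h2 := Nat.le_of_dvd (by norm_num) h1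
    have h3 : Fintype.card F = 4 := by omega
    rw [h3] at h1
    norm_num at h1
  have hg4' : ((g ^ 4 : Fˣ) : F) ≠ 1 := fun h => hg4 (Units.ext h)
  obtain ⟨β, hβ⟩ := MulChar.exists_apply_ne_one_of_hasEnoughRootsOfUnity F ℂ hg4'
  have hα2 : (β ^ 2) ^ 2 ≠ 1 := by
    intro h
    apply hβ
    have h1 : ((β ^ 2) ^ 2) (g : F) = 1 := by rw [h, MulChar.one_apply_coe]
    rw [MulChar.pow_apply_coe, MulChar.pow_apply_coe, ← pow_mul] at h1
    rw [Units.val_pow_eq_pow_val, map_pow]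
    exact h1
  have hirr := (PS_irr_iff (β ^ 2)).mpr hα2
  refine ⟨⟨PS (β ^ 2), hirr⟩, ?_, ?_⟩
  · intro z hz
    obtain ⟨a, ha, hza⟩ := sl2_center F hz
    have ha0 : a ≠ 0 := by rintro rfl; simp at ha
    show PS (β ^ 2) z = PS (β ^ 2) 1
    rw [PS_scal _ _ _ hza, PS_one]
    have h1 : (β ^ 2) a = 1 := by
      rw [MulChar.pow_apply' β (by norm_num), pow_two, ← map_mul, ha, map_one]
    rw [h1, mul_one]
  · have h := charDegree_cast (irr_isChar hirr)
    rw [PS_one] at h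
    exact_mod_cast h

theorem exists_sl2_q_sub_one (h4 : 4 ≤ Fintype.card F) (h5 : Fintype.card F ≠ 5) :
    ∃ χ : IrrCharacter SL₂, (∀ z ∈ center SL₂, (χ : SL₂ → ℂ) z = (χ : SL₂ → ℂ) 1) ∧
    charDegree (χ : SL₂ → ℂ) + 1 = Fintype.card F := by
  classical
  by_cases hodd : Odd (Fintype.card F)
  · obtain ⟨c, hc⟩ := Cfsg.Agent.H16.SpMin.exists_c F
    have hT : NST (zpowers c) := ⟨hodd, inferInstance, by rw [Nat.card_zpowers, hc]⟩
    have hTab : ∀ a b : zpowers c, a * b = b * a := by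
      haveI : IsMulCommutative (zpowers c) := IsCyclic.commutative
      exact fun a b => (‹IsMulCommutative (zpowers c)›).is_comm.comm a b
    have hc4 : (⟨c, mem_zpowers c⟩ : zpowers c) ^ 4 ≠ 1 := by
      intro h
      have h1 : c ^ 4 = 1 := congrArg Subtype.val h
      have h2 := Nat.le_of_dvd (by norm_num) (orderOf_dvd_of_pow_eq_one h1)
      omega
    obtain ⟨ν, hν⟩ := exists_dual_ne hTab hc4
    set θ : zpowers c →* ℂˣ := ν ^ 2 with hθ
    have hθn : θ hT.n1 = 1 := by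
      rw [hθ, MonoidHom.pow_apply, ← map_pow, pow_two, hT.n1_sq, map_one]
    have hα : (1 : MulChar F ℂ) (-1) = (θ hT.n1 : ℂ) := by
      rw [hθn, Units.val_one]
      exact MulChar.one_apply isUnit_one.neg
    have hirr := hT.dl_irr θ 1 hα ⟨⟨c, mem_zpowers c⟩, by
      intro h
      apply hν
      rw [map_pow]
      rw [hθ, MonoidHom.pow_apply, ← pow_mul] at h
      exact h⟩
    refine ⟨⟨dl (zpowers c) θ 1, hirr⟩, ?_, ?_⟩
    · intro z hz
      obtain ⟨a, ha, hza⟩ := sl2_center F hz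
      have ha' : (a - 1) * (a + 1) = 0 := by linear_combination ha
      rcases mul_eq_zero.mp ha' with h | h
      · have h1 : a = 1 := sub_eq_zero.mp h
        have h2 : z = 1 := by
          apply Subtype.ext
          show (z : Matrix (Fin 2) (Fin 2) F) = 1
          rw [hza, h1, one_smul]
        rw [h2]
      · have h1 : a = -1 := eq_neg_of_add_eq_zero_left h
        have h2 : z = (hT.n1 : SL₂) := by
          apply Subtype.ext
          show (z : Matrix (Fin 2) (Fin 2) F) = _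
          rw [hza, h1, hT.n1_coe]
        show dl (zpowers c) θ 1 z = dl (zpowers c) θ 1 1
        rw [hT.dl_one, h2, dl, Pi.sub_apply, hT.Om_scal θ hT.n1_scal, hθn,
          Ac_scal 1 hT.n1_coe, hα, hθn, Units.val_one]
        ring
    · have h := charDegree_cast (irr_isChar hirr)
      rw [hT.dl_one] at h
      have h2 : ((charDegree (dl (zpowers c) θ (1 : MulChar F ℂ)) + 1 : ℕ) : ℂ) = (Fintype.card F : ℂ) := by
        push_cast
        rw [h]; ring
      exact_mod_cast h2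
  · -- even characteristic
    have heven : Even (Fintype.card F) := Nat.not_odd_iff_even.mp hodd
    have h2F : ringChar F = 2 := by
      by_contra hne
      exact hodd (Nat.odd_iff.mpr (FiniteField.odd_card_of_char_ne_two hne))
    haveI : CharP F 2 := by rw [← h2F]; exact ringChar.charP F
    by_contra hcon
    push Not at hcon
    have hcen : ∀ z ∈ center SL₂, z = 1 := by
      intro z hz
      obtain ⟨a, ha, hza⟩ := sl2_center F hz
      have ha' : (a - 1) ^ 2 = 0 := by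
        have : (2 : F) = 0 := CharTwo.two_eq_zero
        linear_combination ha + (1 - a) * this
      have h1 : a = 1 := sub_eq_zero.mp (pow_eq_zero_iff (by norm_num) |>.mp ha')
      apply Subtype.ext
      show (z : Matrix (Fin 2) (Fin 2) F) = 1
      rw [hza, h1, one_smul]
    haveI := Fintype.ofFinite (IrrCharacter SL₂)
    have hu : us 1 (1 : F) ≠ 1 := by
      intro h
      have h1 := us_not_isScal (F := F) 1 1 one_ne_zero
      apply h1
      rw [h]
      simp [IsScal]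
    have h0 := sum_degree_mul (G := SL₂) (us 1 1)
    rw [if_neg hu] at h0
    have hnn : ∀ χ : IrrCharacter SL₂, 0 ≤ ((χ : SL₂ → ℂ) 1 * (χ : SL₂ → ℂ) (us 1 1)).re := by
      intro χ
      obtain ⟨k, hk⟩ := heven
      rcases sl2_odd_deg χ.2 (charDegree_cast (irr_isChar χ.2)).symm with h | h | h | h | h | h
      · rw [h.1]; simp
      · rw [h.1, StS_apply, StS_apply, PS_us_par _ _ one_ne_zero]; simp
      · obtain ⟨⟨α, hα, hχ⟩, -⟩ := h
        rw [hχ, PS_us_par _ _ one_ne_zero, PS_one, mul_one, Complex.add_re, Complex.natCast_re,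
          Complex.one_re]
        positivity
      · exfalso; omega
      · exfalso
        exact hcon χ (fun z hz => by rw [hcen z hz]) h.2
      · exfalso; omega
    have h1 : (0 : ℝ) = ∑ χ : IrrCharacter SL₂, ((χ : SL₂ → ℂ) 1 * (χ : SL₂ → ℂ) (us 1 1)).re := by
      rw [← Complex.re_sum, h0, Complex.zero_re]
    have h2 : ((oneIrr SL₂ : SL₂ → ℂ) 1 * (oneIrr SL₂ : SL₂ → ℂ) (us 1 1)).re ≤
        ∑ χ : IrrCharacter SL₂, ((χ : SL₂ → ℂ) 1 * (χ : SL₂ → ℂ) (us 1 1)).re :=
      Finset.single_le_sum (f := fun χ : IrrCharacter SL₂ =>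
        ((χ : SL₂ → ℂ) 1 * (χ : SL₂ → ℂ) (us 1 1)).re) (fun χ _ => hnn χ) (Finset.mem_univ _)
    rw [← h1] at h2
    simp only [oneIrr_apply, mul_one, Complex.one_re] at h2
    linarith

variable {F}

/-- quotient by the centre -/
theorem psl_mem (χ : IrrCharacter SL₂) (hχ : ∀ z ∈ center SL₂, (χ : SL₂ → ℂ) z = (χ : SL₂ → ℂ) 1) :
    charDegree (χ : SL₂ → ℂ) ∈ charDegrees (Matrix.ProjectiveSpecialLinearGroup (Fin 2) F) := by
  obtain ⟨ψ, hψ, h⟩ := exists_quotient_irr (N := center SL₂) χ.2 hχ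
  refine ⟨⟨ψ, hψ⟩, ?_⟩
  show charDegree ψ = _
  have h1 := charDegree_cast (irr_isChar hψ)
  have h2 := charDegree_cast (irr_isChar χ.2)
  rw [h 1] at h2
  have h3 : ((QuotientGroup.mk (1 : SL₂)) : SL₂ ⧸ center SL₂) = 1 := rfl
  rw [h3, ← h1] at h2
  exact_mod_cast h2.symm

theorem psl_sub (d : ℕ) (hd : d ∈ charDegrees (Matrix.ProjectiveSpecialLinearGroup (Fin 2) F)) :
    d ∈ charDegrees SL₂ := by
  obtain ⟨ψ, rfl⟩ := hd
  have hirr := isIrr_comp_surjective ψ.2 (QuotientGroup.mk' (center SL₂)) (QuotientGroup.mk'_surjective _)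
  refine ⟨⟨_, hirr⟩, ?_⟩
  unfold charDegree
  simp

end

end Cfsg.Agent.H27
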