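import Cfsg.Agent.H23.Coprime4
import Cfsg.Agent.H23.PSolvable
import Cfsg.Agent.H3.Taketa
import Cfsg.Agent.H3.BrauerC
import Cfsg.Agent.H26.Dict3
import Cfsg.Agent.H26.MaxPair
import Cfsg.Agent.H27.Util

set_option autoImplicit false

/-! # Minimal coprime actions and degrees of faithful characters -/

universe u

namespace Cfsg.Agent.H27

open Subgroup Cfsg Cfsg.Agent.H3
open Cfsg.Agent.H26 (cg mem_cg cg_eq_of_mem_nz mem_nz_of_cg_eq)

section grp

variable {G : Type*} [Group G] [Finite G]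

theorem exists_min_act {P K : Subgroup G} (hn : P ≤ normalizer (K : Set G))
    (hcop : (Nat.card P).Coprime (Nat.card K)) (hs : Group.IsSolvable P)
    (hne : ¬ P ≤ centralizer (K : Set G)) :
    ∃ R ≤ K, (∃ r : ℕ, r.Prime ∧ IsPGroup r R) ∧ P ≤ normalizer (R : Set G) ∧
      ¬ P ≤ centralizer (R : Set G) ∧
      ∀ A < R, P ≤ normalizer (A : Set G) → P ≤ centralizer (A : Set G) := by
  classical
  set S : Set (Subgroup G) := {R | R ≤ K ∧ (∃ r : ℕ, r.Prime ∧ IsPGroup r R) ∧
    P ≤ normalizer (R : Set G) ∧ ¬ P ≤ centralizer (R : Set G)} with hS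
  have hSne : S.Nonempty := by
    by_contra hcon
    rw [Set.not_nonempty_iff_eq_empty] at hcon
    apply hne
    rw [le_centralizer_iff]
    apply H23.le_of_forall_isSylowOf_le
    intro q hq
    obtain ⟨Q, hQ, hPQ⟩ := H23.exists_invariant_sylow hn hcop (Or.inl hs) q
    refine ⟨Q, hQ, ?_⟩
    rw [le_centralizer_iff]
    by_contra h
    have : Q ∈ S := ⟨hQ.le, ⟨q, hq.out, hQ.isPGroup⟩, hPQ, h⟩
    rw [hcon] at this
    exact this
  obtain ⟨R, hR⟩ := (Set.toFinite S).exists_minimal hSne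
  obtain ⟨h1, h2, h3, h4⟩ := hR.1
  refine ⟨R, h1, h2, h3, h4, ?_⟩
  intro A hA hPA
  by_contra h
  obtain ⟨r, hr, hRr⟩ := h2
  have hAS : A ∈ S := ⟨hA.le.trans h1, ⟨r, hr, hRr.to_le hA.le⟩, hPA, h⟩
  exact absurd (hR.2 hAS hA.le) (not_le_of_gt hA)

theorem cg_commutator (A B : Subgroup G) (u : G) : cg ⁅A, B⁆ u = ⁅cg A u, cg B u⁆ :=
  Subgroup.map_commutator _ _ _

theorem le_nz_commutator {P A B : Subgroup G} (hA : P ≤ normalizer (A : Set G))
    (hB : P ≤ normalizer (B : Set G)) : P ≤ normalizer ((⁅A, B⁆ : Subgroup G) : Set G) := by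
  intro u hu
  apply mem_nz_of_cg_eq
  rw [cg_commutator, cg_eq_of_mem_nz (hA hu), cg_eq_of_mem_nz (hB hu)]

theorem le_nz_centralizer {P A : Subgroup G} (hA : P ≤ normalizer (A : Set G)) :
    P ≤ normalizer ((centralizer (A : Set G) : Subgroup G) : Set G) :=
  hA.trans (H26.normalizer_le_normalizer_centralizer A)

theorem le_nz_inf {P A B : Subgroup G} (hA : P ≤ normalizer (A : Set G))
    (hB : P ≤ normalizer (B : Set G)) : P ≤ normalizer ((A ⊓ B : Subgroup G) : Set G) := by
  intro u hu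
  rw [mem_normalizer_iff]
  intro h
  have h1 := mem_normalizer_iff.mp (hA hu) h
  have h2 := mem_normalizer_iff.mp (hB hu) h
  rw [mem_inf, mem_inf, h1, h2]

theorem le_nz_sup {P A B : Subgroup G} (hA : P ≤ normalizer (A : Set G))
    (hB : P ≤ normalizer (B : Set G)) : P ≤ normalizer ((A ⊔ B : Subgroup G) : Set G) := by
  intro u hu
  apply mem_nz_of_cg_eq
  have h : cg (A ⊔ B) u = cg A u ⊔ cg B u := Subgroup.map_sup _ _ _
  rw [h, cg_eq_of_mem_nz (hA hu), cg_eq_of_mem_nz (hB hu)]

theorem le_nz_of_centralizer {P A : Subgroup G} (h : P ≤ centralizer (A : Set G)) :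
    P ≤ normalizer (A : Set G) :=
  h.trans (H26.centralizer_le_normalizer' A)

variable {P R : Subgroup G}

/-- `[R, P] = R` for a minimal nontrivial coprime action. -/
theorem min_commutator (hn : P ≤ normalizer (R : Set G))
    (hcop : (Nat.card P).Coprime (Nat.card R)) (hne : ¬ P ≤ centralizer (R : Set G))
    (hmin : ∀ A < R, P ≤ normalizer (A : Set G) → P ≤ centralizer (A : Set G)) :
    ⁅R, P⁆ = R := by
  by_contra h
  have h1 : ⁅R, P⁆ < R := lt_of_le_of_ne (H23.commutator_le_of_le_normalizer hn) h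
  have h2 := hmin _ h1 (le_nz_commutator hn le_normalizer)
  rw [le_centralizer_iff, ← commutator_eq_bot_iff_le_centralizer] at h2
  have h3 := H23.commutator_eq_bot_of_commutator_commutator hn hcop h2
  rw [commutator_eq_bot_iff_le_centralizer, le_centralizer_iff] at h3
  exact hne h3

/-- Proper `P`-invariant normal subgroups of `R` are central. -/
theorem min_central (hn : P ≤ normalizer (R : Set G))
    (hcop : (Nat.card P).Coprime (Nat.card R)) (hne : ¬ P ≤ centralizer (R : Set G))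
    (hmin : ∀ A < R, P ≤ normalizer (A : Set G) → P ≤ centralizer (A : Set G))
    {A : Subgroup G} (hA : A < R) (hPA : P ≤ normalizer (A : Set G))
    (hRA : R ≤ normalizer (A : Set G)) : A ≤ centralizer (R : Set G) := by
  have h1 := hmin A hA hPA
  have h2 : ⁅⁅P, A⁆, R⁆ = ⊥ := by
    rw [(commutator_eq_bot_iff_le_centralizer).mpr h1, commutator_bot_left]
  have h3 : ⁅⁅A, R⁆, P⁆ = ⊥ := by
    rw [commutator_eq_bot_iff_le_centralizer, le_centralizer_iff]
    exact h1.trans (centralizer_le (H23.commutator_le_of_le_normalizer hRA))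
  have h4 := commutator_commutator_eq_bot_of_rotate h2 h3
  rw [min_commutator hn hcop hne hmin, commutator_eq_bot_iff_le_centralizer,
    le_centralizer_iff] at h4
  exact h4

end grp

end Cfsg.Agent.H27
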