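import Cfsg.Agent.H27.TISolv

set_option autoImplicit false

/-! # Minimal coprime actions: degrees of faithful characters -/

universe u

namespace Cfsg.Agent.H27

open Subgroup Cfsg Cfsg.Agent.H3
open scoped ComplexConjugate commutatorElement
open Cfsg.Agent.H26 (cg mem_cg cg_eq_of_mem_nz mem_nz_of_cg_eq normConj irrMap irrMap_apply
  irrMap_apply')

variable {G : Type u} [Group G] [Finite G] {P R : Subgroup G} {χ : G → ℂ}

/-- A nontrivial value on the restriction gives a constituent with nontrivial value. -/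
theorem exists_constituent_ne [Fintype R] (hχ : IsCharacter G χ) {g : R}
    (hg : χ g ≠ χ 1) : ∃ ψ : IrrCharacter R,
      classInner (fun x : R => χ x) (ψ : R → ℂ) ≠ 0 ∧ (ψ : R → ℂ) g ≠ (ψ : R → ℂ) 1 := by
  by_contra hcon
  push Not at hcon
  apply hg
  exact char_eq_one_of_constituents (isChar_restrict R hχ) (g := g)
    (fun ψ hψ h => hcon ⟨ψ, hψ⟩ h)

theorem classInner_irrMap [Fintype R] (hχ : IsCharacter G χ) {u : G}
    (hu : u ∈ normalizer (R : Set G)) (ψ : IrrCharacter R) :
    classInner (fun x : R => χ x) (irrMap (normConj R hu) ψ : R → ℂ) =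
      classInner (fun x : R => χ x) (ψ : R → ℂ) := by
  unfold classInner
  congr 1
  symm
  apply Fintype.sum_equiv (normConj R hu).toEquiv
  intro x
  change χ x * _ = χ ((normConj R hu x : R) : G) * conj
    ((irrMap (normConj R hu) ψ : R → ℂ) (normConj R hu x))
  rw [irrMap_apply', H26.normConj_coe]
  rw [char_classFun hχ]

/-- The abelian case. -/
theorem card_le_of_abelian (hn : P ≤ normalizer (R : Set G))
    (hcop : (Nat.card P).Coprime (Nat.card R)) (hne : ¬ P ≤ centralizer (R : Set G))
    (hmin : ∀ A < R, P ≤ normalizer (A : Set G) → P ≤ centralizer (A : Set G))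
    (hC : ∀ u ∈ P, u ≠ 1 → ∀ x ∈ R, x * u = u * x → x ∈ centralizer (P : Set G))
    (hab : IsMulCommutative R)
    (hχ : IsCharacter G χ) (hf : ∀ g, χ g = χ 1 → g = 1) : Nat.card P ≤ charDegree χ := by
  classical
  have := Fintype.ofFinite G
  have := Fintype.ofFinite R
  have := Fintype.ofFinite P
  have := Fintype.ofFinite (IrrCharacter R)
  have hinf : R ⊓ centralizer (P : Set G) = ⊥ := by
    have h := H23.commutator_inf_centralizer_of_abelian hn hcop hab
    rwa [min_commutator hn hcop hne hmin] at h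
  have hRne : ∃ g : R, g ≠ 1 := by
    by_contra hcon
    push Not at hcon
    apply hne
    intro u _
    rw [mem_centralizer_iff]
    intro x hx
    have := congrArg Subtype.val (hcon ⟨x, hx⟩)
    change x = 1 at this
    rw [this]; group
  obtain ⟨g, hg⟩ := hRne
  have hg' : χ g ≠ χ 1 := fun h => hg (Subtype.ext (hf _ h))
  obtain ⟨ψ, hψ, hψg⟩ := exists_constituent_ne hχ hg'
  have hψ1 : (ψ : R → ℂ) 1 = 1 := irr_degree_one_of_comm ψ.2
  obtain ⟨μ, hμ⟩ := exists_hom_of_one (irr_isChar ψ.2) hψ1
  -- the conjugates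
  set f : P → IrrCharacter R := fun u => irrMap (normConj R (hn u.2)) ψ with hfdef
  have hinj : Function.Injective f := by
    intro u v huv
    by_contra huvne
    set w : G := (u : G)⁻¹ * v with hw
    have hwP : w ∈ P := P.mul_mem (P.inv_mem u.2) v.2
    have hw1 : w ≠ 1 := by
      intro h
      apply huvne
      apply Subtype.ext
      rw [hw, inv_mul_eq_one] at h
      exact h
    have hwn := hn hwP
    -- `ψ` is `w`-invariant
    have hinv : ∀ y : R, (ψ : R → ℂ) (normConj R hwn y) = (ψ : R → ℂ) y := by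
      intro y
      have h1 : (f u : R → ℂ) (normConj R (hn v.2) y) = (f v : R → ℂ) (normConj R (hn v.2) y) := by
        rw [huv]
      simp only [hfdef] at h1
      rw [irrMap_apply', irrMap_apply] at h1
      rw [← h1]
      refine congrArg (ψ : R → ℂ) ?_
      apply (normConj R (hn u.2)).injective
      rw [MulEquiv.apply_symm_apply]
      apply Subtype.ext
      rw [H26.normConj_coe, H26.normConj_coe, H26.normConj_coe, hw]
      group
    have hsurj : Function.Surjective (fun x : R => normConj R hwn x * x⁻¹) := by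
      rw [← Finite.injective_iff_surjective]
      intro x y hxy
      simp only at hxy
      have hcomm : ∀ a b : R, a * b = b * a := fun a b => hab.is_comm.comm a b
      have h1 : normConj R hwn (y⁻¹ * x) = y⁻¹ * x := by
        rw [map_mul, map_inv]
        have e1 : normConj R hwn x = normConj R hwn y * y⁻¹ * x := by
          rw [← hxy]; group
        rw [e1]
        group
      have h2 : ((y⁻¹ * x : R) : G) ∈ R ⊓ centralizer (P : Set G) := by
        refine ⟨(y⁻¹ * x).2, ?_⟩
        apply hC w hwP hw1 _ (y⁻¹ * x).2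
        have h3 := congrArg Subtype.val h1
        rw [H26.normConj_coe] at h3
        rw [mul_inv_eq_iff_eq_mul] at h3
        exact h3.symm
      rw [hinf, mem_bot] at h2
      have h3 : y⁻¹ * x = 1 := Subtype.ext h2
      rw [inv_mul_eq_one] at h3
      exact h3.symm
    obtain ⟨x, hx⟩ := hsurj g
    apply hψg
    rw [← hx]
    simp only
    rw [hμ, map_mul, map_inv, Units.val_mul, ← hμ, hinv, hμ, hμ, ← Units.val_mul,
      mul_inv_cancel, map_one]
  -- counting
  obtain ⟨m, hm, hm2⟩ := char_expand (isChar_restrict R hχ)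
  have hm1 : χ 1 = ∑ ψ' : IrrCharacter R, (m ψ' : ℂ) * (ψ' : R → ℂ) 1 := by
    have := congrFun hm2 1
    simpa [Finset.sum_apply] using this
  have h1 : ∀ ψ' : IrrCharacter R, (ψ' : R → ℂ) 1 = 1 := fun ψ' => irr_degree_one_of_comm ψ'.2
  simp only [h1, mul_one] at hm1
  have hdeg : charDegree χ = ∑ ψ' : IrrCharacter R, m ψ' := by
    have : (charDegree χ : ℂ) = ((∑ ψ' : IrrCharacter R, m ψ' : ℕ) : ℂ) := by
      rw [charDegree_cast hχ, hm1]; push_cast; rfl
    exact_mod_cast this
  rw [hdeg, Nat.card_eq_fintype_card, ← Finset.card_univ,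
    ← Finset.card_image_of_injective Finset.univ hinj]
  have hpos : ∀ ψ' ∈ Finset.image f Finset.univ, 1 ≤ m ψ' := by
    intro ψ' hψ'
    obtain ⟨u, _, rfl⟩ := Finset.mem_image.mp hψ'
    have h2 : (m (f u) : ℂ) ≠ 0 := by
      rw [← hm]
      simp only [hfdef]
      rw [classInner_irrMap hχ]
      exact hψ
    have h3 : m (f u) ≠ 0 := by exact_mod_cast h2
    omega
  calc (Finset.image f Finset.univ).card = ∑ _ψ' ∈ Finset.image f Finset.univ, 1 := by simp
    _ ≤ ∑ ψ' ∈ Finset.image f Finset.univ, m ψ' := Finset.sum_le_sum hpos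
    _ ≤ ∑ ψ' : IrrCharacter R, m ψ' :=
      Finset.sum_le_sum_of_subset (Finset.subset_univ _)

/-- Semiregular action modulo the centre. -/
theorem card_add_one_le_index {r : ℕ} [Fact r.Prime] (hR : IsPGroup r R)
    (hn : P ≤ normalizer (R : Set G))
    (hcop : (Nat.card P).Coprime (Nat.card R)) (hne : ¬ P ≤ centralizer (R : Set G))
    (hmin : ∀ A < R, P ≤ normalizer (A : Set G) → P ≤ centralizer (A : Set G))
    (hC : ∀ u ∈ P, u ≠ 1 → ∀ x ∈ R, x * u = u * x → x ∈ centralizer (P : Set G))
    (hZR : R ⊓ centralizer (R : Set G) < R) :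
    Nat.card P + 1 ≤ ((R ⊓ centralizer (R : Set G)).subgroupOf R).index := by
  classical
  set Z : Subgroup G := R ⊓ centralizer (R : Set G) with hZ
  have hPZn : P ≤ normalizer (Z : Set G) := le_nz_inf hn (le_nz_centralizer hn)
  have hPZ : P ≤ centralizer (Z : Set G) := hmin Z hZR hPZn
  -- `R ∩ C(P) ≤ Z`
  have hCZ : R ⊓ centralizer (P : Set G) ≤ Z := by
    have hcomm : ⁅R, R⁆ < R := by
      apply H23.commutator_lt_of_isPGroup hR hR le_normalizer
      rintro rfl
      exact hne (fun u _ => by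
        rw [mem_centralizer_iff]
        intro x hx
        rw [SetLike.mem_coe, mem_bot] at hx
        rw [hx]; group)
    have hcommZ : ⁅R, R⁆ ≤ Z :=
      le_inf hcomm.le (min_central hn hcop hne hmin hcomm (le_nz_commutator hn hn)
        (le_nz_commutator le_normalizer le_normalizer))
    set A : Subgroup G := (R ⊓ centralizer (P : Set G)) ⊔ Z with hA
    have hAR : A ≤ R := sup_le inf_le_left hZR.le
    have hPA : P ≤ centralizer (A : Set G) := by
      rw [le_centralizer_iff]
      exact sup_le inf_le_right ((le_centralizer_iff).mp hPZ)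
    have hAlt : A < R := by
      refine lt_of_le_of_ne hAR fun h => ?_
      rw [h] at hPA
      exact hne hPA
    have hRA : R ≤ normalizer (A : Set G) := by
      apply le_normalizer_iff_commutator_le_left.mpr
      exact (commutator_mono hAR le_rfl).trans (hcommZ.trans le_sup_right)
    have h1 := min_central hn hcop hne hmin hAlt (le_nz_of_centralizer hPA) hRA
    exact le_sup_left.trans (le_inf hAR h1)
  -- semiregularity
  have hsemi : ∀ u ∈ P, u ≠ 1 → ∀ x ∈ R, x⁻¹ * (u * x * u⁻¹) ∈ Z → x ∈ Z := by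
    intro u hu hu1 x hx hux
    have hsub : ∀ a ∈ zpowers u, a ∈ P ∧ x⁻¹ * (a * x * a⁻¹) ∈ Z := by
      let S : Subgroup G :=
        { carrier := {a | a ∈ P ∧ x⁻¹ * (a * x * a⁻¹) ∈ Z}
          one_mem' := ⟨P.one_mem, by simp [Z.one_mem]⟩
          mul_mem' := by
            rintro a b ⟨ha, ha'⟩ ⟨hb, hb'⟩
            refine ⟨P.mul_mem ha hb, ?_⟩
            have h1 : a * (x⁻¹ * (b * x * b⁻¹)) * a⁻¹ ∈ Z :=
              (mem_normalizer_iff.mp (hPZn ha) _).mp hb'
            have h2 := Z.mul_mem ha' h1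
            have e : x⁻¹ * (a * x * a⁻¹) * (a * (x⁻¹ * (b * x * b⁻¹)) * a⁻¹) =
              x⁻¹ * (a * b * x * (a * b)⁻¹) := by group
            rwa [e] at h2
          inv_mem' := by
            rintro a ⟨ha, ha'⟩
            refine ⟨P.inv_mem ha, ?_⟩
            have h1 : a⁻¹ * (x⁻¹ * (a * x * a⁻¹))⁻¹ * a⁻¹⁻¹ ∈ Z :=
              (mem_normalizer_iff.mp (hPZn (P.inv_mem ha)) _).mp (Z.inv_mem ha')
            have e : a⁻¹ * (x⁻¹ * (a * x * a⁻¹))⁻¹ * a⁻¹⁻¹ = x⁻¹ * (a⁻¹ * x * a⁻¹⁻¹) := by group
            rwa [e] at h1 }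
      have hle : zpowers u ≤ S := by
        rw [zpowers_le]
        exact ⟨hu, hux⟩
      exact fun a ha => hle ha
    have hle : zpowers u ≤ P := by rw [zpowers_le]; exact hu
    have hcopZ : (Nat.card (zpowers u)).Coprime (Nat.card Z) :=
      Nat.Coprime.of_dvd (card_dvd_of_le hle) (card_dvd_of_le hZR.le) hcop
    obtain ⟨c, hc, n, hnZ, hxc⟩ := H23.mem_sup_of_commutator_mem (A := zpowers u) (N := Z)
      (hle.trans hPZn) hcopZ (Or.inl inferInstance) (g := x) (fun a ha => by
        have h1 := (hsub a ha).2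
        have e : ⁅x⁻¹, a⁆ = x⁻¹ * (a * x * a⁻¹) := by rw [commutatorElement_def]; group
        rw [e]; exact h1)
    have hcR : c ∈ R := by
      have : c = x * n⁻¹ := by rw [hxc]; group
      rw [this]
      exact R.mul_mem hx (R.inv_mem (hZR.le hnZ))
    have hcP : c ∈ centralizer (P : Set G) := by
      apply hC u hu hu1 c hcR
      exact (mem_centralizer_iff.mp hc u (mem_zpowers u)).symm
    rw [hxc]
    exact Z.mul_mem (hCZ ⟨hcR, hcP⟩) hnZ
  obtain ⟨x, hxR, hxZ⟩ := SetLike.exists_of_lt hZR
  -- the injection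
  have hconj : ∀ u ∈ P, u * x * u⁻¹ ∈ R := fun u hu => (mem_normalizer_iff.mp (hn hu) x).mp hxR
  set Z' : Subgroup R := Z.subgroupOf R with hZ'
  let f : Option P → R ⧸ Z' := fun o => match o with
    | none => ((1 : R) : R ⧸ Z')
    | some u => ((⟨(u : G) * x * (u : G)⁻¹, hconj u u.2⟩ : R) : R ⧸ Z')
  have hf : Function.Injective f := by
    rintro (_ | u) (_ | v) h
    · rfl
    · exfalso
      have h1 := QuotientGroup.eq.mp h
      rw [hZ', mem_subgroupOf] at h1
      change (1 : G)⁻¹ * ((v : G) * x * (v : G)⁻¹) ∈ Z at h1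
      rw [inv_one, one_mul] at h1
      exact hxZ ((mem_normalizer_iff.mp (hPZn v.2) x).mpr h1)
    · exfalso
      have h1 := QuotientGroup.eq.mp h.symm
      rw [hZ', mem_subgroupOf] at h1
      change (1 : G)⁻¹ * ((u : G) * x * (u : G)⁻¹) ∈ Z at h1
      rw [inv_one, one_mul] at h1
      exact hxZ ((mem_normalizer_iff.mp (hPZn u.2) x).mpr h1)
    · have h1 := QuotientGroup.eq.mp h
      rw [hZ', mem_subgroupOf] at h1
      change ((u : G) * x * (u : G)⁻¹)⁻¹ * ((v : G) * x * (v : G)⁻¹) ∈ Z at h1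
      by_cases huv : u = v
      · rw [huv]
      · exfalso
        apply hxZ
        apply hsemi ((u : G)⁻¹ * v) (P.mul_mem (P.inv_mem u.2) v.2) _ x hxR
        · have h2 := (mem_normalizer_iff.mp (hPZn (P.inv_mem u.2)) _).mp h1
          have e : (u : G)⁻¹ * (((u : G) * x * (u : G)⁻¹)⁻¹ * ((v : G) * x * (v : G)⁻¹)) *
              (u : G)⁻¹⁻¹ = x⁻¹ * ((u : G)⁻¹ * v * x * ((u : G)⁻¹ * v)⁻¹) := by group
          rwa [e] at h2
        · intro h3
          apply huv
          apply Subtype.ext
          rwa [inv_mul_eq_one] at h3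
  have h1 := Nat.card_le_card_of_injective f hf
  rw [Finite.card_option] at h1
  exact h1

end Cfsg.Agent.H27
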